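import Mathlib.AlgebraicGeometry.ZariskisMainTheorem
import Mathlib.AlgebraicGeometry.Morphisms.SchemeTheoreticallyDominant
import Mathlib.AlgebraicGeometry.Morphisms.UniversallyOpen
import Groth.Agent.Ega43.NormalOpen
import Groth.Agent.PosLin.K931.NormalFib
import Groth.Agent.Models.DVRGeneric2

/-!
# Proper dominant morphisms to a normal scheme are universally open over the points with finite fibre
-/

set_option autoImplicit false
universe u
open CategoryTheory CategoryTheory.Limits AlgebraicGeometry IsLocalRing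

namespace Groth.Agent.K382.UnivOpen

theorem affine_case {X Y : Scheme.{u}} [IsAffine X] [IsAffine Y] [IsIntegral X] [IsIntegral Y]
    (hn : ∀ y : Y, IsIntegrallyClosed (Y.presheaf.stalk y)) (ψ : X ⟶ Y) [IsFinite ψ] [IsDominant ψ] :
    UniversallyOpen ψ := by
  have hne : Nonempty (⊤ : Y.Opens) := ⟨⟨genericPoint Y, trivial⟩⟩
  have hne' : Nonempty (⊤ : X.Opens) := ⟨⟨genericPoint X, trivial⟩⟩
  have hd1 : IsDomain Γ(Y, ⊤) := inferInstance
  have hd2 : IsDomain Γ(X, ⊤) := inferInstance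
  have hic : IsIntegrallyClosed Γ(Y, ⊤) := K931.NormalFib.isIntegrallyClosed_sections hn ⊤
  have hfin : ψ.appTop.hom.Finite := ψ.finite_appTop
  have hinj : Function.Injective ψ.appTop.hom := by
    have : IsSchemeTheoreticallyDominant ψ := IsSchemeTheoreticallyDominant.of_isDominant _
    exact ψ.app_injective ⊤
  have hso : UniversallyOpen (Spec.map ψ.appTop) := by
    let _ := ψ.appTop.hom.toAlgebra
    have h1 : Module.Finite Γ(Y, ⊤) Γ(X, ⊤) := hfin
    have h2 : FaithfulSMul Γ(Y, ⊤) Γ(X, ⊤) := (faithfulSMul_iff_algebraMap_injective _ _).2 hinj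
    exact Groth.Agent.Ega43.NormalOpen.universallyOpen_of_isIntegral (R := Γ(Y, ⊤)) (S := Γ(X, ⊤))
  have h4 : ψ = X.isoSpec.hom ≫ Spec.map ψ.appTop ≫ Y.isoSpec.inv := by
    rw [← Category.assoc, Scheme.isoSpec_hom_naturality, Category.assoc, Iso.hom_inv_id, Category.comp_id]
  rw [h4]
  infer_instance

/-- A proper dominant morphism of integral schemes with normal target is universally open over a neighbourhood of a
point with finite fibre. -/
theorem exists_univOpen {X Y : Scheme.{u}} [IsIntegral X] [IsIntegral Y]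
    (hn : ∀ y : Y, IsIntegrallyClosed (Y.presheaf.stalk y)) (φ : X ⟶ Y) [IsProper φ] [IsDominant φ] (y : Y)
    (hfin : (φ ⁻¹' {y}).Finite) :
    ∃ V : Y.Opens, y ∈ V ∧ UniversallyOpen ((φ ⁻¹ᵁ V).ι ≫ φ) := by
  obtain ⟨V₁, hyV₁, hV₁⟩ := exists_isFinite_morphismRestrict_of_finite_preimage_singleton φ y hfin
  obtain ⟨V, hV, hyV, hVV₁⟩ := exists_isAffineOpen_mem_and_subset hyV₁
  refine ⟨V, hyV, ?_⟩
  -- `φ` restricted to `V` is finite
  have hfV : IsFinite (φ ∣_ V) := by
    have h1 : IsFinite ((φ ∣_ V₁) ∣_ (V₁.ι ⁻¹ᵁ V)) := inferInstance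
    have h2 := (MorphismProperty.arrow_mk_iso_iff @IsFinite
      (morphismRestrictRestrict φ V₁ (V₁.ι ⁻¹ᵁ V))).1 h1
    have h3 : V₁.ι ''ᵁ (V₁.ι ⁻¹ᵁ V) = V := by
      rw [Scheme.Hom.image_preimage_eq_opensRange_inf, Scheme.Opens.opensRange_ι]
      exact inf_eq_right.2 hVV₁
    rw [h3] at h2
    exact h2
  have hV' : IsAffine (V : Scheme.{u}) := hV
  have hU' : IsAffine (φ ⁻¹ᵁ V : Scheme.{u}) := isAffine_of_isAffineHom (φ ∣_ V)
  have hne : Nonempty (V : Scheme.{u}) := ⟨⟨y, hyV⟩⟩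
  have hne' : Nonempty (φ ⁻¹ᵁ V : Scheme.{u}) := by
    obtain ⟨_, hx, ⟨x, rfl⟩⟩ := φ.denseRange.inter_open_nonempty V V.isOpen ⟨y, hyV⟩
    exact ⟨⟨x, hx⟩⟩
  have hi1 : IsIntegral (V : Scheme.{u}) := isIntegral_of_isOpenImmersion V.ι
  have hi2 : IsIntegral (φ ⁻¹ᵁ V : Scheme.{u}) := isIntegral_of_isOpenImmersion (φ ⁻¹ᵁ V).ι
  have hn' : ∀ y : (V : Scheme.{u}), IsIntegrallyClosed ((V : Scheme.{u}).presheaf.stalk y) := by
    intro z
    have := hn z.1
    exact IsIntegrallyClosed.of_equiv (V.stalkIso z).symm.commRingCatIsoToRingEquiv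
  have hdom : IsDominant (φ ∣_ V) := IsZariskiLocalAtTarget.restrict ‹IsDominant φ› V
  have h := affine_case hn' (φ ∣_ V)
  rw [← morphismRestrict_ι]
  infer_instance

end Groth.Agent.K382.UnivOpen
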