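import Groth.Agent.Models.K382.NodeOpen
import Groth.Agent.Models.K382.UnivOpen
import Groth.Agent.Models.NodeLocus
import Groth.Agent.S7889
import Groth.Agent.S14315
import Groth.Agent.CurvesB.DimOneTop
import Groth.Agent.CurvesC.RegNormal

/-!
# Maps between nodal models of curves over a discrete valuation ring
-/

set_option autoImplicit false
universe u
open CategoryTheory CategoryTheory.Limits AlgebraicGeometry IsLocalRing

namespace Groth.Agent.K382.ModelMap

/-- A scheme flat over a discrete valuation ring with integral generic fibre is integral, the generic fibre is dense. -/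
theorem isIntegral_of_flat (R L : Type u) [CommRing R] [IsDomain R] [Field L] [Algebra R L] [IsFractionRing R L]
    {X Z : Scheme.{u}} (p : X ⟶ Spec (CommRingCat.of R)) [Flat p] (w : Z ⟶ X) (z : Z ⟶ Spec (CommRingCat.of L))
    (h : IsPullback w z p (Spec.map (CommRingCat.ofHom (algebraMap R L)))) [IsIntegral Z] :
    IsIntegral X ∧ IsDominant w := by
  have h0 : IsDominant (Spec.map (CommRingCat.ofHom (algebraMap R L))) := by
    constructor
    change DenseRange (PrimeSpectrum.comap (algebraMap R L))
    rw [PrimeSpectrum.denseRange_comap_iff_ker_le_nilRadical,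
      (RingHom.injective_iff_ker_eq_bot _).mp (IsFractionRing.injective R L)]
    exact bot_le
  have h1 : IsSchemeTheoreticallyDominant (Spec.map (CommRingCat.ofHom (algebraMap R L))) :=
    IsSchemeTheoreticallyDominant.of_isDominant _
  have h2 : IsSchemeTheoreticallyDominant w := IsSchemeTheoreticallyDominant.of_isPullback h.flip
  have h3 : QuasiCompact w := MorphismProperty.of_isPullback h.flip inferInstance
  have h4 : IsReduced X := IsSchemeTheoreticallyDominant.isReduced w
  have h5 : IrreducibleSpace X := by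
    rw [irreducibleSpace_def]
    convert! ((IrreducibleSpace.isIrreducible_univ Z).image _ w.continuous.continuousOn).closure
    simpa using w.denseRange.closure_range.symm
  exact ⟨isIntegral_of_irreducibleSpace_of_isReduced _, ⟨w.denseRange⟩⟩

/-- A finite morphism of integral one-dimensional schemes is surjective. -/
theorem surjective_of_isFinite {X Y : Scheme.{u}} [IsIntegral X] [IsIntegral Y] (hX : topologicalKrullDim X = 1)
    (hY : topologicalKrullDim Y = 1) (f : X ⟶ Y) [IsFinite f] : Surjective f := by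
  have h1 : f (genericPoint X) = genericPoint Y := by
    by_contra hne
    obtain ⟨-, h2⟩ := CurvesB.DimOneTop.topologicalKrullDim_eq_one_iff.1 hY
    have h3 : ∀ z, f (genericPoint X) ⤳ z → z = f (genericPoint X) := (h2 _).resolve_right fun h =>
      hne (h _ (genericPoint_specializes _)).symm
    have h4 : ∀ x, f x = f (genericPoint X) := fun x => h3 _ ((genericPoint_specializes x).map f.continuous)
    obtain ⟨_, ⟨a, rfl⟩, _, ⟨b, rfl⟩, hab⟩ := Groth.Agent.S14315.nontrivial_range f hX
    exact hab ((h4 a).trans (h4 b).symm)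
  have hc : IsClosed (Set.range f) := f.isClosedMap.isClosed_range
  constructor
  intro z
  have h5 : z ∈ closure {f (genericPoint X)} := by
    rw [h1, genericPoint_closure]; trivial
  have h6 : ({f (genericPoint X)} : Set Y) ⊆ Set.range f := by
    rintro _ rfl
    exact ⟨_, rfl⟩
  exact closure_minimal h6 hc h5

/-- The main statement. -/
theorem preimage_subset (R : Type u) [CommRing R] [IsDomain R] [IsDiscreteValuationRing R]
    (X Y : Scheme.{u}) (fX : X ⟶ Spec (CommRingCat.of (FractionRing R))) (fY : Y ⟶ Spec (CommRingCat.of (FractionRing R)))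
    (hX : Curve.IsSmoothProperCurve (FractionRing R) X fX)
    (hY : Curve.IsSmoothProperCurve (FractionRing R) Y fY)
    (f : X ⟶ Y) [IsFinite f]
    (XR : Scheme.{u}) (p : XR ⟶ Spec (CommRingCat.of R)) [IsProper p] (hp : Curv2.IsNodalFamily p)
    (iX : X ⟶ XR) (hiX : IsPullback iX fX p (Spec.map (CommRingCat.ofHom (algebraMap R (FractionRing R)))))
    (YR : Scheme.{u}) (q : YR ⟶ Spec (CommRingCat.of R)) [IsProper q] (hq : Curv2.IsNodalFamily q)
    (iY : Y ⟶ YR) (hiY : IsPullback iY fY q (Spec.map (CommRingCat.ofHom (algebraMap R (FractionRing R)))))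
    (φ : XR ⟶ YR) (hφ : φ ≫ q = p) (hφf : iX ≫ φ = f ≫ iY)
    (y : YR) (hys : q.base y = IsLocalRing.closedPoint R) (hy : y ∈ DualGr.nonsmoothPts q)
    (hfin : (φ.base ⁻¹' ({y} : Set YR)).Finite) :
    φ.base ⁻¹' ({y} : Set YR) ⊆ DualGr.nonsmoothPts p := by
  obtain ⟨hXp, hXs, hXi, hXd⟩ := hX
  obtain ⟨hYp, hYs, hYi, hYd⟩ := hY
  obtain ⟨ϖ, hϖ⟩ := IsDiscreteValuationRing.exists_irreducible R
  have hpf : Flat p := hp.1
  have hqf : Flat q := hq.1
  have hpl : LocallyOfFinitePresentation p := hp.2.1
  have hql : LocallyOfFinitePresentation q := hq.2.1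
  obtain ⟨hXR, hXd'⟩ := isIntegral_of_flat R (FractionRing R) p iX fX hiX
  obtain ⟨hYR, hYd'⟩ := isIntegral_of_flat R (FractionRing R) q iY fY hiY
  have hYN : IsLocallyNoetherian YR := LocallyOfFiniteType.isLocallyNoetherian q
  -- `YR` is normal
  have hN : ∀ z : YR, IsDomain (YR.presheaf.stalk z) ∧ IsIntegrallyClosed (YR.presheaf.stalk z) := by
    refine Groth.Agent.S7889.result q hq fun z hz => ?_
    have h1 : z ∈ Set.range iY := by
      refine Groth.Agent.Models.NodeLocus.mem_range_of_model hiY z fun h => ?_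
      rw [h] at hz
      exact (IsDiscreteValuationRing.not_isField R) (IsLocalRing.isField_iff_maximalIdeal_eq.2 hz)
    have h2 := Groth.Agent.Models.NodeLocus.regular_generic hiY z h1
    exact ⟨Groth.Agent.CalgA.RegBasic.isDomain _, CurvesC.RegNormal.isIntegrallyClosed _⟩
  -- `φ` is proper and dominant
  have hφp : IsProper φ := by
    have : IsProper (φ ≫ q) := by rw [hφ]; infer_instance
    exact IsProper.of_comp φ q
  have hfs : Surjective f := surjective_of_isFinite hXd hYd f
  have hφd : IsDominant φ := by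
    have : IsDominant (iX ≫ φ) := by rw [hφf]; infer_instance
    exact IsDominant.of_comp iX φ
  obtain ⟨V, hyV, hV⟩ := UnivOpen.exists_univOpen (fun z => (hN z).2) φ y hfin
  intro x hx
  have hxy : φ x = y := hx
  have hxV : x ∈ φ ⁻¹ᵁ V := by
    change φ x ∈ V
    rw [hxy]; exact hyV
  have h1 := NodeOpen.notMem_smoothLocus hϖ ((φ ⁻¹ᵁ V).ι ≫ p) q hq ((φ ⁻¹ᵁ V).ι ≫ φ)
    (by rw [Category.assoc, hφ]) ⟨x, hxV⟩ (by
      rw [← hφ]
      change q (φ x) = _
      rw [hxy]; exact hys) (by
      change φ x ∉ q.smoothLocus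
      rw [hxy]; exact hy)
  intro h2
  apply h1
  rw [← Scheme.Hom.preimage_smoothLocus_eq]
  exact h2

end Groth.Agent.K382.ModelMap
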