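import Groth.Agent.S3314
import Groth.Agent.S3315
import Groth.Agent.Models.H65.GenTriv
import Groth.Agent.Models.H71.Comps
import Mathlib.Algebra.BigOperators.Group.Finset.Basic
import Mathlib.Algebra.GCDMonoid.Finset

/-!
# The kernel of `Pic X → Pic C` for a regular proper model

In the group `Pic X` (`Grpsch.PicGrp.Pic`), `l i` the class of `O_X(Γ_i)`:
* `prod_zpow_eq_one_iff`: `∏ l_i ^ c_i = 1` iff `c` is an integer multiple of the vector of multiplicities;
* `exists_prod_zpow`: a class which is trivial on the generic fibre is of the form `∏ l_i ^ c_i`;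
* `existsUnique_exponent`: group theory for the `h`-torsion of the kernel.
-/

set_option autoImplicit false
universe u

open CategoryTheory CategoryTheory.Limits AlgebraicGeometry Opposite TopologicalSpace

namespace Groth.Agent.K382.KerPic

open Groth.Agent.Grpsch.PicGrp Groth.Agent.Dix.IdealModCartier Groth.Agent.Models.H65.PicDeg
  Groth.Agent.Fdesc.LocGen

section Group

variable {G : Type*} [CommGroup G] {n : ℕ} (l : Fin n → G) (m : Fin n → ℕ)

/-- Group theory for the `h`-torsion. -/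
theorem existsUnique_exponent (hn : 0 < n) (hm : ∀ i, 0 < m i)
    (H : ∀ c : Fin n → ℤ, ∏ i, l i ^ c i = 1 ↔ ∃ t : ℤ, ∀ i, c i = t * (m i : ℤ))
    (h : ℕ) (hh : 0 < h) (c : Fin n → ℤ) (hc : (∏ i, l i ^ c i) ^ h = 1) :
    ∃! k : ℕ, k < Nat.gcd h (Finset.univ.gcd m) ∧
      ∏ i, l i ^ c i = ∏ i, l i ^ (k * (m i / Nat.gcd h (Finset.univ.gcd m))) := by
  set d := Finset.univ.gcd m with hd
  set e := Nat.gcd h d with he
  have he0 : 0 < e := Nat.gcd_pos_of_pos_left _ hh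
  have hdm : ∀ i, d ∣ m i := fun i => Finset.gcd_dvd (Finset.mem_univ i)
  have hem : ∀ i, e ∣ m i := fun i => (Nat.gcd_dvd_right h d).trans (hdm i)
  -- exponents
  have h1 : ∏ i, l i ^ ((h : ℤ) * c i) = 1 := by
    rw [← hc, ← Finset.prod_pow]
    refine Finset.prod_congr rfl fun i _ => ?_
    rw [mul_comm, zpow_mul, zpow_natCast]
  obtain ⟨t, ht⟩ := (H _).mp h1
  -- `h ∣ t * d`
  have h2 : (h : ℤ) ∣ t * (d : ℤ) := by
    have h3 : ∀ i, h ∣ t.natAbs * m i := by
      intro i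
      have h4 : (h : ℤ) ∣ t * (m i : ℤ) := ⟨c i, (ht i).symm⟩
      have h5 := Int.natAbs_dvd_natAbs.mpr h4
      rwa [Int.natAbs_natCast, Int.natAbs_mul, Int.natAbs_natCast] at h5
    have h4 : h ∣ Finset.univ.gcd fun i => t.natAbs * m i := Finset.dvd_gcd fun i _ => h3 i
    rw [Finset.gcd_mul_left, normalize_eq] at h4
    rw [← Int.natAbs_dvd_natAbs, Int.natAbs_natCast, Int.natAbs_mul, Int.natAbs_natCast]
    exact h4
  obtain ⟨t', ht'⟩ : ∃ t' : ℤ, t * (e : ℤ) = t' * (h : ℤ) := by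
    -- `e = h x + d y`
    have h3 : (e : ℤ) = h * Nat.gcdA h d + d * Nat.gcdB h d := Nat.gcd_eq_gcd_ab h d
    obtain ⟨w, hw⟩ := h2
    refine ⟨t * Nat.gcdA h d + w * Nat.gcdB h d, ?_⟩
    rw [h3]
    calc t * (h * Nat.gcdA h d + d * Nat.gcdB h d)
        = h * (t * Nat.gcdA h d) + (t * d) * Nat.gcdB h d := by ring
      _ = _ := by rw [hw]; ring
  let μ : Fin n → ℕ := fun i => m i / e
  have hμ : ∀ i, (m i : ℤ) = (e : ℤ) * (μ i : ℤ) := by
    intro i
    have := Nat.mul_div_cancel' (hem i)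
    exact_mod_cast this.symm
  have hμ0 : ∀ i, (μ i : ℤ) ≠ 0 := by
    intro i h0
    have := hμ i
    rw [h0, mul_zero] at this
    have h4 := hm i
    omega
  have hcμ : ∀ i, c i = t' * (μ i : ℤ) := by
    intro i
    have h3 := ht i
    have h4 : (h : ℤ) ≠ 0 := by exact_mod_cast hh.ne'
    apply mul_left_cancel₀ h4
    rw [h3, hμ i]
    calc t * (e * μ i) = (t * e) * μ i := by ring
      _ = _ := by rw [ht']; ring
  let z : G := ∏ i, l i ^ μ i
  have hz : ∀ s : ℤ, ∏ i, l i ^ (s * (μ i : ℤ)) = z ^ s := by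
    intro s
    rw [← Finset.prod_zpow]
    refine Finset.prod_congr rfl fun i _ => ?_
    rw [mul_comm, zpow_mul, zpow_natCast]
  have hzn : ∀ k : ℕ, ∏ i, l i ^ (k * μ i) = z ^ k := by
    intro k
    rw [← Finset.prod_pow]
    refine Finset.prod_congr rfl fun i _ => ?_
    rw [mul_comm, pow_mul]
  have hx : ∏ i, l i ^ c i = z ^ t' := by
    rw [← hz]
    exact Finset.prod_congr rfl fun i _ => by rw [hcμ]
  have hz1 : ∀ s : ℤ, z ^ s = 1 ↔ (e : ℤ) ∣ s := by
    intro s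
    rw [← hz, H]
    constructor
    · rintro ⟨t, ht⟩
      have h3 := ht ⟨0, hn⟩
      rw [hμ] at h3
      refine ⟨t, mul_right_cancel₀ (hμ0 ⟨0, hn⟩) ?_⟩
      rw [h3]; ring
    · rintro ⟨t, rfl⟩
      refine ⟨t, fun i => ?_⟩
      rw [hμ i]; ring
  rw [hx]
  have he0' : (e : ℤ) ≠ 0 := by exact_mod_cast he0.ne'
  refine ⟨(t' % e).toNat, ⟨?_, ?_⟩, ?_⟩
  · have h3 := Int.emod_lt_of_pos t' (by exact_mod_cast he0 : (0 : ℤ) < e)
    have h4 := Int.emod_nonneg t' he0'
    omega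
  · change z ^ t' = ∏ i, l i ^ ((t' % e).toNat * μ i)
    rw [hzn, ← zpow_natCast, Int.toNat_of_nonneg (Int.emod_nonneg t' he0'), ← mul_inv_eq_one, ← zpow_sub,
      hz1]
    exact Int.dvd_self_sub_of_emod_eq rfl
  · rintro k ⟨hk, hk'⟩
    change z ^ t' = ∏ i, l i ^ (k * μ i) at hk'
    rw [hzn, ← zpow_natCast, ← mul_inv_eq_one, ← zpow_sub, hz1] at hk'
    have h3 : t' % e = (k : ℤ) % e :=
      Int.emod_eq_emod_iff_emod_sub_eq_zero.mpr (Int.emod_eq_zero_of_dvd hk')
    rw [h3, Int.emod_eq_of_lt (by positivity) (by exact_mod_cast hk)]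
    simp

end Group

section Geom

variable {R : Type u} [CommRing R] [IsDomain R] [IsDiscreteValuationRing R]
  {C X : Scheme.{u}} {f : C ⟶ Spec (CommRingCat.of (FractionRing R))} {p : X ⟶ Spec (CommRingCat.of R)}
  (hC : Curve.IsSmoothProperCurve (FractionRing R) C f) (hH0 : IsIso f.appTop)
  (hX : Models.IsRegularProperModel R X p C f)
  {n : ℕ} {Γ : Fin n → ArSurf.VertComp R (Over.mk p)} (hΓ : Models.IsComponentList R (Over.mk p) Γ)
  {L : Fin n → X.Modules} (hL : ∀ i, ClSub.IsInverseOf (L i) (ClSub.idealMod (Γ i).ι.ker))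
  (hLi : ∀ i, PicF.IsInvertible (L i))

include hC hH0 hX hΓ hL

theorem prod_zpow_eq_one_iff (c : Fin n → ℤ) :
    ∏ i, mk (L i) (hLi i) ^ c i = 1 ↔ ∃ t : ℤ, ∀ i, c i = t * (Models.mult R (Over.mk p) (Γ i) : ℤ) := by
  have h1 := S3314.result R C X f p hC hH0 hX Γ hΓ L hL (fun i => (c i).toNat) (fun i => (-c i).toNat)
  have h2 : Nonempty (FGA.multiTwist L (fun i => (c i).toNat) ≅ FGA.multiTwist L (fun i => (-c i).toNat)) ↔
      ∏ i, mk (L i) (hLi i) ^ c i = 1 := by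
    rw [← mk_eq_iff (isInvertible_multiTwist hLi _) (isInvertible_multiTwist hLi _),
      mk_multiTwist hLi, mk_multiTwist hLi, ← mul_inv_eq_one, ← Finset.prod_inv_distrib,
      ← Finset.prod_mul_distrib]
    have h3 : ∀ i, mk (L i) (hLi i) ^ (c i).toNat * (mk (L i) (hLi i) ^ (-c i).toNat)⁻¹ =
        mk (L i) (hLi i) ^ c i := by
      intro i
      rw [← zpow_natCast, ← zpow_natCast, ← zpow_neg, ← zpow_add, ← sub_eq_add_neg,
        Int.toNat_sub_toNat_neg]
    rw [Finset.prod_congr rfl fun i _ => h3 i]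
  rw [← h2, h1]
  refine exists_congr fun t => forall_congr' fun i => ?_
  rw [Int.toNat_sub_toNat_neg]

variable {g : C ⟶ X}
  (hg : IsPullback g f p (Spec.map (CommRingCat.ofHom (algebraMap R (FractionRing R)))))

include hg

theorem exists_prod_zpow (x : Pic X) (hx : pull g x = 1) :
    ∃ c : Fin n → ℤ, x = ∏ i, mk (L i) (hLi i) ^ c i := by
  obtain ⟨M, hM, rfl⟩ := exists_mk x
  rw [pull_mk, mk_eq_one_iff] at hx
  obtain ⟨a, b, hab⟩ := S3315.result R C X f p hC hH0 hX Γ hΓ g hg L hL M hM hx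
  refine ⟨fun i => (b i : ℤ) - (a i : ℤ), ?_⟩
  rw [← mk_eq_iff (isInvertible_tensorMod hM (isInvertible_multiTwist hLi a))
    (isInvertible_multiTwist hLi b), ← mk_mul_mk hM (isInvertible_multiTwist hLi a),
    mk_multiTwist hLi, mk_multiTwist hLi,
    ← eq_mul_inv_iff_mul_eq] at hab
  rw [hab, ← Finset.prod_inv_distrib, ← Finset.prod_mul_distrib]
  refine Finset.prod_congr rfl fun i _ => ?_
  rw [zpow_sub, zpow_natCast, zpow_natCast]

omit hC hH0 hX hΓ in
theorem pull_prod_zpow (c : Fin n → ℤ) : pull g (∏ i, mk (L i) (hLi i) ^ c i) = 1 := by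
  rw [map_prod]
  refine Finset.prod_eq_one fun i _ => ?_
  rw [map_zpow, Models.H65.GenTriv.pull_mk_eq_one hg (Γ i) (hL i) (hLi i), one_zpow]

end Geom

end Groth.Agent.K382.KerPic
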