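import Groth.Agent.Models.K954.StepDef
import Groth.Agent.S4440
import Groth.Agent.S7320
import Groth.Agent.S3837
import Groth.Agent.S2344
import Groth.Agent.Sga4h.H299.Geo
import Groth.Agent.Dix.HasBlow

/-!
# Extension of a morphism to a proper scheme at a point covered by a normal crossing chart
-/

set_option autoImplicit false
universe u

open CategoryTheory CategoryTheory.Limits AlgebraicGeometry IsLocalRing TopologicalSpace
open Groth.Agent.K954.NC Groth.Agent.K954.StepDef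

namespace Groth.Agent.K382.LocExt

/-- A proper generalization of a point whose local ring has dimension two has a local ring of dimension at most
one. -/
theorem dim_le_one {X : Scheme.{u}} {c z : X} (h : c ⤳ z) (hne : c ≠ z)
    (hz : ringKrullDim (X.presheaf.stalk z) = 2) : ringKrullDim (X.presheaf.stalk c) ≤ 1 := by
  have l1 : z < c := ⟨h, fun h' => hne (h.antisymm h').eq⟩
  have e1 := Order.coheight_add_one_le l1
  rw [(Groth.Agent.Dix.BlowIrr.coheight_eq_two_iff z).1 hz] at e1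
  have e2 : Order.coheight c ≤ 1 := by
    have h3 : Order.coheight c + 1 ≤ 1 + 1 := by
      rw [one_add_one_eq_two]; exact e1
    exact (ENat.add_le_add_iff_right (by decide)).1 h3
  rw [ringKrullDim_stalk_eq_coheight]
  exact_mod_cast e2

/-- In a Noetherian sober space, a closed set in which `z` has no proper generalization is locally at `z` the closure
of `z`. -/
theorem exists_open_inter {X : Type*} [TopologicalSpace X] [NoetherianSpace X] [QuasiSober X] (C : Set X)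
    (hC : IsClosed C) (z : X) (h : ∀ c ∈ C, c ⤳ z → c = z) :
    ∃ N : Set X, IsOpen N ∧ z ∈ N ∧ N ∩ C ⊆ closure {z} := by
  obtain ⟨S, hS, hcl, hirr, hSC⟩ := NoetherianSpace.exists_finite_set_isClosed_irreducible hC
  refine ⟨(⋃ s ∈ {s ∈ S | z ∉ s}, (s : Set X))ᶜ, ?_, ?_, ?_⟩
  · rw [isOpen_compl_iff]
    exact (hS.subset (Set.sep_subset _ _)).isClosed_biUnion fun s hs => hcl s hs.1
  · intro hz
    rw [Set.mem_iUnion₂] at hz
    obtain ⟨s, hs, hzs⟩ := hz
    exact hs.2 hzs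
  · rintro c ⟨hcN, hcC⟩
    rw [hSC] at hcC
    obtain ⟨s, hs, hcs⟩ := hcC
    have hzs : z ∈ s := by
      by_contra hzs
      exact hcN (Set.mem_iUnion₂.2 ⟨s, ⟨hs, hzs⟩, hcs⟩)
    obtain ⟨ξ, hξ⟩ := QuasiSober.sober (hirr s hs) (hcl s hs)
    have h1 : ξ ⤳ z := hξ.specializes hzs
    have h2 : ξ ∈ C := by
      rw [hSC]
      exact ⟨s, hs, hξ.mem⟩
    rw [h ξ h2 h1] at hξ
    exact specializes_iff_mem_closure.1 (hξ.specializes hcs)

/-- The source of a contraction sequence over an integral scheme is integral. -/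
theorem isIntegral_of_seq {W Z : Scheme.{u}} (g : W ⟶ Z) (hg : Models.IsContractionSeq g) [IsIntegral Z] :
    IsIntegral W := by
  revert ‹IsIntegral Z›
  induction hg with
  | @iso W Z e => intro _; exact IsIntegral.of_isIso e.inv
  | @step W Z X E ι b r hι hE hb hr ih =>
    intro _
    have := ih
    exact K111.NCDesc.integral_of_contraction hb

/-- **Extension over an isolated normal crossing point.** -/
theorem core {R : Type u} [CommRing R] {Y Z : Scheme.{u}} (q : Y ⟶ Spec (CommRingCat.of R)) [IsProper q] (ϖ : R)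
    (η : Y) (H : StepHyp q ϖ η) (p : Z ⟶ Spec (CommRingCat.of R)) [LocallyOfFiniteType p] [IsIntegral Z]
    [IsNoetherian Z] (z : Z) (hz : IsClosed ({z} : Set Z)) (hNC : NCAt p ϖ z) (V : Z.Opens)
    (hV : V = ⟨{z}ᶜ, hz.isOpen_compl⟩) (g : (V : Scheme.{u}) ⟶ Y) (hg : g ≫ q = V.ι ≫ p)
    (hgen : ∀ y, V.ι y = genericPoint Z → g y = η) :
    ∃ φ : Z ⟶ Y, φ ≫ q = p ∧ V.ι ≫ φ = g := by
  have hVmem : ∀ y : Z, y ≠ z → y ∈ V := fun y hy => by rw [hV]; exact hy
  have hVnm : z ∉ V := fun h => by rw [hV] at h; exact h rfl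
  let i : (V : Scheme.{u}) ⟶ pullback p q := pullback.lift V.ι g hg.symm
  have hi1 : i ≫ pullback.fst p q = V.ι := pullback.lift_fst _ _ _
  have hi2 : i ≫ pullback.snd p q = g := pullback.lift_snd _ _ _
  have : IsImmersion (i ≫ pullback.fst p q) := by rw [hi1]; infer_instance
  have hii : IsImmersion i := IsImmersion.of_comp i (pullback.fst p q)
  have : QuasiCompact (i ≫ pullback.fst p q) := by rw [hi1]; infer_instance
  have : QuasiCompact i := QuasiCompact.of_comp i (pullback.fst p q)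
  obtain ⟨Γ, k, m, hk, hd, hm, fac⟩ := Groth.Agent.Sga4h.H299.Geo.exists_dominant i
  let γ : Γ ⟶ Z := m ≫ pullback.fst p q
  have w1 : k ≫ γ = V.ι := by simp only [γ]; rw [reassoc_of% fac, hi1]
  have w2 : k ≫ m ≫ pullback.snd p q = g := by rw [reassoc_of% fac, hi2]
  have hP : IsPullback k (𝟙 (V : Scheme.{u})) γ V.ι :=
    Groth.Agent.Sga4h.H299.Geo.isPullback_of_dominant _ _ _ _ (by rw [w1, Category.id_comp])
  have hiso : IsIso (γ ∣_ V) := by
    have h1 := (isPullback_morphismRestrict γ V).isoIsPullback_hom_fst _ _ hP.flip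
    rw [Category.comp_id] at h1
    rw [← h1]
    infer_instance
  have hT : ∀ y ∈ ({z} : Set Z), IsClosed ({y} : Set Z) ∧ IsRegularLocalRing (Z.presheaf.stalk y) ∧
      ringKrullDim (Z.presheaf.stalk y) = 2 := by
    rintro y rfl
    exact ⟨hz, hNC.regular, hNC.dim⟩
  obtain ⟨W, b, hb, hbiso, h, hh⟩ := Groth.Agent.S7320.result Z {z} (Set.finite_singleton z) hz hT γ
    (by rw [← hV]; exact hiso)
  rw [← hV] at hbiso
  have hW : IsIntegral W := isIntegral_of_seq b hb
  -- over the complement of `z`, the map to the graph closure is the canonical one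
  have hkb : (b ⁻¹ᵁ V).ι ≫ h = (b ∣_ V) ≫ k := by
    have h1 : ((b ⁻¹ᵁ V).ι ≫ h) ≫ γ = (b ∣_ V) ≫ V.ι := by
      rw [Category.assoc, hh, morphismRestrict_ι]
    have h2 := hP.lift_fst _ _ h1
    have h3 := hP.lift_snd _ _ h1
    rw [Category.comp_id] at h3
    rw [h3] at h2
    exact h2.symm
  let φ : W ⟶ Y := h ≫ m ≫ pullback.snd p q
  have hφ : φ ≫ q = b ≫ p := by
    simp only [φ]
    rw [Category.assoc, Category.assoc, ← pullback.condition, ← hh]
    simp only [γ, Category.assoc]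
  have hφV : (b ⁻¹ᵁ V).ι ≫ φ = (b ∣_ V) ≫ g := by
    simp only [φ]
    rw [reassoc_of% hkb, w2]
  have hbinj : ∀ w w' : W, b w = b w' → b w ∈ V → w = w' := by
    intro w w' hww hw
    have hw' : b w' ∈ V := by rw [← hww]; exact hw
    have h1 : (b ∣_ V) ⟨w, hw⟩ = (b ∣_ V) ⟨w', hw'⟩ := by
      apply V.ι.injective
      rw [← Scheme.Hom.comp_apply, ← Scheme.Hom.comp_apply, morphismRestrict_ι, Scheme.Hom.comp_apply,
        Scheme.Hom.comp_apply]
      exact hww
    exact congrArg Subtype.val ((b ∣_ V).injective h1)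
  have hbsurj : ∀ y ∈ V, ∃ w : W, b w = y := by
    intro y hy
    obtain ⟨w, hw⟩ := (b ∣_ V).surjective ⟨y, hy⟩
    refine ⟨(b ⁻¹ᵁ V).ι w, ?_⟩
    rw [← Scheme.Hom.comp_apply, ← morphismRestrict_ι, Scheme.Hom.comp_apply, hw]
    rfl
  have hgz : genericPoint Z ∈ V := hVmem _ (Groth.Agent.Dix.HasBlow.genericPoint_ne z hNC.dim)
  have hbgen : b (genericPoint W) = genericPoint Z := by
    obtain ⟨w, hw⟩ := hbsurj _ hgz
    have h1 : b (genericPoint W) ⤳ b w := (genericPoint_specializes w).map b.continuous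
    rw [hw] at h1
    exact (h1.antisymm (genericPoint_specializes _)).eq
  have hφη : φ (genericPoint W) = η := by
    have hgw : genericPoint W ∈ b ⁻¹ᵁ V := by
      change b (genericPoint W) ∈ V
      rw [hbgen]
      exact hgz
    have h1 : ∀ w : ((b ⁻¹ᵁ V : W.Opens) : Scheme.{u}), φ ((b ⁻¹ᵁ V).ι w) = g ((b ∣_ V) w) := by
      intro w
      rw [← Scheme.Hom.comp_apply, hφV, Scheme.Hom.comp_apply]
    have h2 : ∀ w : ((b ⁻¹ᵁ V : W.Opens) : Scheme.{u}), V.ι ((b ∣_ V) w) = b ((b ⁻¹ᵁ V).ι w) := by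
      intro w
      rw [← Scheme.Hom.comp_apply, morphismRestrict_ι, Scheme.Hom.comp_apply]
    refine Eq.trans (h1 ⟨genericPoint W, hgw⟩) (hgen _ ?_)
    exact (h2 _).trans hbgen
  obtain ⟨φ₀, h1, h2⟩ := descend q ϖ η H b hb p {z} (by rintro y rfl _; exact hNC)
    (fun y hy a ha a' ha' => hbinj a a' (ha.trans ha'.symm) (by
      have ha1 : b a = y := ha
      rw [ha1]; exact hVmem y hy)) φ hφ hφη
  refine ⟨φ₀, h2, ?_⟩
  rw [← cancel_epi (b ∣_ V), ← hφV, ← h1, ← Category.assoc, morphismRestrict_ι, Category.assoc]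

/-- a regular system of parameters of a two-dimensional local ring does not contain zero -/
theorem ne_zero_of_span {A : Type u} [CommRing A] [IsLocalRing A] [IsNoetherianRing A] (h2 : ringKrullDim A = 2)
    {x y : A} (hm : maximalIdeal A = Ideal.span {x, y}) : x ≠ 0 := by
  rintro rfl
  have h1 : maximalIdeal A = Ideal.span {y} := by
    rw [hm]
    exact Ideal.span_insert_zero
  have h3 : (maximalIdeal A).spanFinrank ≤ 1 := by
    rw [h1]
    have := Submodule.spanFinrank_span_le_ncard_of_finite (R := A) (Set.finite_singleton y)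
    rwa [Set.ncard_singleton] at this
  have h4 := ringKrullDim_le_spanFinrank_maximalIdeal (R := A)
  rw [h2] at h4
  have h5 : (2 : ℕ) ≤ (maximalIdeal A).spanFinrank := by exact_mod_cast h4
  omega

section

variable {R : Type u} [CommRing R] [IsDomain R] [IsDiscreteValuationRing R] {ϖ : R}

/-- If `Z` is integral with a normal crossing point, its generic point is not in the special fibre. -/
theorem gen_ne (hϖ : Irreducible ϖ) {Z : Scheme.{u}} [IsIntegral Z] [IsLocallyNoetherian Z]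
    (p : Z ⟶ Spec (CommRingCat.of R)) (z : Z) (h : NCAt p ϖ z) :
    p (genericPoint Z) ≠ (closedPoint R : PrimeSpectrum R) := by
  obtain ⟨c, x, y, a, b, hc, hm, hcab⟩ := h.mono
  have hx : x ≠ 0 := ne_zero_of_span h.dim hm
  have hy : y ≠ 0 := ne_zero_of_span h.dim (by rw [hm, Set.pair_comm])
  have h0 : DualGr.stalkHom p z ϖ ≠ 0 := by
    rw [hcab]
    exact mul_ne_zero (mul_ne_zero hc.ne_zero (pow_ne_zero _ hx)) (pow_ne_zero _ hy)
  rw [← K793.Basic.isUnit_stalkHom_iff_ne _ _ hϖ]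
  have h1 : DualGr.stalkHom p (genericPoint Z) ϖ ≠ 0 := by
    intro h1
    apply h0
    have h2 : Z.presheaf.germ ⊤ (genericPoint Z) trivial (show Γ(Z, ⊤) from Coh.toGlobal p ϖ) =
        Z.presheaf.germ ⊤ (genericPoint Z) trivial 0 := by
      rw [map_zero]; exact h1
    have h3 := germ_injective_of_isIntegral Z (U := ⊤) (genericPoint Z) trivial h2
    rw [K793.Basic.stalkHom_eq_germ, h3, map_zero]
  have hF : IsField (Z.presheaf.stalk (genericPoint Z)) := Field.toIsField Z.functionField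
  obtain ⟨d, hd⟩ := hF.mul_inv_cancel h1
  exact IsUnit.of_mul_eq_one _ hd

/-- A universally open morphism of integral schemes maps the generic point to the generic point. -/
theorem map_genericPoint {Z X : Scheme.{u}} [IsIntegral Z] [IsIntegral X] (f : Z ⟶ X) [UniversallyOpen f] :
    f (genericPoint Z) = genericPoint X := by
  have hop : IsOpen (Set.range f) := f.isOpenMap.isOpen_range
  have hmem : genericPoint X ∈ Set.range f :=
    (genericPoint_spec X).mem_open_set_iff hop |>.2 ⟨f (genericPoint Z), trivial, Set.mem_range_self _⟩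
  obtain ⟨z, hz⟩ := hmem
  have h1 : f (genericPoint Z) ⤳ f z := (genericPoint_specializes z).map f.continuous
  rw [hz] at h1
  exact (h1.antisymm (genericPoint_specializes _)).eq

/-- **Extension at a point covered by a normal crossing chart.** -/
theorem main (hϖ : Irreducible ϖ) {X Y : Scheme.{u}} (p : X ⟶ Spec (CommRingCat.of R))
    (q : Y ⟶ Spec (CommRingCat.of R)) [LocallyOfFiniteType p] [IsProper q] [IsIntegral X] [IsIntegral Y]
    (hXn : ∀ x : X, IsIntegrallyClosed (X.presheaf.stalk x)) (U : X.Opens)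
    (hUx : ∀ x : X, p x ≠ (closedPoint R : PrimeSpectrum R) → x ∈ U) (h : (U : Scheme.{u}) ⟶ Y)
    (hh : h ≫ q = U.ι ≫ p) (hgen : ∀ x : (U : Scheme.{u}), U.ι x = genericPoint X → h x = genericPoint Y)
    (x : X) {Z : Scheme.{u}} (f : Z ⟶ X) (z : Z) [IsIntegral Z] [IsNoetherian Z]
    [LocallyOfFiniteType f] [UniversallyOpen f] (hZn : ∀ z' : Z, IsIntegrallyClosed (Z.presheaf.stalk z'))
    (hz : IsClosed ({z} : Set Z)) (hfz : f z = x) (hNC : NCAt (f ≫ p) ϖ z)
    (H : StepHyp q ϖ (genericPoint Y)) :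
    ∃ (V : X.Opens) (v : (V : Scheme.{u}) ⟶ Y), x ∈ V ∧ v ≫ q = V.ι ≫ p ∧
      X.homOfLE (inf_le_right : U ⊓ V ≤ V) ≫ v = X.homOfLE (inf_le_left : U ⊓ V ≤ U) ≫ h := by
  subst hfz
  have hfgen : f (genericPoint Z) = genericPoint X := map_genericPoint f
  have hgU : genericPoint X ∈ U := by
    apply hUx
    rw [← hfgen, ← Scheme.Hom.comp_apply]
    exact gen_ne hϖ (f ≫ p) z hNC
  have hgfU : genericPoint Z ∈ f ⁻¹ᵁ U := by
    change f (genericPoint Z) ∈ U
    rw [hfgen]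
    exact hgU
  have hdense : Dense ((f ⁻¹ᵁ U : Z.Opens) : Set Z) := (f ⁻¹ᵁ U).isOpen.dense ⟨_, hgfU⟩
  have hdenseU : Dense (U : Set X) := U.isOpen.dense ⟨_, hgU⟩
  have hreg : ∀ y : Z, ringKrullDim (Z.presheaf.stalk y) ≤ 1 → IsRegularLocalRing (Z.presheaf.stalk y) := by
    intro y hy
    have := hZn y
    exact Groth.Agent.S2344.isRegular_of_normal _ hy
  obtain ⟨U₁, hle, g₁, hg₁, hg₁U, hcod⟩ := Groth.Agent.S4440.result q (f ≫ p) hreg (f ⁻¹ᵁ U) hdense
    ((f ∣_ U) ≫ h) (by rw [Category.assoc, hh, reassoc_of% morphismRestrict_ι f U])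
  obtain ⟨N', hN'o, hzN', hN'⟩ := exists_open_inter ((U₁ : Set Z)ᶜ) U₁.isOpen.isClosed_compl z (by
    intro c hc hcz
    by_contra hne
    exact hc (hcod c (dim_le_one hcz hne hNC.dim)))
  rw [hz.closure_eq] at hN'
  let N : Z.Opens := ⟨N', hN'o⟩
  have hNU : ∀ y ∈ N, y ≠ z → y ∈ U₁ := by
    intro y hy hyz
    by_contra hyU
    exact hyz (hN' ⟨hy, hyU⟩)
  let z₀ : (N : Scheme.{u}) := ⟨z, hzN'⟩
  have hz₀ : N.ι z₀ = z := rfl
  have hne : Nonempty (N : Scheme.{u}) := ⟨z₀⟩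
  have hNint : IsIntegral (N : Scheme.{u}) := isIntegral_of_isOpenImmersion N.ι
  have hNcomp : CompactSpace (N : Scheme.{u}) :=
    isCompact_iff_compactSpace.1 (NoetherianSpace.isCompact (N : Set Z))
  have hNN : IsNoetherian (N : Scheme.{u}) := {}
  have hz₀c : IsClosed ({z₀} : Set (N : Scheme.{u})) := by
    have h1 : ({z₀} : Set (N : Scheme.{u})) = N.ι ⁻¹' {z} := by
      ext y
      constructor
      · rintro rfl; exact hz₀
      · intro hy
        exact N.ι.injective (hy.trans hz₀.symm)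
    rw [h1]
    exact hz.preimage N.ι.continuous
  have hNC₀ : NCAt (N.ι ≫ f ≫ p) ϖ z₀ := K111.NCDesc.NCAt.of_isIso (f ≫ p) N.ι ϖ z₀ hNC
  let V₀ : (N : Scheme.{u}).Opens := ⟨{z₀}ᶜ, hz₀c.isOpen_compl⟩
  have hVU : Set.range (V₀.ι ≫ N.ι) ⊆ Set.range U₁.ι := by
    rintro _ ⟨y, rfl⟩
    rw [Scheme.Opens.range_ι]
    refine hNU _ (V₀.ι y).2 ?_
    intro hy
    rw [Scheme.Hom.comp_apply] at hy
    exact y.2 (N.ι.injective hy)
  let j : (V₀ : Scheme.{u}) ⟶ U₁ := IsOpenImmersion.lift U₁.ι (V₀.ι ≫ N.ι) hVU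
  have hj : j ≫ U₁.ι = V₀.ι ≫ N.ι := IsOpenImmersion.lift_fac _ _ _
  have hg : (j ≫ g₁) ≫ q = V₀.ι ≫ N.ι ≫ f ≫ p := by
    rw [Category.assoc, hg₁, reassoc_of% hj]
  have hg₁gen : ∀ y : (U₁ : Scheme.{u}), U₁.ι y = genericPoint Z → g₁ y = genericPoint Y := by
    intro y hy
    have h1 : Z.homOfLE hle ⟨genericPoint Z, hgfU⟩ = y := by
      apply U₁.ι.injective
      rw [← Scheme.Hom.comp_apply, Scheme.homOfLE_ι, hy]
      rfl
    rw [← h1, ← Scheme.Hom.comp_apply, hg₁U, Scheme.Hom.comp_apply]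
    apply hgen
    have h2 : ∀ w : ((f ⁻¹ᵁ U : Z.Opens) : Scheme.{u}), U.ι ((f ∣_ U) w) = f ((f ⁻¹ᵁ U).ι w) := by
      intro w
      rw [← Scheme.Hom.comp_apply, morphismRestrict_ι, Scheme.Hom.comp_apply]
    exact (h2 _).trans hfgen
  have hN0gen : N.ι (genericPoint (N : Scheme.{u})) = genericPoint Z := genericPoint_eq_of_isOpenImmersion N.ι
  obtain ⟨φ, hφ, hφV⟩ := core q ϖ (genericPoint Y) H (N.ι ≫ f ≫ p) z₀ hz₀c hNC₀ V₀ rfl (j ≫ g₁) hg (by
    intro y hy
    rw [Scheme.Hom.comp_apply]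
    apply hg₁gen
    rw [← Scheme.Hom.comp_apply, hj, Scheme.Hom.comp_apply, hy]
    exact hN0gen)
  refine (Groth.Agent.S3837.result p q ?_ hXn U hdenseU h hh f z).2 ⟨N, φ, hzN', hφ, ?_⟩
  · intro y
    refine ⟨⊤, trivial, ?_⟩
    have : Nonempty ((⊤ : X.Opens) : Scheme.{u}) := ⟨⟨y, trivial⟩⟩
    exact isIntegral_of_isOpenImmersion (⊤ : X.Opens).ι
  · set a := Z.homOfLE (inf_le_right : f ⁻¹ᵁ U ⊓ N ≤ N) with ha
    set a' := Z.homOfLE (inf_le_left : f ⁻¹ᵁ U ⊓ N ≤ f ⁻¹ᵁ U) with ha'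
    have haι : a ≫ N.ι = (f ⁻¹ᵁ U ⊓ N).ι := Scheme.homOfLE_ι _ _
    have haι' : a' ≫ (f ⁻¹ᵁ U).ι = (f ⁻¹ᵁ U ⊓ N).ι := Scheme.homOfLE_ι _ _
    have hgN : genericPoint Z ∈ N := by
      rw [← hN0gen]
      exact (genericPoint (N : Scheme.{u})).2
    have hne' : Nonempty ((f ⁻¹ᵁ U ⊓ N : Z.Opens) : Scheme.{u}) := ⟨⟨genericPoint Z, hgfU, hgN⟩⟩
    have hint' : IsIntegral ((f ⁻¹ᵁ U ⊓ N : Z.Opens) : Scheme.{u}) :=
      isIntegral_of_isOpenImmersion (f ⁻¹ᵁ U ⊓ N : Z.Opens).ι
    have hdom : IsDominant (a ⁻¹ᵁ V₀).ι := by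
      refine ⟨?_⟩
      rw [DenseRange, Scheme.Opens.range_ι]
      refine (a ⁻¹ᵁ V₀).isOpen.dense ⟨⟨genericPoint Z, hgfU, hgN⟩, ?_⟩
      intro hz
      have h1 := congrArg N.ι hz
      rw [← Scheme.Hom.comp_apply, haι] at h1
      exact Groth.Agent.Dix.HasBlow.genericPoint_ne z hNC.dim h1
    refine ext_of_isDominant_of_isSeparated q ?_ (a ⁻¹ᵁ V₀).ι ?_
    · rw [Category.assoc, hφ, reassoc_of% haι, Category.assoc, Category.assoc, hh, reassoc_of% morphismRestrict_ι f U,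
        reassoc_of% haι']
    · rw [← Category.assoc, ← morphismRestrict_ι, Category.assoc, hφV, ← hg₁U]
      simp only [← Category.assoc]
      congr 1
      rw [← cancel_mono U₁.ι]
      simp only [Category.assoc]
      rw [hj, Scheme.homOfLE_ι, haι', reassoc_of% morphismRestrict_ι a V₀, haι]

end

end Groth.Agent.K382.LocExt
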