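import Groth.Prelude.Def_Pi1
import Groth.Agent.PerfA.StalkPush
import Mathlib.AlgebraicGeometry.Morphisms.Preimmersion
import Mathlib.AlgebraicGeometry.Morphisms.Flat
import Mathlib.AlgebraicGeometry.FunctionField
import Mathlib.AlgebraicGeometry.Stalk

/-!
# Flat preimmersions

The base change of a normal integral modification of `Y` to `Spec O_{Y,y}` is again a normal integral modification.
-/

set_option autoImplicit false
universe u
open CategoryTheory CategoryTheory.Limits AlgebraicGeometry TopologicalSpace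

namespace Groth.Agent.K382.FlatPre

theorem bijective_stalkMap {X Z : Scheme.{u}} (g : X ⟶ Z) [IsPreimmersion g] [Flat g] (x : X) :
    Function.Bijective (g.stalkMap x).hom := by
  refine ⟨?_, g.stalkMap_surjective x⟩
  have h1 : (g.stalkMap x).hom.Flat := Flat.stalkMap g x
  algebraize [(g.stalkMap x).hom]
  have hl : IsLocalHom (algebraMap (Z.presheaf.stalk (g x)) (X.presheaf.stalk x)) :=
    inferInstanceAs (IsLocalHom (g.stalkMap x).hom)
  have := Module.FaithfullyFlat.of_flat_of_isLocalHom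
    (A := Z.presheaf.stalk (g x)) (B := X.presheaf.stalk x)
  exact FaithfulSMul.algebraMap_injective (Z.presheaf.stalk (g x)) (X.presheaf.stalk x)

noncomputable def stalkEquiv {X Z : Scheme.{u}} (g : X ⟶ Z) [IsPreimmersion g] [Flat g] (x : X) :
    Z.presheaf.stalk (g x) ≃+* X.presheaf.stalk x :=
  RingEquiv.ofBijective (g.stalkMap x).hom (bijective_stalkMap g x)

theorem isIntegral {X Z : Scheme.{u}} [IsIntegral Z] (g : X ⟶ Z) [IsPreimmersion g] [Flat g]
    (h : genericPoint Z ∈ Set.range g) : IsIntegral X := by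
  have h1 : ∀ x : X, _root_.IsReduced (X.presheaf.stalk x) := fun x =>
    isReduced_of_injective (stalkEquiv g x).symm (stalkEquiv g x).symm.injective
  have h2 : IsReduced X := isReduced_of_isReduced_stalk X
  obtain ⟨ξ, hξ⟩ := h
  have h3 : ∀ U : Set X, IsOpen U → U.Nonempty → ξ ∈ U := by
    intro U hU ⟨x, hx⟩
    obtain ⟨V, hV, rfl⟩ := g.isEmbedding.isInducing.isOpen_iff.1 hU
    change g ξ ∈ V
    rw [hξ]
    exact (genericPoint_specializes (g x)).mem_open hV hx
  have h4 : IrreducibleSpace X :=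
    { isPreirreducible_univ := by
        intro U V hU hV ⟨x, _, hx⟩ ⟨y, _, hy⟩
        exact ⟨ξ, trivial, h3 U hU ⟨x, hx⟩, h3 V hV ⟨y, hy⟩⟩
      toNonempty := ⟨ξ⟩ }
  exact isIntegral_of_irreducibleSpace_of_isReduced X

theorem isNormalScheme {X Z : Scheme.{u}} (g : X ⟶ Z) [IsPreimmersion g] [Flat g] (h : Pi1.IsNormalScheme Z) :
    Pi1.IsNormalScheme X := by
  intro x
  obtain ⟨h1, h2⟩ := h (g x)
  exact ⟨(stalkEquiv g x).symm.toMulEquiv.isDomain _, IsIntegrallyClosed.of_equiv (stalkEquiv g x)⟩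

section Local

variable {X Y : Scheme.{u}} (π : X ⟶ Y) (y : Y)

instance flat_fst : Flat (pullback.fst π (Y.fromSpecStalk y)) := by
  have := Groth.Agent.PerfA.StalkPush.flat_fromSpecStalk y
  infer_instance

theorem mem_range_fst (x : X) (h : π x ⤳ y) : x ∈ Set.range (pullback.fst π (Y.fromSpecStalk y)) := by
  have h1 : π x ∈ Set.range (Y.fromSpecStalk y) := by
    rw [Scheme.range_fromSpecStalk]; exact h
  obtain ⟨s, hs⟩ := h1
  obtain ⟨w, hw, -⟩ := Scheme.Pullback.exists_preimage_pullback (f := π) (g := Y.fromSpecStalk y) x s hs.symm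
  exact ⟨w, hw⟩

/-- base change of a morphism which is an isomorphism over an open. -/
theorem isIso_restrict {P T : Scheme.{u}} {a : P ⟶ X} {b : P ⟶ T} {t : T ⟶ Y} (h : IsPullback a b π t) (U : Y.Opens)
    [IsIso (π ∣_ U)] : IsIso (b ∣_ (t ⁻¹ᵁ U)) := by
  have h1 : IsPullback ((b ⁻¹ᵁ (t ⁻¹ᵁ U)).ι ≫ a) (b ∣_ (t ⁻¹ᵁ U)) π ((t ⁻¹ᵁ U).ι ≫ t) :=
    (isPullback_morphismRestrict b (t ⁻¹ᵁ U)).flip.paste_horiz h
  have h2 : (t ⁻¹ᵁ U).ι ≫ t = (t ∣_ U) ≫ U.ι := (morphismRestrict_ι t U).symm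
  have h3 : IsPullback (π ⁻¹ᵁ U).ι (π ∣_ U) π U.ι := (isPullback_morphismRestrict π U).flip
  rw [h2] at h1
  have h4 := IsPullback.of_right' h1 h3
  exact MorphismProperty.of_isPullback (P := MorphismProperty.isomorphisms Scheme) h4
    (show (MorphismProperty.isomorphisms Scheme) (π ∣_ U) from ‹IsIso (π ∣_ U)›)

end Local

end Groth.Agent.K382.FlatPre
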