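import Groth.Agent.Models.DVRGeneric2
import Groth.Agent.Models.RMSing
import Groth.Agent.Props.K592.NormComp
import Groth.Agent.Models.K381.ExtMod
import Groth.Agent.Models.K382.ModelMap
import Groth.Agent.Models.K382.FlatPre
import Groth.Agent.Variety.K658.RelDimComp
import Groth.Agent.Lefpen.H705.ClosedPoint

/-!
# Models over a discrete valuation ring with possibly disconnected generic fibre: basic facts
-/

set_option autoImplicit false
universe u
open CategoryTheory CategoryTheory.Limits AlgebraicGeometry TopologicalSpace IsLocalRing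

namespace Groth.Agent.K382.AdmBase

open Groth.Agent.Models

variable {R : Type u} [CommRing R] [IsDomain R] [IsDiscreteValuationRing R]
  {K : Type u} [Field K] [Algebra R K] [IsFractionRing R K]

section

variable {C X : Scheme.{u}} {f : C ⟶ Spec (CommRingCat.of K)} {p : X ⟶ Spec (CommRingCat.of R)} {g : C ⟶ X}
  (h : IsPullback g f p (Spec.map (CommRingCat.ofHom (algebraMap R K))))

include h

theorem isOpenImmersion : IsOpenImmersion g := DVRGeneric.isOpenImmersion_of_isPullback h

theorem map_ne (c : C) : p (g c) ≠ closedPoint R := by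
  intro hc
  rw [← Scheme.Hom.comp_apply, h.w, Scheme.Hom.comp_apply] at hc
  obtain ⟨ϖ, hϖ⟩ := IsDiscreteValuationRing.exists_irreducible R
  have h1 : ϖ ∈ ((Spec.map (CommRingCat.ofHom (algebraMap R K))) (f c)).asIdeal := by
    rw [hc]; exact hϖ.not_isUnit
  have h2 : algebraMap R K ϖ ∈ (f c).asIdeal := h1
  have h3 : IsUnit (algebraMap R K ϖ) :=
    IsUnit.mk0 _ ((map_ne_zero_iff _ (IsFractionRing.injective R K)).2 hϖ.ne_zero)
  exact (f c).isPrime.ne_top (Ideal.eq_top_of_isUnit_mem _ h2 h3)

theorem mem_range_iff (x : X) : x ∈ Set.range g ↔ p x ≠ closedPoint R := by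
  constructor
  · rintro ⟨c, rfl⟩
    exact map_ne h c
  · intro hx
    obtain ⟨s, hs⟩ := DVRGeneric.range_generic R K (p x) hx
    obtain ⟨c, hc, -⟩ := Scheme.exists_preimage_of_isPullback h x s hs.symm
    exact ⟨c, hc⟩

theorem exists_generization [Flat p] (x : X) : ∃ c : C, g c ⤳ x := by
  let η : Spec (CommRingCat.of R) := (⊥ : PrimeSpectrum R)
  have hη : η ⤳ p x := by
    exact (PrimeSpectrum.le_iff_specializes (⊥ : PrimeSpectrum R) (p x)).1 bot_le
  obtain ⟨x', hx', hpx⟩ := Flat.generalizingMap p hη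
  have h1 : x' ∈ Set.range g := by
    rw [mem_range_iff h, hpx]
    intro he
    have h2 : (⊥ : PrimeSpectrum R) = closedPoint R := he
    have h3 : (⊥ : Ideal R) = maximalIdeal R := congrArg PrimeSpectrum.asIdeal h2
    exact IsDiscreteValuationRing.not_a_field R h3.symm
  obtain ⟨c, rfl⟩ := h1
  exact ⟨c, hx'⟩

theorem exists_ringEquiv (x : X) (hx : p x ≠ closedPoint R) :
    ∃ c : C, g c = x ∧ Nonempty (X.presheaf.stalk x ≃+* C.presheaf.stalk c) := by
  obtain ⟨c, rfl⟩ := (mem_range_iff h x).2 hx
  have := isOpenImmersion h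
  exact ⟨c, rfl, ⟨(asIso (g.stalkMap c)).commRingCatIsoToRingEquiv⟩⟩

/-- The local rings of a model have dimension at most two. -/
theorem ringKrullDim_stalk_le_two [Flat p] [LocallyOfFiniteType p] (hX : ∀ x : X, IsDomain (X.presheaf.stalk x))
    (hdim : ∀ c : C, ringKrullDim (C.presheaf.stalk c) ≤ 1) (x : X) :
    ringKrullDim (X.presheaf.stalk x) ≤ 2 := by
  by_cases hx : p x = closedPoint R
  · have hln : IsLocallyNoetherian X := LocallyOfFiniteType.isLocallyNoetherian p
    obtain ⟨ϖ, hϖ⟩ := IsDiscreteValuationRing.exists_irreducible R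
    have hNoeth : IsNoetherianRing (X.presheaf.stalk x) := inferInstance
    have hdom := hX x
    let ρ : CommRingCat.of R ⟶ X.presheaf.stalk x := Spec.preimage (X.fromSpecStalk x ≫ p)
    have hρ : Spec.map ρ = X.fromSpecStalk x ≫ p := Spec.map_preimage _
    have hmem : ∀ (q : Spec (X.presheaf.stalk x)) (r : R),
        r ∈ (p (X.fromSpecStalk x q)).asIdeal ↔ ρ.hom r ∈ q.asIdeal := by
      intro q r
      have h1 : p (X.fromSpecStalk x q) = (Spec.map ρ) q := by rw [hρ]; rfl
      rw [h1]
      rfl
    have hρflat : ρ.hom.Flat := by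
      rw [← HasRingHomProperty.Spec_iff (P := @Flat), hρ]
      infer_instance
    refine RMSing.ringKrullDim_le_two (ρ.hom ϖ) ?_ ?_ ?_
    · intro h0
      let _ := ρ.hom.toAlgebra
      have hfl : Module.Flat R (X.presheaf.stalk x) := hρflat
      have h1 : IsSMulRegular R ϖ := by
        rw [isSMulRegular_iff_right_eq_zero_of_smul]
        intro y hy
        exact (mul_eq_zero.mp hy).resolve_left hϖ.ne_zero
      have h2 : IsSMulRegular (X.presheaf.stalk x) (algebraMap R (X.presheaf.stalk x) ϖ) := h1.of_flat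
      have h3 : (algebraMap R (X.presheaf.stalk x) ϖ) = 0 := h0
      rw [h3, isSMulRegular_iff_right_eq_zero_of_smul] at h2
      exact one_ne_zero (h2 1 (zero_smul _ _))
    · have h1 := (hmem (closedPoint (X.presheaf.stalk x)) ϖ).mp (by
        rw [Scheme.fromSpecStalk_closedPoint, hx]
        exact hϖ.not_isUnit)
      exact h1
    · intro q hq hπq
      have h1 := RMSing.height_le_ringKrullDim_stalk x (⟨q, hq⟩ : Spec (X.presheaf.stalk x))
      have h2 : p (X.fromSpecStalk x ⟨q, hq⟩) ≠ closedPoint R := by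
        intro he
        apply hπq
        apply (hmem ⟨q, hq⟩ ϖ).mp
        rw [he]
        exact hϖ.not_isUnit
      obtain ⟨c, -, ⟨e⟩⟩ := exists_ringEquiv h _ h2
      rw [ringKrullDim_eq_of_ringEquiv e] at h1
      exact WithBot.coe_le_coe.mp (h1.trans (hdim c))
  · obtain ⟨c, -, ⟨e⟩⟩ := exists_ringEquiv h x hx
    rw [ringKrullDim_eq_of_ringEquiv e]
    exact (hdim c).trans (by norm_num)

end

/-- Every point of a Noetherian scheme whose local rings are domains lies on an integral closed and open
subscheme. -/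
theorem exists_component (X : Scheme.{u}) [IsNoetherian X] (hX : ∀ x : X, IsDomain (X.presheaf.stalk x)) (x : X) :
    ∃ Z : X.Opens, x ∈ Z ∧ IsIntegral (Z : Scheme.{u}) ∧ IsClosedImmersion Z.ι := by
  have hfin : (irreducibleComponents (X : Type u)).Finite := NoetherianSpace.finite_irreducibleComponents
  let W := irreducibleComponent x
  have hW : W ∈ irreducibleComponents (X : Type u) := irreducibleComponent_mem_irreducibleComponents x
  let Z : X.Opens := ⟨W, K592.NormComp.isOpen_of_finite hfin hX hW⟩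
  refine ⟨Z, mem_irreducibleComponent, ?_, ?_⟩
  · have h1 : IsIrreducible ((Z : X.Opens) : Set X) := hW.1
    have h2 : IrreducibleSpace Z := Subtype.irreducibleSpace h1
    have h3 : ∀ x : (Z : Scheme.{u}), _root_.IsReduced ((Z : Scheme.{u}).presheaf.stalk x) := fun x => by
      have h4 := hX (Z.ι x)
      exact isReduced_of_injective (inv (Z.ι.stalkMap x)).hom
        (ConcreteCategory.bijective_of_isIso (inv (Z.ι.stalkMap x))).1
    have h5 : IsReduced (Z : Scheme.{u}) := isReduced_of_isReduced_stalk _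
    exact isIntegral_of_irreducibleSpace_of_isReduced _
  · have h1 : IsClosed (Set.range Z.ι) := by
      rw [Scheme.Opens.range_ι]
      exact isClosed_of_mem_irreducibleComponents W hW
    exact IsClosedImmersion.of_isPreimmersion Z.ι h1

section

variable {C X : Scheme.{u}} {f : C ⟶ Spec (CommRingCat.of K)} {p : X ⟶ Spec (CommRingCat.of R)} {g : C ⟶ X}
  (h : IsPullback g f p (Spec.map (CommRingCat.ofHom (algebraMap R K))))

include h

theorem isPullback_restrict (Z : X.Opens) :
    IsPullback (g ∣_ Z) ((g ⁻¹ᵁ Z).ι ≫ f) (Z.ι ≫ p) (Spec.map (CommRingCat.ofHom (algebraMap R K))) :=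
  (isPullback_morphismRestrict g Z).paste_vert h

theorem isPullback_fractionRing :
    IsPullback g (f ≫ Spec.map (CommRingCat.ofHom (FractionRing.algEquiv R K).toRingEquiv.toRingHom)) p
      (Spec.map (CommRingCat.ofHom (algebraMap R (FractionRing R)))) := by
  have h1 : IsIso (Spec.map (CommRingCat.ofHom (FractionRing.algEquiv R K).toRingEquiv.toRingHom)) := by
    have : IsIso (CommRingCat.ofHom (FractionRing.algEquiv R K).toRingEquiv.toRingHom) :=
      (inferInstance : IsIso ((FractionRing.algEquiv R K).toRingEquiv.toCommRingCatIso.hom))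
    infer_instance
  have h2 : IsPullback (Spec.map (CommRingCat.ofHom (algebraMap R K)))
      (Spec.map (CommRingCat.ofHom (FractionRing.algEquiv R K).toRingEquiv.toRingHom)) (𝟙 _)
      (Spec.map (CommRingCat.ofHom (algebraMap R (FractionRing R)))) := by
    refine IsPullback.of_vert_isIso ⟨?_⟩
    rw [Category.comp_id, ← Spec.map_comp, ← CommRingCat.ofHom_comp]
    congr 2
    ext r
    exact ((FractionRing.algEquiv R K).commutes r).symm
  simpa using h.paste_vert h2

/-- The local rings of a proper flat model at closed points have dimension two. -/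
theorem ringKrullDim_stalk_eq_two [Flat p] [IsProper p] [SmoothOfRelativeDimension 1 f]
    (hX : ∀ x : X, IsDomain (X.presheaf.stalk x)) (x : X) (hx : IsClosed ({x} : Set X)) :
    ringKrullDim (X.presheaf.stalk x) = 2 := by
  have hln : IsLocallyNoetherian X := LocallyOfFiniteType.isLocallyNoetherian p
  have hcs : CompactSpace X := (quasiCompact_iff_compactSpace p).mp inferInstance
  have hN : IsNoetherian X := {}
  obtain ⟨Z, hxZ, hZi, hZc⟩ := exists_component X hX x
  have hg := isOpenImmersion h
  have h1 := isPullback_restrict h Z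
  have h2 : IsOpenImmersion (g ∣_ Z) := isOpenImmersion h1
  have hflat : Flat (Z.ι ≫ p) := inferInstance
  have hprop : IsProper (Z.ι ≫ p) := inferInstance
  obtain ⟨c, hc⟩ := exists_generization h1 (⟨x, hxZ⟩ : Z)
  have hne : Nonempty (g ⁻¹ᵁ Z : C.Opens) := ⟨c⟩
  have hCi : IsIntegral (g ⁻¹ᵁ Z : C.Opens) := isIntegral_of_isOpenImmersion (g ∣_ Z)
  have hsm : SmoothOfRelativeDimension 1 ((g ⁻¹ᵁ Z).ι ≫ f) :=
    IsZariskiLocalAtSource.comp (P := @SmoothOfRelativeDimension 1) ‹SmoothOfRelativeDimension 1 f› _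
  have hdim : topologicalKrullDim (g ⁻¹ᵁ Z : C.Opens) = 1 := by
    have := K658.RelDimComp.topologicalKrullDim_eq 1 ((g ⁻¹ᵁ Z).ι ≫ f)
    exact_mod_cast this
  have hcl : IsClosed ({(⟨x, hxZ⟩ : Z)} : Set Z) := by
    have h4 : ({(⟨x, hxZ⟩ : Z)} : Set Z) = Z.ι ⁻¹' {x} := by
      ext z
      constructor
      · rintro rfl; rfl
      · intro hz
        exact Subtype.ext hz
    rw [h4]
    exact hx.preimage Z.ι.continuous
  let XZ : Over (Spec (CommRingCat.of R)) := Over.mk (Z.ι ≫ p)
  have i1 : IsIntegral XZ.left := hZi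
  have i2 : IsProper XZ.hom := hprop
  have i3 : Flat XZ.hom := hflat
  have h3 := K381.ExtMod.dim_closed (R := R) hdim XZ (g ∣_ Z) (isPullback_fractionRing h1) ⟨x, hxZ⟩ hcl
  rw [← h3]
  exact (ringKrullDim_eq_of_ringEquiv (asIso (Z.ι.stalkMap (⟨x, hxZ⟩ : Z))).commRingCatIsoToRingEquiv)

end

end Groth.Agent.K382.AdmBase
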