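import Groth.Agent.Models.K382.AdmDom
import Groth.Agent.S14315
import Groth.Agent.CurvesB.DimOneTop

/-!
# Finite morphisms of smooth curves are finite locally free
-/

set_option autoImplicit false
universe u
open CategoryTheory CategoryTheory.Limits AlgebraicGeometry TopologicalSpace IsLocalRing

namespace Groth.Agent.K382.AdmCurve

theorem isIntegral_of_geomConn {k : Type u} [Field k] {X : Scheme.{u}} (f : X ⟶ Spec (CommRingCat.of k))
    [SmoothOfRelativeDimension 1 f] [GeometricallyConnected f] : IsIntegral X := by
  have hs : Smooth f := SmoothOfRelativeDimension.smooth 1 f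
  have := LocallyOfFiniteType.isLocallyNoetherian f
  have hsub : Subsingleton (Spec (CommRingCat.of k)) := inferInstanceAs (Subsingleton (PrimeSpectrum k))
  have hc : ConnectedSpace X := by
    have h1 : ConnectedSpace ↥(pullback f (𝟙 (Spec (CommRingCat.of k)))) := inferInstance
    exact (Scheme.homeoOfIso (asIso (pullback.fst f (𝟙 (Spec (CommRingCat.of k)))))).surjective.connectedSpace
      (Scheme.homeoOfIso (asIso (pullback.fst f (𝟙 (Spec (CommRingCat.of k)))))).continuous
  refine (Groth.Agent.Ega1.GenPts.isIntegral_iff X).2 ⟨inferInstance, fun x => ?_⟩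
  exact (AdmResol.isNormalScheme_of_regular (AdmDom.regular_of_smooth f) x).1

theorem topologicalKrullDim_eq_one {k : Type u} [Field k] {X : Scheme.{u}} (f : X ⟶ Spec (CommRingCat.of k))
    [SmoothOfRelativeDimension 1 f] [IsProper f] [Nonempty X] : topologicalKrullDim X = 1 := by
  refine le_antisymm (by exact_mod_cast Lefpen.H716.CIGeom.topologicalKrullDim_le_of_smooth 1 f) ?_
  have hc : CompactSpace X := (quasiCompact_iff_compactSpace f).mp inferInstance
  obtain ⟨x, -, hx⟩ := IsClosed.exists_closed_singleton (S := (Set.univ : Set X)) isClosed_univ Set.univ_nonempty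
  have h1 := Groth.Agent.Lefpen.H705.ClosedPoint.ringKrullDim_stalk f 1 x hx
  have h2 := K381.DedFlat.ringKrullDim_stalk_le X x
  rw [h1] at h2
  exact_mod_cast h2

/-- A finite morphism of integral one-dimensional schemes is surjective. -/
theorem surjective_of_isFinite {X Y : Scheme.{u}} [IsIntegral X] [IsIntegral Y] (hX : topologicalKrullDim X = 1)
    (hY : topologicalKrullDim Y = 1) (f : X ⟶ Y) [IsFinite f] : Surjective f := by
  have h1 : f (genericPoint X) = genericPoint Y := by
    by_contra hne
    obtain ⟨-, h2⟩ := CurvesB.DimOneTop.topologicalKrullDim_eq_one_iff.1 hY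
    have h3 : ∀ z, f (genericPoint X) ⤳ z → z = f (genericPoint X) := (h2 _).resolve_right fun h =>
      hne (h _ (genericPoint_specializes _)).symm
    have h4 : ∀ x, f x = f (genericPoint X) := fun x => h3 _ ((genericPoint_specializes x).map f.continuous)
    obtain ⟨_, ⟨a, rfl⟩, _, ⟨b, rfl⟩, hab⟩ := Groth.Agent.S14315.nontrivial_range f hX
    exact hab ((h4 a).trans (h4 b).symm)
  have hc : IsClosed (Set.range f) := f.isClosedMap.isClosed_range
  constructor
  intro z
  have h5 : z ∈ closure {f (genericPoint X)} := by
    rw [h1, genericPoint_closure]; trivial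
  have h6 : ({f (genericPoint X)} : Set Y) ⊆ Set.range f := by
    rintro _ rfl
    exact ⟨_, rfl⟩
  exact closure_minimal h6 hc h5

theorem isFinLocFree {k : Type u} [Field k] {C D : Scheme.{u}} (fC : C ⟶ Spec (CommRingCat.of k))
    (fD : D ⟶ Spec (CommRingCat.of k)) [SmoothOfRelativeDimension 1 fC] [IsProper fC] [GeometricallyConnected fC]
    [SmoothOfRelativeDimension 1 fD] [IsProper fD] [GeometricallyConnected fD] (f : C ⟶ D) [IsFinite f] :
    Mor2.IsFinLocFree f := by
  have hC := isIntegral_of_geomConn fC
  have hD := isIntegral_of_geomConn fD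
  have hDN : IsLocallyNoetherian D := LocallyOfFiniteType.isLocallyNoetherian fD
  have hs : Surjective f := surjective_of_isFinite (topologicalKrullDim_eq_one fC) (topologicalKrullDim_eq_one fD) f
  refine ⟨inferInstance, ?_, inferInstance⟩
  exact K381.DedFlat.flat_of_isDominant f fun s =>
    K381.DedFlat.isPrincipalIdealRing_stalk (AdmDom.regular_of_smooth fD) (topologicalKrullDim_eq_one fD).le s

end Groth.Agent.K382.AdmCurve
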