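import Groth.Agent.Resolve.K375.NagSch
import Groth.Agent.S2653
import Groth.Agent.S2654
import Groth.Agent.Ega4B.NagBasic
import Mathlib.RingTheory.DiscreteValuationRing.Basic

/-!
# Excellence of schemes of finite type over a discrete valuation ring with fraction field of characteristic zero
-/

set_option autoImplicit false
universe u
open CategoryTheory CategoryTheory.Limits AlgebraicGeometry TopologicalSpace IsLocalRing

namespace Groth.Agent.K382.AdmExc

theorem isExcellent (R : Type u) [CommRing R] [IsDomain R] [IsDiscreteValuationRing R] (K : Type u) [Field K]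
    [Algebra R K] [IsFractionRing R K] [CharZero K] : EGA4.IsExcellent R := by
  have h1 : CharZero R := by
    refine ⟨fun m n hmn => ?_⟩
    have h2 := congrArg (algebraMap R K) hmn
    rw [map_natCast, map_natCast] at h2
    exact Nat.cast_injective h2
  exact Groth.Agent.S2653.result R

theorem isNag_Spec (R : Type u) [CommRing R] [IsDomain R] [IsDiscreteValuationRing R] (K : Type u) [Field K]
    [Algebra R K] [IsFractionRing R K] [CharZero K] : K375.NagSch.IsNag (Spec (CommRingCat.of R)) := by
  have h := isExcellent R K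
  exact K375.NagSch.isNag_Spec (Groth.Agent.S2654.result R ⟨h.1, h.2.2.1, h.2.2.2⟩)

/-- Local rings of Nagata schemes are Nagata. -/
theorem isNagata_stalk {X : Scheme.{u}} (h : K375.NagSch.IsNag X) (x : X) : CAlg.IsNagata (X.presheaf.stalk x) := by
  obtain ⟨U, hU, hxU, -⟩ := exists_isAffineOpen_mem_and_subset (X := X) (x := x) (U := ⊤) trivial
  let alg1 : Algebra Γ(X, U) (X.presheaf.stalk x) := (X.presheaf.germ U x hxU).hom.toAlgebra
  have hloc : IsLocalization.AtPrime (X.presheaf.stalk x) (hU.primeIdealOf ⟨x, hxU⟩).asIdeal :=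
    hU.isLocalization_stalk ⟨x, hxU⟩
  exact Groth.Agent.Ega4B.NagBasic.isNagata_localization (h ⟨U, hU⟩)
    (hU.primeIdealOf ⟨x, hxU⟩).asIdeal.primeCompl (X.presheaf.stalk x)

end Groth.Agent.K382.AdmExc
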