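import Groth.Agent.Models.K382.AdmFormal
import Groth.Agent.S1284

/-!
# Making the closure of a graph finite by a blow-up of the base
-/

set_option autoImplicit false
universe u
open CategoryTheory CategoryTheory.Limits AlgebraicGeometry TopologicalSpace IsLocalRing

namespace Groth.Agent.K382.AdmFlatt

open Groth.Agent.K382.AdmFormal Groth.Agent.Ega2.BlowBasic Groth.Agent.Flat2C.StrictTr

theorem isFinLocFree_restrict {C D Y Γ : Scheme.{u}} {i : C ⟶ Γ} {c : C ⟶ D} {φ : Γ ⟶ Y} {h : D ⟶ Y}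
    [IsOpenImmersion h] (hp : IsPullback i c φ h) (hc : Mor2.IsFinLocFree c) :
    Mor2.IsFinLocFree (φ ∣_ h.opensRange) := by
  have h1 : IsPullback (φ ⁻¹ᵁ h.opensRange).ι (φ ∣_ h.opensRange) φ h.opensRange.ι :=
    (isPullback_morphismRestrict φ h.opensRange).flip
  have hj : h.isoOpensRange.hom ≫ h.opensRange.ι = h := by simp
  have h2 : IsPullback i c φ (h.isoOpensRange.hom ≫ h.opensRange.ι) := by rw [hj]; exact hp
  have hw : i ≫ φ = (c ≫ h.isoOpensRange.hom) ≫ h.opensRange.ι := by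
    rw [Category.assoc, hj]; exact hp.w
  have h3 : IsPullback (h1.lift i (c ≫ h.isoOpensRange.hom) hw) c (φ ∣_ h.opensRange) h.isoOpensRange.hom := by
    refine IsPullback.of_right (h₁₂ := (φ ⁻¹ᵁ h.opensRange).ι) ?_ (h1.lift_snd _ _ _) h1
    rw [h1.lift_fst]
    exact h2
  have h4 : IsIso (h1.lift i (c ≫ h.isoOpensRange.hom) hw) := h3.isIso_fst_of_isIso
  have h5 : φ ∣_ h.opensRange = inv (h1.lift i (c ≫ h.isoOpensRange.hom) hw) ≫ c ≫ h.isoOpensRange.hom := by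
    rw [IsIso.eq_inv_comp]
    exact h1.lift_snd _ _ _
  obtain ⟨hc1, hc2, hc3⟩ := hc
  rw [h5]
  exact ⟨inferInstance, inferInstance, inferInstance⟩

theorem exists_flattening {C D W Y S : Scheme.{u}} [CompactSpace Y] [QuasiSeparatedSpace Y] [CompactSpace D]
    (c : C ⟶ D) (hc : Mor2.IsFinLocFree c) (h : D ⟶ Y) [IsOpenImmersion h]
    (j : C ⟶ W) [Mono j] (w : W ⟶ S) [IsProper w] (q : Y ⟶ S) (e : j ≫ w = (c ≫ h) ≫ q) [IsReduced C]
    [QuasiCompact (pullback.lift j (c ≫ h) e)] :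
    ∃ (𝓘 : Y.IdealSheafData) (Y₁ : Scheme.{u}) (b : Y₁ ⟶ Y) (h₁ : D ⟶ Y₁) (Γ₁ : Scheme.{u}) (φ₁ : Γ₁ ⟶ Y₁)
      (i₁ : C ⟶ Γ₁) (γ₁ : Γ₁ ⟶ W), BlowUp.IsBlowUp b 𝓘 ∧ BlowUp.IsFiniteTypeIdeal 𝓘 ∧
      h₁ ≫ b = h ∧ IsPullback h₁ (𝟙 D) b h ∧ IsFinite φ₁ ∧ i₁ ≫ φ₁ = c ≫ h₁ ∧ i₁ ≫ γ₁ = j ∧
      γ₁ ≫ w = φ₁ ≫ b ≫ q := by
  have hcf : IsFinite c := hc.1
  obtain ⟨Γ, γ, φ, i, hφ, hiγ, hγφ, hp⟩ := exists_graph c h j w q e
  have hU : IsCompact (h.opensRange : Set Y) := isCompact_range h.continuous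
  obtain ⟨𝓘, Y₁, b, hb, ⟨hft, hdis⟩, H⟩ := Groth.Agent.S1284.result φ h.opensRange hU
    (isFinLocFree_restrict hp hc)
  have hd : ∀ d, h d ∉ 𝓘.support := fun d hd => Set.disjoint_left.1 hdis hd ⟨d, rfl⟩
  obtain ⟨h₁, hh₁, hpb⟩ := exists_lift_blowUp hb h hd
  let E := (𝓘.comap φ).comap (pullback.fst φ b)
  have hE : BlowUp.IsFiniteTypeIdeal E := isFiniteTypeIdeal_comap (isFiniteTypeIdeal_comap hft φ) _
  have hK := isKilledIdeal_killedIdeal hE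
  obtain ⟨hfin, -, -⟩ := H (pullback φ b) _ _ (IsPullback.of_hasPullback φ b) (killedIdeal E) hK
  let g : C ⟶ pullback φ b := pullback.lift i (c ≫ h₁) (by rw [hp.w, Category.assoc, hh₁])
  have hg1 : g ≫ pullback.fst φ b = i := pullback.lift_fst _ _ _
  have hg2 : g ≫ pullback.snd φ b = c ≫ h₁ := pullback.lift_snd _ _ _
  have hEg : BlowUp.IsEffCartierIdeal (E.comap g) := by
    have h1 : E.comap g = 𝓘.comap (c ≫ h) := by
      change ((𝓘.comap φ).comap (pullback.fst φ b)).comap g = _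
      rw [← Scheme.IdealSheafData.comap_comp, ← Scheme.IdealSheafData.comap_comp, hg1, hp.w]
    rw [h1, comap_eq_top_of_range (f := c ≫ h) (I := 𝓘) (fun x => by exact hd (c x))]
    exact isEffCartierIdeal_top
  obtain ⟨k, hk⟩ := hK.exists_lift hE g hEg
  refine ⟨𝓘, Y₁, b, h₁, (killedIdeal E).subscheme, (killedIdeal E).subschemeι ≫ pullback.snd φ b, k,
    (killedIdeal E).subschemeι ≫ pullback.fst φ b ≫ γ, hb, hft, hh₁, hpb, hfin, ?_, ?_, ?_⟩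
  · rw [reassoc_of% hk, hg2]
  · rw [reassoc_of% hk, reassoc_of% hg1, hiγ]
  · rw [Category.assoc, Category.assoc, Category.assoc, hγφ, pullback.condition_assoc]

end Groth.Agent.K382.AdmFlatt
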