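import Mathlib.Topology.NoetherianSpace
import Mathlib.AlgebraicGeometry.FunctionField
import Mathlib.AlgebraicGeometry.Noetherian
import Groth.Agent.CurvesB.DimOneTop

/-!
# Components of connected one-dimensional closed subsets
-/

set_option autoImplicit false
universe u
open CategoryTheory CategoryTheory.Limits AlgebraicGeometry TopologicalSpace

namespace Groth.Agent.K382.CompDim

theorem isClosed_of_maximal {T : Type*} [TopologicalSpace T] {F : Set T} (hF : IsClosed F) {E : Set T}
    (hE : Maximal (fun S : Set T => IsIrreducible S ∧ S ⊆ F) E) : IsClosed E := by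
  have h1 : closure E ⊆ E := hE.2 ⟨hE.1.1.closure, closure_minimal hE.1.2 hF⟩ subset_closure
  exact isClosed_of_closure_subset h1

/-- A component of a connected one-dimensional closed subset has dimension one. -/
theorem dim_eq_one {Z : Scheme.{u}} [IsNoetherian Z] {F : Set Z} (hF : IsClosed F) (hconn : _root_.IsPreconnected F)
    (hdim : topologicalKrullDim F = 1) {E : Set Z}
    (hE : Maximal (fun S : Set Z => IsIrreducible S ∧ S ⊆ F) E)
    {W : Scheme.{u}} [IsIntegral W] (ι : W ⟶ Z) [IsClosedImmersion ι] (hι : Set.range ι = E) :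
    topologicalKrullDim W = 1 := by
  have hq : QuasiSober F := hF.isClosedEmbedding_subtypeVal.quasiSober
  have hN : NoetherianSpace F := inferInstance
  rw [Groth.Agent.CurvesB.DimOneTop.topologicalKrullDim_eq_one_iff] at hdim ⊢
  obtain ⟨⟨a, b, hab, hne⟩, h2⟩ := hdim
  have hmem : ∀ w : W, ι w ∈ F := fun w => hE.1.2 (hι ▸ ⟨w, rfl⟩)
  let φ : W → F := fun w => ⟨ι w, hmem w⟩
  have hφc : Continuous φ := Continuous.subtype_mk ι.continuous _
  have hφi : Function.Injective φ := fun x y h => ι.isClosedEmbedding.injective (congrArg Subtype.val h)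
  refine ⟨?_, fun x => ?_⟩
  · by_contra hcon
    push Not at hcon
    have h3 : ∀ w : W, w = genericPoint W := fun w => hcon _ _ (genericPoint_specializes w)
    let z : F := φ (genericPoint W)
    have hEz : E = {(z : Z)} := by
      rw [← hι]
      ext x
      constructor
      · rintro ⟨w, rfl⟩
        rw [h3 w]; rfl
      · rintro rfl
        exact ⟨_, rfl⟩
    have hcomp : ({z} : Set F) ∈ irreducibleComponents F := by
      refine ⟨isIrreducible_singleton, fun s hs hzs => ?_⟩
      have h4 : IsIrreducible ((Subtype.val : F → Z) '' s) :=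
        hs.image _ continuous_subtype_val.continuousOn
      have h5 : (Subtype.val : F → Z) '' s ⊆ E := by
        refine hE.2 ⟨h4, ?_⟩ ?_
        · rintro _ ⟨x, -, rfl⟩; exact x.2
        · rw [hEz]
          rintro _ rfl
          exact ⟨z, hzs rfl, rfl⟩
      intro x hx
      have h6 : (x : Z) ∈ E := h5 ⟨x, hx, rfl⟩
      rw [hEz] at h6
      exact Subtype.ext h6
    obtain ⟨U, hUo, hUne, hU⟩ := NoetherianSpace.exists_isOpen_nonempty_subset_irreducibleComponent _ hcomp
    have hUz : U = {z} := by
      refine Set.Subset.antisymm hU ?_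
      obtain ⟨u, hu⟩ := hUne
      have : u = z := hU hu
      rintro _ rfl
      rwa [← this]
    have hpre : PreconnectedSpace F := isPreconnected_iff_preconnectedSpace.1 hconn
    have hcl : IsClosed ({z} : Set F) := isClosed_of_mem_irreducibleComponents _ hcomp
    have hclopen : IsClopen ({z} : Set F) := ⟨hcl, hUz ▸ hUo⟩
    rcases isClopen_iff.1 hclopen with h6 | h6
    · exact (Set.singleton_ne_empty z) h6
    · have ha : a ∈ ({z} : Set F) := by rw [h6]; trivial
      have hb : b ∈ ({z} : Set F) := by rw [h6]; trivial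
      exact hne ((Set.mem_singleton_iff.1 hb).trans (Set.mem_singleton_iff.1 ha).symm)
  · rcases h2 (φ x) with h3 | h3
    · exact Or.inl fun y hy => hφi (h3 _ (hy.map hφc))
    · exact Or.inr fun y hy => hφi (h3 _ (hy.map hφc))

end Groth.Agent.K382.CompDim
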