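import Groth.Agent.Models.K382.H1Closed
import Groth.Agent.Models.K382.FlatPre
import Groth.Agent.Models.K382.CompDim
import Groth.Agent.CohqB.LocBaseDim
import Groth.Agent.Variety.K418.PreimClosed
import Groth.Agent.Surf.K455.ResOne
import Groth.Agent.VarietyA.RegSmoothSch
import Groth.Agent.CurvesC.RegNormal
import Groth.Agent.S15544
import Groth.Agent.S6542
import Groth.Prelude.Def_Curv2
import Groth.Prelude.Def_ModelsG

/-!
# Components of the fibre of a modification over a rational singularity
-/

set_option autoImplicit false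
universe u
open CategoryTheory CategoryTheory.Limits AlgebraicGeometry TopologicalSpace

namespace Groth.Agent.K382.RatFib

theorem exists_lift_of_mem_range {Z W T : Scheme.{u}} (i : Z ⟶ W) [IsClosedImmersion i] (t : T ⟶ W) [IsReduced T]
    (h : ∀ x : T, t x ∈ Set.range i) : ∃ l : T ⟶ Z, l ≫ i = t := by
  have h1 : Surjective (pullback.snd i t) := by
    refine ⟨fun x => ?_⟩
    obtain ⟨z, hz⟩ := h x
    obtain ⟨w, -, hw⟩ := Scheme.Pullback.exists_preimage_pullback (f := i) (g := t) z x hz
    exact ⟨w, hw⟩
  have h2 : IsIso (pullback.snd i t) := isIso_of_isClosedImmersion_of_surjective _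
  refine ⟨inv (pullback.snd i t) ≫ pullback.fst i t, ?_⟩
  rw [Category.assoc, pullback.condition, IsIso.inv_hom_id_assoc]

theorem map_genericPoint {X Y : Scheme.{u}} [IrreducibleSpace X] [IrreducibleSpace Y] (f : X ⟶ Y) [IsDominant f] :
    f (genericPoint X) = genericPoint Y := by
  refine ((genericPoint_spec X).image f.continuous).eq ?_
  have h1 : IsGenericPoint (genericPoint Y) (closure (f '' Set.univ)) := by
    rw [Set.image_univ, f.denseRange.closure_range]
    exact genericPoint_spec Y
  exact h1

/-- A morphism which is an isomorphism over a nonempty open is birational. -/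
theorem birational {X Y : Scheme.{u}} [IsIntegral X] [IsIntegral Y] (f : X ⟶ Y) (U : Y.Opens)
    (hU : (U : Set Y).Nonempty) [IsIso (f ∣_ U)] :
    f (genericPoint X) = genericPoint Y ∧ IsIso (f.stalkMap (genericPoint X)) := by
  have hd : IsDominant f := by
    constructor
    change Dense (Set.range f)
    rw [dense_iff_inter_open]
    intro V hV hVne
    obtain ⟨y, hyU, hyV⟩ := nonempty_preirreducible_inter U.isOpen hV hU hVne
    obtain ⟨x, hx⟩ := (f ∣_ U).surjective ⟨y, hyU⟩
    refine ⟨y, hyV, x.1, ?_⟩
    have h1 := congrArg Subtype.val hx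
    rw [morphismRestrict_base_coe] at h1
    exact h1
  have h1 := map_genericPoint f
  refine ⟨h1, ?_⟩
  have hη : genericPoint Y ∈ U := ((genericPoint_spec Y).mem_open_set_iff U.isOpen).2 (by simpa using hU)
  have hξ : genericPoint X ∈ f ⁻¹ᵁ U := by
    change f (genericPoint X) ∈ U
    rw [h1]; exact hη
  have h2 : IsIso ((f ∣_ U).stalkMap ⟨genericPoint X, hξ⟩) := inferInstance
  exact (MorphismProperty.arrow_mk_iso_iff (MorphismProperty.isomorphisms CommRingCat)
    (morphismRestrictStalkMap f U ⟨genericPoint X, hξ⟩)).1 h2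

/-- An integral proper curve with `H^1(O) = 0` over an algebraically closed field is the projective line. -/
theorem exists_iso_projLine {k : Type u} [Field k] [IsAlgClosed k] {W : Scheme.{u}} [IsIntegral W]
    (f : W ⟶ Spec (CommRingCat.of k)) [IsProper f] (hdim : topologicalKrullDim W = 1)
    (h1 : Subsingleton (Coh.HH W (Coh.structureModule W) 1)) :
    ∃ e : W ≅ CohB1.ProjSpace 1 k, e.hom ≫ CohB1.ProjSpace.toSpec 1 k = f := by
  let _ : W.Over (Spec (CommRingCat.of k)) := ⟨f⟩
  have hf : IsProper (W ↘ (Spec (CommRingCat.of k))) := ‹IsProper f›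
  have hfp : LocallyOfFinitePresentation f := by
    exact LocallyOfFinitePresentation.iff_locallyOfFiniteType.2 inferInstance
  have hne : (f.smoothLocus : Set W).Nonempty := by
    exact ⟨genericPoint W, Scheme.Hom.genericPoint_mem_smoothLocus_of_perfectField f⟩
  have hJ : JacobsonSpace W := LocallyOfFiniteType.jacobsonSpace f
  obtain ⟨x, hx, hcl⟩ := nonempty_inter_closedPoints hne f.smoothLocus.isOpen.isLocallyClosed
  rw [mem_closedPoints_iff] at hcl
  have hreg : IsRegularLocalRing (W.presheaf.stalk x) :=
    Groth.Agent.VarietyA.RegSmoothSch.isRegularLocalRing_stalk_of_mem_smoothLocus f x hx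
  refine Groth.Agent.S6542.result k W hdim h1 {x} ?_ ?_ ?_
  · intro y hy
    rw [Finset.mem_singleton.1 hy]; exact hcl
  · intro y hy
    rw [Finset.mem_singleton.1 hy]
    exact Groth.Agent.CurvesC.RegNormal.isIntegrallyClosed _
  · have h2 := K455.ResOne.finrank_residueField k W hcl
    rw [Finset.gcd_singleton, normalize_eq]
    exact h2

/-- the main statement -/
theorem main (R : Type u) [CommRing R] [IsDomain R] [IsDiscreteValuationRing R]
    (hk : IsAlgClosed (IsLocalRing.ResidueField R))
    (YR ZR : Over (Spec (CommRingCat.of R))) [IsIntegral YR.left] [IsIntegral ZR.left]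
    (hYn : Pi1.IsNormalScheme YR.left) (hZn : Pi1.IsNormalScheme ZR.left)
    [IsProper YR.hom]
    (π : ZR ⟶ YR) [IsProper π.left]
    (hbir : ∃ U : YR.left.Opens, (U : Set YR.left).Nonempty ∧ IsIso (π.left ∣_ U))
    (y : YR.left) (hyc : IsClosed ({y} : Set YR.left)) (hys : y ∈ Models.specialFibreSet R YR)
    (hrat : Curv2.IsRationalSing (YR.left.presheaf.stalk y))
    (hdim : topologicalKrullDim (π.left.base ⁻¹' ({y} : Set YR.left)) = 1)
    (E : Set ZR.left)
    (hE : Maximal (fun S : Set ZR.left => IsIrreducible S ∧ S ⊆ π.left.base ⁻¹' ({y} : Set YR.left)) E) :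
    ∃ e : CohB1.ProjSpace 1 (IsLocalRing.ResidueField R) ⟶ ZR.left, IsClosedImmersion e ∧ Set.range e.base = E ∧
      e ≫ ZR.hom = CohB1.ProjSpace.toSpec 1 (IsLocalRing.ResidueField R) ≫
        Spec.map (CommRingCat.ofHom (algebraMap R (IsLocalRing.ResidueField R))) := by
  let Z := ZR.left
  let Y := YR.left
  let f : Z ⟶ Y := π.left
  have hπ : π.left ≫ YR.hom = ZR.hom := Over.w π
  have hZp : IsProper ZR.hom := by rw [← hπ]; infer_instance
  have hYN : IsLocallyNoetherian Y := LocallyOfFiniteType.isLocallyNoetherian YR.hom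
  have hZN : IsNoetherian Z := by
    have h1 : IsLocallyNoetherian Z := LocallyOfFiniteType.isLocallyNoetherian ZR.hom
    have h2 : CompactSpace Z := QuasiCompact.compactSpace_of_compactSpace ZR.hom
    exact {}
  obtain ⟨U, hU, hUiso⟩ := hbir
  obtain ⟨hgen, hst⟩ := birational f U hU
  have hF : IsClosed (f ⁻¹' ({y} : Set Y)) := hyc.preimage f.continuous
  -- connectedness of the fibre
  have hconn : _root_.IsPreconnected (f ⁻¹' ({y} : Set Y)) := by
    have h1 : ConnectedSpace ↥(f.fiber y) := Groth.Agent.S15544.result hYn f hgen hst y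
    have h2 : _root_.IsPreconnected (Set.range (f.fiberι y)) := isPreconnected_range (f.fiberι y).continuous
    rwa [f.range_fiberι] at h2
  have hEc : IsClosed E := CompDim.isClosed_of_maximal hF hE
  -- the reduced component
  obtain ⟨W, ι, hι, hWr, hWE⟩ := K418.PreimClosed.exists_closed_subscheme Z E hEc
  have hWirr : IrreducibleSpace W := by
    have h1 : IsIrreducible (Set.range ι) := by rw [hWE]; exact hE.1.1
    rw [irreducibleSpace_def]
    have h2 : IsIrreducible (ι '' (Set.univ : Set W)) := by rwa [Set.image_univ]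
    exact ⟨(by
      obtain ⟨_, w, _⟩ := h1.1
      exact ⟨w, trivial⟩), K418.PreimClosed.isPreirreducible_of_image ι.isEmbedding.isInducing h2.2⟩
  have hWi : IsIntegral W := isIntegral_of_irreducibleSpace_of_isReduced W
  have hWdim : topologicalKrullDim W = 1 := CompDim.dim_eq_one hF hconn hdim hE ι hWE
  have hιy : ∀ w : W, f (ι w) = y := fun w => hE.1.2 (hWE ▸ ⟨w, rfl⟩)
  -- `W` lives over the closed point of `Spec R`
  have hcR : IsClosedImmersion (Spec.map (CommRingCat.ofHom (algebraMap R (IsLocalRing.ResidueField R)))) :=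
    IsClosedImmersion.spec_of_surjective _ IsLocalRing.residue_surjective
  obtain ⟨g, hg⟩ := exists_lift_of_mem_range
    (Spec.map (CommRingCat.ofHom (algebraMap R (IsLocalRing.ResidueField R)))) (ι ≫ ZR.hom) (fun w => by
      have h1 : (ι ≫ ZR.hom) w = IsLocalRing.closedPoint R := by
        rw [← hπ]
        change YR.hom (f (ι w)) = _
        rw [hιy]
        exact hys
      rw [h1]
      refine ⟨IsLocalRing.closedPoint _, ?_⟩
      have hl : IsLocalHom (algebraMap R (IsLocalRing.ResidueField R)) :=
        inferInstanceAs (IsLocalHom (IsLocalRing.residue R))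
      exact IsLocalRing.comap_closedPoint (algebraMap R (IsLocalRing.ResidueField R)))
  have hgp : IsProper g := by
    have : IsProper (g ≫ Spec.map (CommRingCat.ofHom (algebraMap R (IsLocalRing.ResidueField R)))) := by
      rw [hg]; infer_instance
    exact IsProper.of_comp g (Spec.map (CommRingCat.ofHom (algebraMap R (IsLocalRing.ResidueField R))))
  -- the localization at `y`
  let s := Y.fromSpecStalk y
  let X := pullback f s
  let a : X ⟶ Z := pullback.fst f s
  let b : X ⟶ Spec (CommRingCat.of (Y.presheaf.stalk y)) := pullback.snd f s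
  have hXi : IsIntegral X := FlatPre.isIntegral a (FlatPre.mem_range_fst f y _ (by
    rw [hgen]; exact genericPoint_specializes y))
  have hXn : Pi1.IsNormalScheme X := FlatPre.isNormalScheme a hZn
  have hbp : IsProper b := inferInstanceAs (IsProper (pullback.snd f s))
  have hH1 : Subsingleton (Coh.HH X (Coh.structureModule X) 1) := by
    refine hrat X b hbp hXi hXn ⟨s ⁻¹ᵁ U, ?_, FlatPre.isIso_restrict f (IsPullback.of_hasPullback f s) U⟩
    have hη : genericPoint Y ∈ U := ((genericPoint_spec Y).mem_open_set_iff U.isOpen).2 (by simpa using hU)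
    have h1 : genericPoint Y ∈ Set.range s := by
      rw [Scheme.range_fromSpecStalk]; exact genericPoint_specializes y
    obtain ⟨t, ht⟩ := h1
    exact ⟨t, by change s t ∈ U; rw [ht]; exact hη⟩
  -- `W` is a closed subscheme of `X`
  have hcy : IsClosedImmersion (Y.fromSpecResidueField y) := isClosed_singleton_iff_isClosedImmersion.1 hyc
  obtain ⟨c, hc⟩ := exists_lift_of_mem_range (Y.fromSpecResidueField y) (ι ≫ f) (fun w => by
    rw [Scheme.Hom.comp_apply, hιy, Scheme.range_fromSpecResidueField]
    rfl)
  let j : W ⟶ X := pullback.lift ι (c ≫ Spec.map (Y.residue y)) (by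
    rw [← hc, Category.assoc]
    rfl)
  have hj : j ≫ a = ι := pullback.lift_fst _ _ _
  have hji : IsClosedImmersion j := by
    have : IsClosedImmersion (j ≫ a) := by rw [hj]; infer_instance
    exact IsClosedImmersion.of_comp j a
  have hd : topologicalKrullDim ↥(b ⁻¹' {IsLocalRing.closedPoint (Y.presheaf.stalk y)}) ≤ 1 := by
    refine (Groth.Agent.CohqB.LocBaseDim.krullDim_closedFibre_le f y).trans ?_
    have h1 := (f.fiberHomeo y).isHomeomorph.topologicalKrullDim_eq
    rw [h1]
    exact hdim.le
  have hNy : IsNoetherianRing (Y.presheaf.stalk y) := inferInstance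
  have hW1 : Subsingleton (Coh.HH W (Coh.structureModule W) 1) := H1Closed.subsingleton b hd hH1 j
  obtain ⟨e, he⟩ := exists_iso_projLine g hWdim hW1
  refine ⟨e.inv ≫ ι, inferInstance, ?_, ?_⟩
  · change Set.range (e.inv ≫ ι) = E
    rw [Scheme.Hom.comp_base, TopCat.coe_comp, Set.range_comp, Set.range_eq_univ.2 e.inv.surjective, Set.image_univ]
    exact hWE
  · rw [Category.assoc, ← hg, ← he]
    simp

end Groth.Agent.K382.RatFib
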