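import Groth.Agent.Models.K382.AdmStalk
import Groth.Agent.Models.K382.RatFib

/-!
# Local rings of birational modifications consist of fractions
-/

set_option autoImplicit false
universe u
open CategoryTheory CategoryTheory.Limits AlgebraicGeometry TopologicalSpace IsLocalRing

namespace Groth.Agent.K382.AdmFrac

open Groth.Agent.K382

theorem exists_fraction {P T : Scheme.{u}} [IsIntegral P] [IsIntegral T] (b : P ⟶ T) (U : T.Opens)
    (hU : (U : Set T).Nonempty) [IsIso (b ∣_ U)] (z : P) : Function.Injective (b.stalkMap z).hom ∧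
    ∀ (s : P.presheaf.stalk z), 
    ∃ a a' : T.presheaf.stalk (b z), a' ≠ 0 ∧ (b.stalkMap z).hom a' * s = (b.stalkMap z).hom a := by
  obtain ⟨hgen, hiso⟩ := RatFib.birational b U hU
  have hsp : genericPoint P ⤳ z := genericPoint_specializes z
  have hsp' : b (genericPoint P) ⤳ b z := hsp.map b.continuous
  have hcomm : T.presheaf.stalkSpecializes hsp' ≫ b.stalkMap (genericPoint P) =
      b.stalkMap z ≫ P.presheaf.stalkSpecializes hsp := b.stalkSpecializes_stalkMap _ _ hsp
  have hinjP : Function.Injective (P.presheaf.stalkSpecializes hsp).hom :=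
    IsFractionRing.injective (P.presheaf.stalk z) P.functionField
  have hs2 : genericPoint T ⤳ b (genericPoint P) := genericPoint_specializes _
  have hinjT : Function.Injective (T.presheaf.stalkSpecializes hs2).hom :=
    IsFractionRing.injective (T.presheaf.stalk (b (genericPoint P))) T.functionField
  have h3 : ∀ y : T.presheaf.stalk (b z), (P.presheaf.stalkSpecializes hsp).hom ((b.stalkMap z).hom y) =
      (b.stalkMap (genericPoint P)).hom ((T.presheaf.stalkSpecializes hsp').hom y) := fun y =>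
    (congr($(hcomm).hom y)).symm
  have hinjA : Function.Injective (algebraMap (T.presheaf.stalk (b z)) T.functionField) :=
    IsFractionRing.injective _ _
  have hcompT : ∀ y : T.presheaf.stalk (b z), (T.presheaf.stalkSpecializes hs2).hom
      ((T.presheaf.stalkSpecializes hsp').hom y) = algebraMap (T.presheaf.stalk (b z)) T.functionField y := by
    intro y
    have h1 : T.presheaf.stalkSpecializes hsp' ≫ T.presheaf.stalkSpecializes hs2 =
        T.presheaf.stalkSpecializes (genericPoint_specializes (b z)) :=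
      TopCat.Presheaf.stalkSpecializes_comp _ _ _
    exact congr($(h1).hom y)
  refine ⟨fun y y' hyy => ?_, fun s => ?_⟩
  · have h4 := congrArg (P.presheaf.stalkSpecializes hsp).hom hyy
    rw [h3, h3] at h4
    have h5 := (ConcreteCategory.bijective_of_isIso (b.stalkMap (genericPoint P))).1 h4
    have h6 := congrArg (T.presheaf.stalkSpecializes hs2).hom h5
    rw [hcompT, hcompT] at h6
    exact hinjA h6
  obtain ⟨t, ht⟩ := (ConcreteCategory.bijective_of_isIso (b.stalkMap (genericPoint P))).2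
    ((P.presheaf.stalkSpecializes hsp).hom s)
  obtain ⟨a, a', ha', hat⟩ := IsFractionRing.div_surjective (A := T.presheaf.stalk (b z))
    ((T.presheaf.stalkSpecializes hs2).hom t)
  have ha'0 : a' ≠ 0 := nonZeroDivisors.ne_zero ha'
  have hne : algebraMap (T.presheaf.stalk (b z)) T.functionField a' ≠ 0 :=
    (map_ne_zero_iff _ hinjA).2 ha'0
  have h2 : (T.presheaf.stalkSpecializes hsp').hom a' * t = (T.presheaf.stalkSpecializes hsp').hom a := by
    apply hinjT
    rw [map_mul, hcompT, hcompT, ← hat, mul_div_cancel₀ _ hne]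
  refine ⟨a, a', ha'0, hinjP ?_⟩
  rw [map_mul]
  rw [h3, h3, ← h2, map_mul]
  congr 1
  exact ht.symm

variable {R : Type u} [CommRing R] [IsDomain R] [IsDiscreteValuationRing R]
  {K : Type u} [Field K] [Algebra R K] [IsFractionRing R K]
  {C X Z : Scheme.{u}} {f : C ⟶ Spec (CommRingCat.of K)} {p : X ⟶ Spec (CommRingCat.of R)} {g : C ⟶ X}
  {g' : C ⟶ Z} {ρ : Z ⟶ X}
  (h : IsPullback g f p (Spec.map (CommRingCat.ofHom (algebraMap R K))))
  (h' : IsPullback g' f (ρ ≫ p) (Spec.map (CommRingCat.ofHom (algebraMap R K))))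
  (hρ : g' ≫ ρ = g)

include h h' hρ

theorem exists_fraction_aux [Flat p] [Flat (ρ ≫ p)] (x : X) (hx : IsDomain (X.presheaf.stalk x))
    (z' : ↥(pullback ρ (X.fromSpecStalk x))) :
    Function.Injective (ρ.stalkMap (pullback.fst ρ (X.fromSpecStalk x) z')).hom ∧
    ∀ (s : Z.presheaf.stalk (pullback.fst ρ (X.fromSpecStalk x) z')),
    ∃ a a' : X.presheaf.stalk (ρ (pullback.fst ρ (X.fromSpecStalk x) z')), a' ≠ 0 ∧
      (ρ.stalkMap _).hom a' * s = (ρ.stalkMap _).hom a := by
  have hg : IsOpenImmersion g := AdmBase.isOpenImmersion h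
  have hfl := Groth.Agent.PerfA.StalkPush.flat_fromSpecStalk x
  let t := X.fromSpecStalk x
  have hP : IsIntegral (pullback ρ t) := AdmStalk.isIntegral_stalk h h' hρ x hx
  obtain ⟨w⟩ := AdmStalk.nonempty_generic h h' hρ x
  have hiso := AdmStalk.isIso_restrict_opensRange (AdmStalk.isPullback_w h h' hρ t)
  let u := pullback.fst ρ t
  let b := pullback.snd ρ t
  obtain ⟨hbinj, hfr⟩ := exists_fraction b (pullback.fst t g).opensRange ⟨_, ⟨w, rfl⟩⟩ z'
  have hbt := FlatPre.bijective_stalkMap t (b z')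
  have hbu := FlatPre.bijective_stalkMap u z'
  have heq : u ≫ ρ = b ≫ t := pullback.condition
  have hpt : ρ (u z') = t (b z') := by
    rw [← Scheme.Hom.comp_apply, heq, Scheme.Hom.comp_apply]
  let c : X.presheaf.stalk (t (b z')) ⟶ X.presheaf.stalk (ρ (u z')) :=
    X.presheaf.stalkSpecializes (specializes_of_eq hpt)
  let c' : X.presheaf.stalk (ρ (u z')) ⟶ X.presheaf.stalk (t (b z')) :=
    X.presheaf.stalkSpecializes (specializes_of_eq hpt.symm)
  have hcc : ∀ y, c'.hom (c.hom y) = y := by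
    intro y
    have h1 : c ≫ c' = 𝟙 _ := by
      simp only [c, c', TopCat.Presheaf.stalkSpecializes_comp, TopCat.Presheaf.stalkSpecializes_refl]
    exact congr($(h1).hom y)
  have hcomm : ρ.stalkMap (u z') ≫ u.stalkMap z' = c' ≫ t.stalkMap (b z') ≫ b.stalkMap z' := by
    rw [← Scheme.Hom.stalkMap_comp, ← Scheme.Hom.stalkMap_comp]
    exact Scheme.Hom.stalkMap_congr_hom _ _ heq z'
  have hcomm' : ∀ y, (u.stalkMap z').hom ((ρ.stalkMap (u z')).hom y) =
      (b.stalkMap z').hom ((t.stalkMap (b z')).hom (c'.hom y)) := fun y => congr($(hcomm).hom y)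
  have hcc' : ∀ y, c.hom (c'.hom y) = y := by
    intro y
    have h1 : c' ≫ c = 𝟙 _ := by
      simp only [c, c', TopCat.Presheaf.stalkSpecializes_comp, TopCat.Presheaf.stalkSpecializes_refl]
    exact congr($(h1).hom y)
  refine ⟨fun y y' hyy => ?_, fun s => ?_⟩
  · have h4 := congrArg (u.stalkMap z').hom hyy
    rw [hcomm', hcomm'] at h4
    have h5 := congrArg c.hom (hbt.1 (hbinj h4))
    rwa [hcc', hcc'] at h5
  obtain ⟨a₁, a₁', ha₁', he⟩ := hfr ((u.stalkMap z').hom s)
  obtain ⟨a₂, ha₂⟩ := hbt.2 a₁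
  obtain ⟨a₂', ha₂'⟩ := hbt.2 a₁'
  refine ⟨c.hom a₂, c.hom a₂', ?_, hbu.1 ?_⟩
  · intro h0
    have h1 := hcc a₂'
    rw [h0, map_zero] at h1
    apply ha₁'
    rw [← ha₂', ← h1, map_zero]
  · have h4 : ∀ y, (u.stalkMap z').hom ((ρ.stalkMap (u z')).hom (c.hom y)) =
        (b.stalkMap z').hom ((t.stalkMap (b z')).hom y) := by
      intro y
      have h5 := congr($(hcomm).hom (c.hom y))
      change (u.stalkMap z').hom ((ρ.stalkMap (u z')).hom (c.hom y)) =
        (b.stalkMap z').hom ((t.stalkMap (b z')).hom (c'.hom (c.hom y))) at h5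
      rw [hcc] at h5
      exact h5
    rw [map_mul, h4, h4, ha₂, ha₂']
    exact he

/-- The local rings of a modification consist of fractions of the local rings of the base. -/
theorem exists_fraction_stalk [Flat p] [Flat (ρ ≫ p)] (z : Z) (hx : IsDomain (X.presheaf.stalk (ρ z))) :
    Function.Injective (ρ.stalkMap z).hom ∧ ∀ (s : Z.presheaf.stalk z),
    ∃ a a' : X.presheaf.stalk (ρ z), a' ≠ 0 ∧ (ρ.stalkMap z).hom a' * s = (ρ.stalkMap z).hom a := by
  obtain ⟨z', hz'⟩ := FlatPre.mem_range_fst ρ (ρ z) z specializes_rfl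
  let Q : Z → Prop := fun z₀ => Function.Injective (ρ.stalkMap z₀).hom ∧
    ∀ s : Z.presheaf.stalk z₀, ∃ a a' : X.presheaf.stalk (ρ z₀), a' ≠ 0 ∧
    (ρ.stalkMap z₀).hom a' * s = (ρ.stalkMap z₀).hom a
  have key : Q (pullback.fst ρ (X.fromSpecStalk (ρ z)) z') := exists_fraction_aux h h' hρ (ρ z) hx z'
  rw [hz'] at key
  exact key

end Groth.Agent.K382.AdmFrac
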