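import Groth.Agent.Models.K382.AdmVan
import Groth.Agent.Models.K382.AdmFrac
import Groth.Agent.Models.K382.AdmExc
import Groth.Agent.S1648
import Groth.Agent.S1649
import Groth.Agent.S15136

/-!
# Admissible models and modifications
-/

set_option autoImplicit false
universe u
open CategoryTheory CategoryTheory.Limits AlgebraicGeometry TopologicalSpace IsLocalRing

namespace Groth.Agent.K382.AdmRat

open Groth.Agent.K382 Groth.Agent

section Nag

variable {R : Type u} [CommRing R] [IsDomain R] [IsDiscreteValuationRing R]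
  {K : Type u} [Field K] [Algebra R K] [IsFractionRing R K] [CharZero K]
  {C X Z : Scheme.{u}} {f : C ⟶ Spec (CommRingCat.of K)} {p : X ⟶ Spec (CommRingCat.of R)} {g : C ⟶ X}
  {g' : C ⟶ Z} {ρ : Z ⟶ X}
  (h : IsPullback g f p (Spec.map (CommRingCat.ofHom (algebraMap R K))))
  (h' : IsPullback g' f (ρ ≫ p) (Spec.map (CommRingCat.ofHom (algebraMap R K))))
  (hρ : g' ≫ ρ = g)

include h h' hρ

/-- Rationality of singularities passes to normal modifications. -/
theorem isRationalSing_stalk [Flat p] [IsProper p] [Flat (ρ ≫ p)] [IsProper ρ] [SmoothOfRelativeDimension 1 f]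
    (hX : Pi1.IsNormalScheme X) (hZ : Pi1.IsNormalScheme Z)
    (hrat : ∀ x : X, IsClosed ({x} : Set X) → Curv2.IsRationalSing (X.presheaf.stalk x))
    (z : Z) (hz : IsClosed ({z} : Set Z)) : Curv2.IsRationalSing (Z.presheaf.stalk z) := by
  have hln : IsLocallyNoetherian X := LocallyOfFiniteType.isLocallyNoetherian p
  have hx : IsClosed ({ρ z} : Set X) := by
    rw [← Set.image_singleton]
    exact ρ.isClosedMap _ hz
  have hN : CAlg.IsNagata (X.presheaf.stalk (ρ z)) :=
    AdmExc.isNagata_stalk (K375.NagSch.isNag_of_locallyOfFiniteType p (AdmExc.isNag_Spec R K)) _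
  obtain ⟨hXd, hXi⟩ := hX (ρ z)
  obtain ⟨hZd, hZi⟩ := hZ z
  have hNoeth : IsNoetherianRing (X.presheaf.stalk (ρ z)) := inferInstance
  let alg : Algebra (X.presheaf.stalk (ρ z)) (Z.presheaf.stalk z) := (ρ.stalkMap z).hom.toAlgebra
  have hloc : IsLocalHom (algebraMap (X.presheaf.stalk (ρ z)) (Z.presheaf.stalk z)) :=
    inferInstanceAs (IsLocalHom (ρ.stalkMap z).hom)
  have hess : Algebra.EssFiniteType (X.presheaf.stalk (ρ z)) (Z.presheaf.stalk z) :=
    LocallyOfFiniteType.stalkMap ρ z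
  obtain ⟨hinj, hfr⟩ := AdmFrac.exists_fraction_stalk h h' hρ z hXd
  refine S1649.result (X.presheaf.stalk (ρ z)) (Z.presheaf.stalk z) hN
    (AdmBase.ringKrullDim_stalk_eq_two h (fun x => (hX x).1) _ hx) (hrat _ hx) hinj hfr
    (AdmBase.ringKrullDim_stalk_eq_two h' (fun x => (hZ x).1) _ hz)

/-- Cohomological flatness passes to normal modifications of models with rational singularities. -/
theorem surjective_of_surjective [Flat p] [IsProper p] [Flat (ρ ≫ p)] [IsProper ρ]
    (hX : Pi1.IsNormalScheme X) (hZ : Pi1.IsNormalScheme Z)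
    (hrat : ∀ x : X, IsClosed ({x} : Set X) → Curv2.IsRationalSing (X.presheaf.stalk x)) 
    (hs : Function.Surjective (Sheaf.H.map ((SheafOfModules.toSheaf X.ringCatSheaf).map
      (ClSub.toSubscheme (Models.specialFibreIdeal R (Over.mk p)))) 0)) :
    Function.Surjective (Sheaf.H.map ((SheafOfModules.toSheaf Z.ringCatSheaf).map
      (ClSub.toSubscheme (Models.specialFibreIdeal R (Over.mk (ρ ≫ p))))) 0) := by
  let _ : X.Over (Spec (CommRingCat.of R)) := ⟨p⟩
  let _ : Z.Over (Spec (CommRingCat.of R)) := ⟨ρ ≫ p⟩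
  have i1 : IsProper (X ↘ Spec (CommRingCat.of R)) := ‹IsProper p›
  have i2 : Flat (X ↘ Spec (CommRingCat.of R)) := ‹Flat p›
  have i3 : IsProper (Z ↘ Spec (CommRingCat.of R)) := inferInstanceAs (IsProper (ρ ≫ p))
  have i4 : Flat (Z ↘ Spec (CommRingCat.of R)) := ‹Flat (ρ ≫ p)›
  obtain ⟨e⟩ := AdmVan.nonempty_equiv h h' hρ hX hZ hrat R (show ρ ≫ p = ρ ≫ p from rfl)
  have h1 := (S15136.result R X).1 hs
  refine (S15136.result R Z).2 ⟨fun {c x} hcx => ?_⟩
  have h2 : c • e.symm x = 0 := by rw [← map_smul, hcx, map_zero]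
  rcases h1.eq_zero_or_eq_zero_of_smul_eq_zero h2 with h3 | h3
  · exact Or.inl h3
  · exact Or.inr (by simpa using h3)

end Nag

/-- An admissible model of a curve. -/
def IsAdm (R : Type u) [CommRing R] [IsDomain R] [IsDiscreteValuationRing R] (K : Type u) [Field K] [Algebra R K]
    {C X : Scheme.{u}} (f : C ⟶ Spec (CommRingCat.of K)) (p : X ⟶ Spec (CommRingCat.of R)) (g : C ⟶ X) : Prop :=
  IsProper p ∧ Flat p ∧ IsPullback g f p (Spec.map (CommRingCat.ofHom (algebraMap R K))) ∧
    Pi1.IsNormalScheme X ∧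
    Function.Surjective (Sheaf.H.map ((SheafOfModules.toSheaf X.ringCatSheaf).map
      (ClSub.toSubscheme (Models.specialFibreIdeal R (Over.mk p)))) 0) ∧
    (∀ x : ↥X, IsClosed ({x} : Set ↥X) → Curv2.IsRationalSing (X.presheaf.stalk x))

/-- A normal modification of an admissible model is admissible. -/
theorem IsAdm.of_modification {R : Type u} [CommRing R] [IsDomain R] [IsDiscreteValuationRing R]
    {K : Type u} [Field K] [Algebra R K] [IsFractionRing R K] [CharZero K]
    {C X Z : Scheme.{u}} {f : C ⟶ Spec (CommRingCat.of K)} [SmoothOfRelativeDimension 1 f]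
    {p : X ⟶ Spec (CommRingCat.of R)} {g : C ⟶ X} (hX : IsAdm R K f p g) {q : Z ⟶ Spec (CommRingCat.of R)}
    {g' : C ⟶ Z} (ρ : Z ⟶ X) (hρp : ρ ≫ p = q) (hρ : g' ≫ ρ = g) [IsProper ρ] [Flat q]
    (h' : IsPullback g' f q (Spec.map (CommRingCat.ofHom (algebraMap R K))))
    (hZ : Pi1.IsNormalScheme Z) : IsAdm R K f q g' := by
  obtain ⟨h1, h2, h3, h4, h5, h6⟩ := hX
  subst hρp
  exact ⟨inferInstance, ‹_›, h', hZ, surjective_of_surjective h3 h' hρ h4 hZ h6 h5,
    fun z hz => isRationalSing_stalk h3 h' hρ h4 hZ h6 z hz⟩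

end Groth.Agent.K382.AdmRat
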