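import Groth.Agent.Models.K382.AdmResol
import Groth.Agent.Models.K382.AdmFlatt
import Groth.Agent.Models.K382.AdmRat
import Groth.Agent.Models.K382.AdmExc
import Groth.Agent.Models.K381.DedFlat
import Groth.Agent.Lefpen.H716.CIGeom
import Groth.Agent.Lefpen.H705.ClosedPoint

/-!
# Regular modifications of a model over which the normalization dominates a given scheme
-/

set_option autoImplicit false
universe u
open CategoryTheory CategoryTheory.Limits AlgebraicGeometry TopologicalSpace IsLocalRing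

namespace Groth.Agent.K382.AdmDom

open Groth.Agent.K382.AdmFormal Groth.Agent.K382.AdmNorm Groth.Agent.K382.AdmResol

theorem regular_of_smooth {K : Type u} [Field K] {D : Scheme.{u}} (f : D ⟶ Spec (CommRingCat.of K))
    [SmoothOfRelativeDimension 1 f] (d : D) : IsRegularLocalRing (D.presheaf.stalk d) := by
  have hs : Smooth f := SmoothOfRelativeDimension.smooth 1 f
  exact Groth.Agent.Lefpen.H705.ClosedPoint.isRegularLocalRing_stalk f d

theorem dim_le_one {K : Type u} [Field K] {D : Scheme.{u}} (f : D ⟶ Spec (CommRingCat.of K))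
    [SmoothOfRelativeDimension 1 f] (d : D) : ringKrullDim (D.presheaf.stalk d) ≤ 1 :=
  (K381.DedFlat.ringKrullDim_stalk_le D d).trans
    (by exact_mod_cast Lefpen.H716.CIGeom.topologicalKrullDim_le_of_smooth 1 f)

section

variable {R : Type u} [CommRing R] [IsDomain R] [IsDiscreteValuationRing R]
  {K : Type u} [Field K] [Algebra R K] [IsFractionRing R K] [CharZero K]

theorem exists_dom {C D Y W : Scheme.{u}} {fD : D ⟶ Spec (CommRingCat.of K)} [SmoothOfRelativeDimension 1 fD]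
    {q : Y ⟶ Spec (CommRingCat.of R)} {h : D ⟶ Y} [IsProper q]
    (hh : IsPullback h fD q (Spec.map (CommRingCat.ofHom (algebraMap R K)))) (c : C ⟶ D)
    (hc : Mor2.IsFinLocFree c) (hC : Pi1.IsNormalScheme C) (j : C ⟶ W) [Mono j] (w : W ⟶ Spec (CommRingCat.of R))
    [IsProper w] (e : j ≫ w = (c ≫ h) ≫ q) :
    ∃ (Y' : Scheme.{u}) (σ : Y' ⟶ Y) (h' : D ⟶ Y') (X' : Scheme.{u}) (ν : X' ⟶ Y') (g' : C ⟶ X') (ρ : X' ⟶ W),
      IsProper σ ∧ (∀ y : Y', IsRegularLocalRing (Y'.presheaf.stalk y)) ∧ Pi1.IsNormalScheme Y' ∧ h' ≫ σ = h ∧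
      IsPullback h' (𝟙 D) σ h ∧ Flat (σ ≫ q) ∧ IsFinite ν ∧ Pi1.IsNormalScheme X' ∧ IsPullback g' c ν h' ∧
      Flat (ν ≫ σ ≫ q) ∧ IsProper ρ ∧ g' ≫ ρ = j ∧ ρ ≫ w = ν ≫ σ ≫ q ∧ IsReduced X' ∧ QuasiCompact g' ∧
      IsDominant g' := by
  have hcf : IsFinite c := hc.1
  have hoh : IsOpenImmersion h := AdmBase.isOpenImmersion hh
  have hYl : IsLocallyNoetherian Y := LocallyOfFiniteType.isLocallyNoetherian q
  have hYc : CompactSpace Y := (quasiCompact_iff_compactSpace q).mp inferInstance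
  have hYN : IsNoetherian Y := {}
  have hDl : IsLocallyNoetherian D := LocallyOfFiniteType.isLocallyNoetherian h
  have hDc : CompactSpace D := QuasiCompact.compactSpace_of_compactSpace h
  have hDN : IsNoetherian D := {}
  have hCl : IsLocallyNoetherian C := LocallyOfFiniteType.isLocallyNoetherian c
  have hCc : CompactSpace C := QuasiCompact.compactSpace_of_compactSpace c
  have hCN : IsNoetherian C := {}
  have hCred : IsReduced C := isReduced_of_normal hC
  have hDn : Pi1.IsNormalScheme D := isNormalScheme_of_regular (regular_of_smooth fD)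
  have hqc : QuasiCompact (pullback.lift j (c ≫ h) e) := quasiCompact_of_noetherianSpace_source _
  obtain ⟨𝓘, Y₁, b, h₁, Γ₁, φ₁, i₁, γ₁, hb, hft, hh₁, hpb, hfin, hiφ, hiγ, hγw⟩ :=
    AdmFlatt.exists_flattening c hc h j w q e
  have hbp : IsProper b := Groth.Agent.Flat2C.BlowProper.isProper_of_isBlowUp hb hft
  have hoh₁ : IsOpenImmersion h₁ := MorphismProperty.of_isPullback (P := @IsOpenImmersion) hpb.flip hoh
  have hqc₁ : QuasiCompact h₁ := quasiCompact_of_noetherianSpace_source _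
  have hnag := AdmExc.isNag_Spec R K
  have hexcR : K381.ExcSch.IsExc (Spec (CommRingCat.of R)) := by
    refine fun x => ⟨⟨⊤, isAffineOpen_top _⟩, trivial, ?_⟩
    algebraize [(Scheme.ΓSpecIso (CommRingCat.of R)).inv.hom]
    have hsur : Function.Surjective (algebraMap R Γ(Spec (CommRingCat.of R), ⊤)) :=
      (Scheme.ΓSpecIso (CommRingCat.of R)).symm.commRingCatIsoToRingEquiv.surjective
    have hft : Algebra.FiniteType R Γ(Spec (CommRingCat.of R), ⊤) :=
      Algebra.FiniteType.of_surjective (Algebra.ofId R _) hsur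
    exact Groth.Agent.S2651.result R (AdmExc.isExcellent R K) Γ(Spec (CommRingCat.of R), ⊤)
  have hY₁ : K375.NagSch.IsNag Y₁ := K375.NagSch.isNag_of_locallyOfFiniteType (b ≫ q) hnag
  obtain ⟨Y₂, ν₂, h₂, hν₂, hY₂n, hY₂r, hp₂, hd₂, -⟩ := exists_norm (𝟙 D) h₁ hY₁ hDn
  have hoh₂ : IsOpenImmersion h₂ := MorphismProperty.of_isPullback (P := @IsOpenImmersion) hp₂.flip hoh₁
  have hY₂l : IsLocallyNoetherian Y₂ := LocallyOfFiniteType.isLocallyNoetherian (ν₂ ≫ b ≫ q)
  have hY₂c : CompactSpace Y₂ := QuasiCompact.compactSpace_of_compactSpace (ν₂ ≫ b ≫ q)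
  have hY₂N : IsNoetherian Y₂ := {}
  have hqc₂ : QuasiCompact h₂ := quasiCompact_of_noetherianSpace_source _
  have hpp₂ : IsPullback h₂ fD (ν₂ ≫ b ≫ q) (Spec.map (CommRingCat.ofHom (algebraMap R K))) := by
    have h3 := hp₂.paste_vert (hpb.paste_vert hh)
    simpa using h3
  have hfl₂ : Flat (ν₂ ≫ b ≫ q) := flat_of_isDominant hpp₂.w
  have hexc₂ : K381.ExcSch.IsExc Y₂ := hexcR.of_locallyOfFiniteType (ν₂ ≫ b ≫ q)
  have hdim₂ : ∀ y : Y₂, ringKrullDim (Y₂.presheaf.stalk y) ≤ 2 :=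
    AdmBase.ringKrullDim_stalk_le_two hpp₂ (fun y => (hY₂n y).1) (dim_le_one fD)
  obtain ⟨Y', r, h', hr, hreg, hh', hp', hd'⟩ := exists_resol h₂ hexc₂ hY₂n hdim₂ (regular_of_smooth fD)
  have hoh' : IsOpenImmersion h' := MorphismProperty.of_isPullback (P := @IsOpenImmersion) hp'.flip hoh₂
  have hqc' : QuasiCompact h' := quasiCompact_of_noetherianSpace_source _
  have hY'n := isNormalScheme_of_regular hreg
  have hY'r : IsReduced Y' := isReduced_of_normal hY'n
  have hY'nag : K375.NagSch.IsNag Y' := K375.NagSch.isNag_of_locallyOfFiniteType (r ≫ ν₂ ≫ b ≫ q) hnag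
  obtain ⟨X', ν, g', hν, hX'n, hX'r, hpX, hdX, H⟩ := exists_norm c h' hY'nag hC
  have hqcg : QuasiCompact g' := quasiCompact_of_noetherianSpace_source _
  have hph : IsPullback h' (𝟙 D) (r ≫ ν₂ ≫ b) h := by
    have h3 := hp'.paste_vert (hp₂.paste_vert hpb)
    simpa using h3
  have hph' : IsPullback h' fD ((r ≫ ν₂ ≫ b) ≫ q) (Spec.map (CommRingCat.ofHom (algebraMap R K))) := by
    have h3 := hph.paste_vert hh
    simpa using h3
  have hpg : IsPullback g' (c ≫ fD) (ν ≫ (r ≫ ν₂ ≫ b) ≫ q) (Spec.map (CommRingCat.ofHom (algebraMap R K))) :=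
    hpX.paste_vert hph'
  have hT : i₁ ≫ φ₁ = (c ≫ h') ≫ r ≫ ν₂ := by
    have e1 : h₂ ≫ ν₂ = h₁ := by simpa using hp₂.w
    rw [hiφ, Category.assoc, reassoc_of% hh', e1]
  obtain ⟨l, hl1, hl2⟩ := H (pullback φ₁ (r ≫ ν₂)) (pullback.lift i₁ (c ≫ h') hT) (pullback.snd _ _)
    (pullback.lift_snd _ _ _)
  have hρw : (l ≫ pullback.fst _ _ ≫ γ₁) ≫ w = ν ≫ (r ≫ ν₂ ≫ b) ≫ q := by
    rw [Category.assoc, Category.assoc, hγw, pullback.condition_assoc, reassoc_of% hl2]
    simp only [Category.assoc]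
  have hρp : IsProper (l ≫ pullback.fst _ _ ≫ γ₁) := by
    have : IsProper ((l ≫ pullback.fst _ _ ≫ γ₁) ≫ w) := by rw [hρw]; infer_instance
    exact IsProper.of_comp _ w
  refine ⟨Y', r ≫ ν₂ ≫ b, h', X', ν, g', l ≫ pullback.fst _ _ ≫ γ₁, inferInstance, hreg, hY'n, ?_, hph,
    flat_of_isDominant hph'.w, hν, hX'n, hpX, flat_of_isDominant hpg.w, hρp, ?_, hρw, hX'r, hqcg, hdX⟩
  · simpa using hph.w
  · rw [reassoc_of% hl1, pullback.lift_fst_assoc, hiγ]

end

end Groth.Agent.K382.AdmDom
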