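import Groth.Agent.Models.K382.AdmDom

/-!
# Generic fibres over finite extensions of discrete valuation rings
-/

set_option autoImplicit false
universe u
open CategoryTheory CategoryTheory.Limits AlgebraicGeometry TopologicalSpace IsLocalRing

namespace Groth.Agent.K382.AdmExt

open Groth.Agent.Models

theorem comap_eq_closedPoint_iff {R R' : Type u} [CommRing R] [IsDomain R] [IsDiscreteValuationRing R]
    [CommRing R'] [IsDomain R'] [IsDiscreteValuationRing R'] (φ : R →+* R') (h : Models.IsDVRExtension R φ)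
    (y : PrimeSpectrum R') : PrimeSpectrum.comap φ y = closedPoint R ↔ y = closedPoint R' := by
  obtain ⟨hinj, hloc⟩ := h
  constructor
  · intro h1
    refine (DVRGeneric.eq_closedPoint_or_eq_bot R' y).resolve_right fun hy => ?_
    have h2 : (PrimeSpectrum.comap φ y).asIdeal = ⊥ := by
      rw [PrimeSpectrum.comap_asIdeal, hy]
      exact (RingHom.ker_eq_comap_bot _).symm.trans ((RingHom.injective_iff_ker_eq_bot _).1 hinj)
    rw [h1] at h2
    exact IsDiscreteValuationRing.not_a_field R h2
  · rintro rfl
    exact IsLocalRing.comap_closedPoint φ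

theorem mem_range_iff_ne {R : Type u} [CommRing R] [IsDomain R] [IsDiscreteValuationRing R]
    {K : Type u} [Field K] [Algebra R K] [IsFractionRing R K] (y : Spec (CommRingCat.of R)) :
    y ∈ Set.range (Spec.map (CommRingCat.ofHom (algebraMap R K))) ↔ y ≠ closedPoint R :=
  AdmBase.mem_range_iff (K := K) (f := 𝟙 _) (p := 𝟙 (Spec (CommRingCat.of R)))
    (g := Spec.map (CommRingCat.ofHom (algebraMap R K))) (IsPullback.of_vert_isIso ⟨by simp⟩) y

theorem isPullback_ext {R R' : Type u} [CommRing R] [IsDomain R] [IsDiscreteValuationRing R]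
    [CommRing R'] [IsDomain R'] [IsDiscreteValuationRing R'] (φ : R →+* R') (h : Models.IsDVRExtension R φ)
    {K : Type u} [Field K] [Algebra R K] [IsFractionRing R K] {K' : Type u} [Field K'] [Algebra R' K']
    [IsFractionRing R' K'] {C X : Scheme.{u}} {r : X ⟶ Spec (CommRingCat.of R)} {q : X ⟶ Spec (CommRingCat.of R')}
    (hq : q ≫ Spec.map (CommRingCat.ofHom φ) = r) {g : C ⟶ X} {ψ : C ⟶ Spec (CommRingCat.of K)}
    (hp : IsPullback g ψ r (Spec.map (CommRingCat.ofHom (algebraMap R K)))) {f : C ⟶ Spec (CommRingCat.of K')}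
    (e : g ≫ q = f ≫ Spec.map (CommRingCat.ofHom (algebraMap R' K'))) :
    IsPullback g f q (Spec.map (CommRingCat.ofHom (algebraMap R' K'))) := by
  have h1 : IsOpenImmersion g := AdmBase.isOpenImmersion hp
  have h2 : IsOpenImmersion (Spec.map (CommRingCat.ofHom (algebraMap R' K'))) := DVRGeneric.isOpenImmersion_generic R' K'
  refine (IsOpenImmersion.isPullback f g _ q e ?_).flip
  ext x
  change q x ∈ Set.range (Spec.map (CommRingCat.ofHom (algebraMap R' K'))) ↔ x ∈ Set.range g
  rw [AdmBase.mem_range_iff hp x, mem_range_iff_ne, ← hq, Scheme.Hom.comp_apply]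
  exact not_congr (comap_eq_closedPoint_iff φ h (q x)).symm

end Groth.Agent.K382.AdmExt
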