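import Groth.Agent.S1682
import Groth.Agent.CycB.ImageInt
import Groth.Agent.Ega2.BlowBasic
import Groth.Agent.Flat2C.BlowProper
import Groth.Agent.Flat2C.StrictTr
import Mathlib.AlgebraicGeometry.Normalization
import Mathlib.AlgebraicGeometry.ZariskisMainTheorem
import Mathlib.AlgebraicGeometry.Morphisms.Flat

/-!
# Modifications which are isomorphisms over a given open immersion
-/

set_option autoImplicit false
universe u
open CategoryTheory CategoryTheory.Limits AlgebraicGeometry TopologicalSpace IsLocalRing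

namespace Groth.Agent.K382.AdmFormal

theorem isPullback_of_isIso_snd {D Y Y₁ : Scheme.{u}} {b : Y₁ ⟶ Y} {h : D ⟶ Y} {h₁ : D ⟶ Y₁} (e : h₁ ≫ b = h)
    [IsIso (pullback.snd b h)] : IsPullback h₁ (𝟙 D) b h := by
  have h1 : pullback.lift h₁ (𝟙 D) (by rw [e, Category.id_comp]) ≫ pullback.snd b h = 𝟙 D := pullback.lift_snd _ _ _
  have h2 : pullback.lift h₁ (𝟙 D) (by rw [e, Category.id_comp]) = inv (pullback.snd b h) := by
    rw [← cancel_mono (pullback.snd b h), h1, IsIso.inv_hom_id]
  refine IsPullback.of_iso_pullback ⟨by rw [e, Category.id_comp]⟩ (asIso (pullback.snd b h)).symm ?_ ?_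
  · rw [Iso.symm_hom, asIso_inv, ← h2, pullback.lift_fst]
  · simp

theorem isIso_snd_of_range {X' X C : Scheme.{u}} (b : X' ⟶ X) (U : X.Opens) [IsIso (b ∣_ U)] (i : C ⟶ X)
    (hi : Set.range i ⊆ U) : IsIso (pullback.snd b i) := by
  let l : C ⟶ U := IsOpenImmersion.lift U.ι i (by simpa using hi)
  have hl : l ≫ U.ι = i := IsOpenImmersion.lift_fac _ _ _
  have h1 : IsPullback (b ⁻¹ᵁ U).ι (b ∣_ U) b U.ι := (isPullback_morphismRestrict b U).flip
  have hw : pullback.fst b i ≫ b = (pullback.snd b i ≫ l) ≫ U.ι := by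
    rw [Category.assoc, hl, pullback.condition]
  have h2 : IsPullback (h1.lift _ _ hw) (pullback.snd b i) (b ∣_ U) l := by
    refine IsPullback.of_right (h₁₂ := (b ⁻¹ᵁ U).ι) ?_ (h1.lift_snd _ _ _) h1
    rw [h1.lift_fst, hl]
    exact IsPullback.of_hasPullback b i
  exact MorphismProperty.of_isPullback (P := MorphismProperty.isomorphisms _) h2 ‹IsIso (b ∣_ U)›

open Groth.Agent.Ega2.BlowBasic in
/-- The lift to a blow-up of a morphism avoiding the centre. -/
theorem exists_lift_blowUp {D Y Y₁ : Scheme.{u}} {b : Y₁ ⟶ Y} {𝓘 : Y.IdealSheafData} (hb : BlowUp.IsBlowUp b 𝓘)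
    (h : D ⟶ Y) (hd : ∀ d, h d ∉ 𝓘.support) : ∃ h₁ : D ⟶ Y₁, h₁ ≫ b = h ∧ IsPullback h₁ (𝟙 D) b h := by
  have h1 := Groth.Agent.S1682.result 𝓘 b hb
  have h2 : IsIso (pullback.snd b h) := isIso_snd_of_range b 𝓘.support.compl h (by
    rintro _ ⟨d, rfl⟩; exact hd d)
  have h3 : (inv (pullback.snd b h) ≫ pullback.fst b h) ≫ b = h := by
    rw [Category.assoc, pullback.condition, IsIso.inv_hom_id_assoc]
  exact ⟨_, h3, isPullback_of_isIso_snd h3⟩

/-- The normalization in a scheme integral over an open subscheme, over this open subscheme. -/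
theorem isPullback_normalization {C D Y : Scheme.{u}} (c : C ⟶ D) [IsIntegralHom c] (h : D ⟶ Y)
    [IsOpenImmersion h] [QuasiCompact (c ≫ h)] [QuasiSeparated (c ≫ h)] :
    IsPullback (c ≫ h).toNormalization c (c ≫ h).fromNormalization h := by
  have hp : IsPullback (𝟙 C) c (c ≫ h) h := by
    have h1 : IsPullback (𝟙 C) c c (𝟙 D) := IsPullback.of_horiz_isIso ⟨by simp⟩
    have h2 : IsPullback (𝟙 D) (𝟙 D) h h := IsPullback.of_isLimit (PullbackCone.isLimitMkIdId h)
    have h3 := h1.paste_vert h2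
    rwa [Category.comp_id] at h3
  let F := c ≫ h
  have hsm : Smooth h := inferInstance
  let e₀ : C ≅ pullback F h := hp.isoPullback
  have he1 : e₀.hom ≫ pullback.fst F h = 𝟙 C := hp.isoPullback_hom_fst
  have he2 : e₀.hom ≫ pullback.snd F h = c := hp.isoPullback_hom_snd
  have hint : IsIntegralHom (pullback.snd F h) := by
    have h4 : pullback.snd F h = e₀.inv ≫ c := by rw [← he2, Iso.inv_hom_id_assoc]
    rw [h4]
    infer_instance
  have hn1 : IsIso (pullback.snd F h).toNormalization := inferInstance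
  have hn2 : IsIso (F.normalizationPullback h) := inferInstance
  refine IsPullback.of_iso_pullback ⟨(c ≫ h).toNormalization_fromNormalization⟩
    (e₀ ≪≫ asIso (pullback.snd F h).toNormalization ≪≫ asIso (F.normalizationPullback h)) ?_ ?_
  · have h5 := F.toNormalization_normalizationPullback_fst h
    simp only [Iso.trans_hom, asIso_hom, Category.assoc]
    rw [h5, reassoc_of% he1]
  · simp only [Iso.trans_hom, asIso_hom, Category.assoc]
    rw [F.normalizationPullback_snd, Scheme.Hom.toNormalization_fromNormalization]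
    exact he2

/-- The closure of the graph. -/
theorem exists_graph {C D W Y S : Scheme.{u}} (c : C ⟶ D) [IsFinite c] (h : D ⟶ Y) [IsOpenImmersion h]
    (j : C ⟶ W) [Mono j] (w : W ⟶ S) [IsProper w] (q : Y ⟶ S) (e : j ≫ w = (c ≫ h) ≫ q) [IsReduced C]
    [QuasiCompact (pullback.lift j (c ≫ h) e)] :
    ∃ (Γ : Scheme.{u}) (γ : Γ ⟶ W) (φ : Γ ⟶ Y) (i : C ⟶ Γ), IsProper φ ∧ i ≫ γ = j ∧ γ ≫ w = φ ≫ q ∧
      IsPullback i c φ h := by
  let l : C ⟶ pullback w q := pullback.lift j (c ≫ h) e
  have hl1 : l ≫ pullback.fst w q = j := pullback.lift_fst _ _ _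
  have hl2 : l ≫ pullback.snd w q = c ≫ h := pullback.lift_snd _ _ _
  let φ : l.image ⟶ Y := l.imageι ≫ pullback.snd w q
  have hφ : IsProper φ := inferInstance
  have hred : IsReduced l.image := Groth.Agent.CycB.ImageInt.isReduced_image l
  have hcomm : l.toImage ≫ φ = c ≫ h := by
    rw [Scheme.Hom.toImage_imageι_assoc, hl2]
  refine ⟨l.image, l.imageι ≫ pullback.fst w q, φ, l.toImage, hφ, ?_, ?_, ?_⟩
  · rw [Scheme.Hom.toImage_imageι_assoc, hl1]
  · rw [Category.assoc, pullback.condition, Category.assoc]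
  let m : C ⟶ pullback φ h := pullback.lift l.toImage c hcomm
  have hm1 : m ≫ pullback.fst φ h = l.toImage := pullback.lift_fst _ _ _
  have hm2 : m ≫ pullback.snd φ h = c := pullback.lift_snd _ _ _
  have hfin : IsFinite m := by
    have : IsFinite (m ≫ pullback.snd φ h) := by rw [hm2]; infer_instance
    exact IsFinite.of_comp m (pullback.snd φ h)
  have hmono : Mono m := by
    have h1 : m ≫ (pullback.fst φ h ≫ l.imageι ≫ pullback.fst w q) = j := by
      rw [reassoc_of% hm1, Scheme.Hom.toImage_imageι_assoc, hl1]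
    have : Mono (m ≫ (pullback.fst φ h ≫ l.imageι ≫ pullback.fst w q)) := by rw [h1]; infer_instance
    exact mono_of_mono m (pullback.fst φ h ≫ l.imageι ≫ pullback.fst w q)
  have hcl : IsClosedImmersion m := (IsClosedImmersion.iff_isFinite_and_mono m).2 ⟨hfin, hmono⟩
  have hdom : IsDominant m := by
    have : IsDominant (m ≫ pullback.fst φ h) := by rw [hm1]; infer_instance
    exact IsDominant.of_comp_of_isOpenImmersion m (pullback.fst φ h)
  have hsurj : Surjective m := surjective_of_isDominant_of_isClosed_range m m.isClosedEmbedding.isClosed_range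
  have hred2 : IsReduced (pullback φ h) := isReduced_of_isOpenImmersion (pullback.fst φ h)
  have hiso : IsIso m := isIso_of_isClosedImmersion_of_surjective m
  exact IsPullback.of_iso_pullback ⟨hcomm⟩ (asIso m) hm1 hm2

end Groth.Agent.K382.AdmFormal
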