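import Groth.Agent.Models.K382.AdmFormal
import Groth.Agent.Resolve.K375.NagSch
import Groth.Agent.S2516
import Groth.Agent.S9673
import Groth.Agent.S9675
import Mathlib.RingTheory.DiscreteValuationRing.TFAE

/-!
# Flatness over a discrete valuation ring; normalization in a finite scheme over an open subscheme
-/

set_option autoImplicit false
universe u
open CategoryTheory CategoryTheory.Limits AlgebraicGeometry TopologicalSpace IsLocalRing

namespace Groth.Agent.K382.AdmNorm

open Groth.Agent.K382.AdmFormal

theorem isPrincipalIdealRing_of_isLocalization {R : Type u} [CommRing R] [IsPrincipalIdealRing R]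
    (M : Submonoid R) (L : Type u) [CommRing L] [Algebra R L] [IsLocalization M L] :
    IsPrincipalIdealRing L := by
  constructor
  intro I
  obtain ⟨x, hx⟩ := (IsPrincipalIdealRing.principal (Ideal.under R I)).principal
  refine ⟨⟨algebraMap R L x, ?_⟩⟩
  rw [← IsLocalization.map_under M L I, hx]
  change Ideal.map (algebraMap R L) (Ideal.span {x}) = Ideal.span {algebraMap R L x}
  rw [Ideal.map_span, Set.image_singleton]

theorem regular_spec_pid (R : Type u) [CommRing R] [IsDomain R] [IsPrincipalIdealRing R]
    (y : Spec (CommRingCat.of R)) :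
    IsRegularLocalRing ((Spec (CommRingCat.of R)).presheaf.stalk y) ∧
      ringKrullDim ((Spec (CommRingCat.of R)).presheaf.stalk y) ≤ 1 := by
  let k : Algebra R ((Spec (CommRingCat.of R)).presheaf.stalk y) :=
    StructureSheaf.stalkAlgebra R y
  have h1 : IsLocalization.AtPrime ((Spec (CommRingCat.of R)).presheaf.stalk y) y.asIdeal :=
    StructureSheaf.IsLocalization.to_stalk (CommRingCat.of R) y
  have h2 : IsDomain ((Spec (CommRingCat.of R)).presheaf.stalk y) :=
    IsLocalization.isDomain_of_le_nonZeroDivisors (R := R) _ (M := y.asIdeal.primeCompl)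
      (Ideal.primeCompl_le_nonZeroDivisors _)
  have h3 := isPrincipalIdealRing_of_isLocalization y.asIdeal.primeCompl
    ((Spec (CommRingCat.of R)).presheaf.stalk y)
  refine ⟨inferInstance, ?_⟩
  have h4 : Ring.KrullDimLE 1 ((Spec (CommRingCat.of R)).presheaf.stalk y) := inferInstance
  exact_mod_cast Ring.krullDimLE_iff.1 h4

theorem map_generic {R : Type u} [CommRing R] [IsDomain R] {K : Type u} [Field K] [Algebra R K] [IsFractionRing R K]
    (s : Spec (CommRingCat.of K)) :
    (Spec.map (CommRingCat.ofHom (algebraMap R K))) s = genericPoint (Spec (CommRingCat.of R)) := by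
  have h1 : s = (⊥ : PrimeSpectrum K) := Subsingleton.elim _ _
  have h2 : genericPoint (Spec (CommRingCat.of R)) = (⊥ : PrimeSpectrum R) :=
    genericPoint_eq_bot_of_affine (CommRingCat.of R)
  rw [h2, h1]
  apply PrimeSpectrum.ext
  change Ideal.comap (algebraMap R K) ⊥ = ⊥
  exact (RingHom.ker_eq_comap_bot _).symm.trans ((RingHom.injective_iff_ker_eq_bot _).1 (IsFractionRing.injective R K))

/-- A reduced scheme over a principal ideal domain which is dominated by a scheme over the field of fractions is
flat. -/
theorem flat_of_isDominant {R : Type u} [CommRing R] [IsDomain R] [IsPrincipalIdealRing R] {K : Type u} [Field K]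
    [Algebra R K] [IsFractionRing R K] {D X : Scheme.{u}} {p : X ⟶ Spec (CommRingCat.of R)}
    {f : D ⟶ Spec (CommRingCat.of K)} {g : D ⟶ X}
    (e : g ≫ p = f ≫ Spec.map (CommRingCat.ofHom (algebraMap R K))) [IsReduced X] [QuasiCompact g]
    [IsDominant g] : Flat p := by
  have h1 : IsSchemeTheoreticallyDominant g := .of_isDominant g
  refine Groth.Agent.S2516.flat_of_generic (regular_spec_pid R) p g fun z => ?_
  rw [e, Scheme.Hom.comp_apply]
  exact map_generic _

/-- Normalization of a Nagata scheme in a normal scheme finite over an open subscheme. -/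
theorem exists_norm {C D Y : Scheme.{u}} (c : C ⟶ D) [IsFinite c] (h : D ⟶ Y) [IsOpenImmersion h]
    [QuasiCompact h] (hY : K375.NagSch.IsNag Y) (hC : Pi1.IsNormalScheme C) :
    ∃ (X : Scheme.{u}) (ν : X ⟶ Y) (g : C ⟶ X), IsFinite ν ∧ Pi1.IsNormalScheme X ∧ IsReduced X ∧
      IsPullback g c ν h ∧ IsDominant g ∧
      ∀ (T : Scheme.{u}) (t : C ⟶ T) (τ : T ⟶ Y) [IsIntegralHom τ], t ≫ τ = c ≫ h →
        ∃ l : X ⟶ T, g ≫ l = t ∧ l ≫ τ = ν := by
  have hYN : IsLocallyNoetherian Y := hY.isLocallyNoetherian
  have hft : LocallyOfFiniteType (c ≫ h) := inferInstance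
  have hCN : IsLocallyNoetherian C := LocallyOfFiniteType.isLocallyNoetherian (c ≫ h)
  have hCred : IsReduced C := by
    have : ∀ x : C, _root_.IsReduced (C.presheaf.stalk x) := fun x => by
      have := (hC x).1
      infer_instance
    exact isReduced_of_isReduced_stalk C
  have h1 := Groth.Agent.S9675.result (c ≫ h) hY
  obtain ⟨h2, -⟩ := Groth.Agent.S9673.result (c ≫ h) hC
    (Groth.Agent.Ega1.GenPts.locallyFinite_irreducibleComponents (Groth.Agent.Ega1.GenPts.exists_noetherianSpace_nhds C))
  refine ⟨(c ≫ h).normalization, (c ≫ h).fromNormalization, (c ≫ h).toNormalization, h1, h2, ?_, ?_, inferInstance, ?_⟩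
  · have : ∀ x : (c ≫ h).normalization, _root_.IsReduced ((c ≫ h).normalization.presheaf.stalk x) := fun x => by
      have := (h2 x).1
      infer_instance
    exact isReduced_of_isReduced_stalk _
  · exact isPullback_normalization c h
  · intro T t τ hτ ht
    exact ⟨(c ≫ h).normalizationDesc t τ ht.symm, (c ≫ h).toNormalization_normalizationDesc t τ ht.symm,
      (c ≫ h).normalizationDesc_comp t τ ht.symm⟩

end Groth.Agent.K382.AdmNorm
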