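import Groth.Agent.Models.K382.AdmNorm
import Groth.Agent.Models.K381.ExcSch
import Groth.Agent.Flat2C.BlowExist
import Groth.Agent.CurvesC.RegNormal

/-!
# Resolution of normal models which is an isomorphism over the generic fibre
-/

set_option autoImplicit false
universe u
open CategoryTheory CategoryTheory.Limits AlgebraicGeometry TopologicalSpace IsLocalRing

namespace Groth.Agent.K382.AdmResol

open Groth.Agent.K382.AdmFormal Groth.Agent.Ega2.BlowBasic Groth.Agent.Flat2C.StrictTr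

theorem isNormalScheme_of_regular {X : Scheme.{u}} (h : ∀ x : X, IsRegularLocalRing (X.presheaf.stalk x)) :
    Pi1.IsNormalScheme X := by
  intro x
  have := h x
  have h1 := Groth.Agent.CurvesC.RegNormal.isDomain (X.presheaf.stalk x)
  exact ⟨h1, (Groth.Agent.CurvesC.RegNormal.cic (X.presheaf.stalk x)).isIntegrallyClosed⟩

theorem isReduced_of_normal {X : Scheme.{u}} (h : Pi1.IsNormalScheme X) : IsReduced X := by
  have : ∀ x : X, _root_.IsReduced (X.presheaf.stalk x) := fun x => by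
    have := (h x).1
    infer_instance
  exact isReduced_of_isReduced_stalk _

/-- Lifts of dominant open immersions to blow-ups are dominant. -/
theorem isDominant_lift_blowUp {D Y Y₁ : Scheme.{u}} {b : Y₁ ⟶ Y} {𝓘 : Y.IdealSheafData} (hb : BlowUp.IsBlowUp b 𝓘)
    {h : D ⟶ Y} [IsOpenImmersion h] [IsDominant h] (hd : ∀ d, h d ∉ 𝓘.support) {h₁ : D ⟶ Y₁}
    (hp : IsPullback h₁ (𝟙 D) b h) : IsDominant h₁ := by
  have hbU := Groth.Agent.S1682.result 𝓘 b hb
  have hcl := closure_compl_of_isEff hb.1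
  have hcc : compl (𝓘.comap b) = b ⁻¹ᵁ compl 𝓘 := compl_comap 𝓘 b
  refine ⟨?_⟩
  rw [DenseRange, dense_iff_closure_eq, ← Set.univ_subset_iff, ← hcl]
  refine closure_minimal ?_ isClosed_closure
  intro x hx
  rw [hcc] at hx
  rw [mem_closure_iff]
  intro V hV hxV
  -- the image of `V ∩ b⁻¹(U)` in `Y` is open
  let V' : Y₁.Opens := ⟨V, hV⟩ ⊓ (b ⁻¹ᵁ compl 𝓘)
  have hopen : IsOpen (b '' (V' : Set Y₁)) := by
    have h3 : IsOpenImmersion ((b ⁻¹ᵁ compl 𝓘).ι ≫ b) := by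
      have h4 : (b ⁻¹ᵁ compl 𝓘).ι ≫ b = (b ∣_ (compl 𝓘)) ≫ (compl 𝓘).ι := by
        rw [morphismRestrict_ι]
      rw [h4]
      have : IsIso (b ∣_ (compl 𝓘)) := hbU
      infer_instance
    have h5 : b '' (V' : Set Y₁) = ((b ⁻¹ᵁ compl 𝓘).ι ≫ b) '' ((b ⁻¹ᵁ compl 𝓘).ι ⁻¹' V) := by
      rw [Scheme.Hom.comp_base, TopCat.coe_comp, Set.image_comp, Set.image_preimage_eq_inter_range,
        Scheme.Opens.range_ι]
      rfl
    rw [h5]
    exact ((b ⁻¹ᵁ compl 𝓘).ι ≫ b).isOpenEmbedding.isOpenMap _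
      (hV.preimage (b ⁻¹ᵁ compl 𝓘).ι.continuous)
  have hne : (b x) ∈ b '' (V' : Set Y₁) := ⟨x, ⟨hxV, hx⟩, rfl⟩
  obtain ⟨_, ⟨x', hx', he⟩, ⟨d, rfl⟩⟩ := (mem_closure_iff.1 (h.denseRange (b x))) _ hopen hne
  obtain ⟨d', hd', -⟩ := Scheme.exists_preimage_of_isPullback hp x' d he
  exact ⟨x', hx'.1, ⟨d', hd'⟩⟩

/-- Resolution. -/
theorem exists_resol {D Y : Scheme.{u}} (h : D ⟶ Y) [IsOpenImmersion h] [IsDominant h] [IsNoetherian Y]
    (hexc : K381.ExcSch.IsExc Y) (hn : Pi1.IsNormalScheme Y) (hd : ∀ y : Y, ringKrullDim (Y.presheaf.stalk y) ≤ 2)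
    (hD : ∀ d : D, IsRegularLocalRing (D.presheaf.stalk d)) :
    ∃ (Y' : Scheme.{u}) (r : Y' ⟶ Y) (h' : D ⟶ Y'), IsProper r ∧
      (∀ y : Y', IsRegularLocalRing (Y'.presheaf.stalk y)) ∧ h' ≫ r = h ∧ IsPullback h' (𝟙 D) r h ∧
      IsDominant h' := by
  obtain ⟨𝓘, h1, h2⟩ := hexc.exists_ideal hn hd
  obtain ⟨Y', r, hr⟩ := Groth.Agent.Flat2C.BlowExist.exists_isBlowUp (𝓘 := 𝓘)
  have hi : ∀ c, h c ∉ 𝓘.support := fun c hc => by
    refine h1 _ hc ?_
    have h4 := hD c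
    exact IsRegularLocalRing.of_ringEquiv (asIso (h.stalkMap c)).symm.commRingCatIsoToRingEquiv
  have hft : BlowUp.IsFiniteTypeIdeal 𝓘 := by
    intro U
    have : IsNoetherianRing Γ(Y, U.1) := IsLocallyNoetherian.component_noetherian U
    exact IsNoetherian.noetherian _
  obtain ⟨h', h3, h4⟩ := exists_lift_blowUp hr h hi
  exact ⟨Y', r, h', Groth.Agent.Flat2C.BlowProper.isProper_of_isBlowUp hr hft, (h2 Y' r hr).2, h3, h4,
    isDominant_lift_blowUp hr hi h4⟩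

end Groth.Agent.K382.AdmResol
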