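import Groth.Agent.Models.K382.AdmBase
import Groth.Agent.PerfA.StalkPush
import Groth.Prelude.Def_Curv2

/-!
# Localization of a modification of models at a point of the base
-/

set_option autoImplicit false
universe u
open CategoryTheory CategoryTheory.Limits AlgebraicGeometry TopologicalSpace IsLocalRing

namespace Groth.Agent.K382.AdmStalk

open Groth.Agent.K382

/-- If `b` becomes an isomorphism after base change to an open immersion `j`, it is an isomorphism over its
image. -/
theorem isIso_restrict_opensRange {A B T : Scheme.{u}} {w : A ⟶ B} {b : B ⟶ T} {j : A ⟶ T} [IsOpenImmersion j]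
    (h : IsPullback w (𝟙 A) b j) : IsIso (b ∣_ j.opensRange) := by
  have h1 : IsPullback (b ⁻¹ᵁ j.opensRange).ι (b ∣_ j.opensRange) b j.opensRange.ι :=
    (isPullback_morphismRestrict b j.opensRange).flip
  have hj : j.isoOpensRange.hom ≫ j.opensRange.ι = j := by simp
  have h2 : IsPullback w (𝟙 A) b (j.isoOpensRange.hom ≫ j.opensRange.ι) := by rw [hj]; exact h
  have hw : w ≫ b = (𝟙 A ≫ j.isoOpensRange.hom) ≫ j.opensRange.ι := by
    rw [Category.assoc, hj]; exact h.w
  have h3 : IsPullback (h1.lift w (𝟙 A ≫ j.isoOpensRange.hom) hw) (𝟙 A) (b ∣_ j.opensRange) j.isoOpensRange.hom := by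
    refine IsPullback.of_right (h₁₂ := (b ⁻¹ᵁ j.opensRange).ι) ?_ (h1.lift_snd _ _ _) h1
    rw [h1.lift_fst]
    exact h2
  have h4 : IsIso (h1.lift w (𝟙 A ≫ j.isoOpensRange.hom) hw) := h3.isIso_fst_of_isIso
  have h5 : b ∣_ j.opensRange = inv (h1.lift w (𝟙 A ≫ j.isoOpensRange.hom) hw) ≫ 𝟙 A ≫ j.isoOpensRange.hom := by
    rw [IsIso.eq_inv_comp]
    exact h1.lift_snd _ _ _
  rw [h5]
  infer_instance

variable {R : Type u} [CommRing R] [IsDomain R] [IsDiscreteValuationRing R]
  {K : Type u} [Field K] [Algebra R K] [IsFractionRing R K]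
  {C X Z : Scheme.{u}} {f : C ⟶ Spec (CommRingCat.of K)} {p : X ⟶ Spec (CommRingCat.of R)} {g : C ⟶ X}
  {g' : C ⟶ Z} {ρ : Z ⟶ X}
  (h : IsPullback g f p (Spec.map (CommRingCat.ofHom (algebraMap R K))))
  (h' : IsPullback g' f (ρ ≫ p) (Spec.map (CommRingCat.ofHom (algebraMap R K))))
  (hρ : g' ≫ ρ = g)

include h h' hρ

theorem isPullback_generic : IsPullback g' (𝟙 C) ρ g := by
  refine IsPullback.of_bot (h₁₁ := g') (v₂₁ := f) (h₃₁ := Spec.map (CommRingCat.ofHom (algebraMap R K)))
    (v₂₂ := p) ?_ (by rw [Category.id_comp, hρ]) h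
  rw [Category.id_comp]
  exact h'

theorem isIso_restrict [IsOpenImmersion g] : IsIso (ρ ∣_ g.opensRange) :=
  isIso_restrict_opensRange (isPullback_generic h h' hρ)

section

variable {T : Scheme.{u}} (t : T ⟶ X)

/-- The generic fibre of the base change. -/
noncomputable def w : pullback t g ⟶ pullback ρ t :=
  pullback.lift (pullback.snd t g ≫ g') (pullback.fst t g) (by
    rw [Category.assoc, hρ, pullback.condition])

theorem isPullback_w : IsPullback (w hρ t) (𝟙 _) (pullback.snd ρ t) (pullback.fst t g) := by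
  have h1 : IsPullback (pullback.snd t g ≫ g') (𝟙 (pullback t g)) ρ (pullback.snd t g ≫ g) :=
    (IsPullback.of_vert_isIso ⟨by simp⟩ :
      IsPullback (pullback.snd t g) (𝟙 (pullback t g)) (𝟙 C) (pullback.snd t g)).paste_horiz
      (isPullback_generic h h' hρ)
  refine IsPullback.of_right (h₁₂ := pullback.fst ρ t) (h₂₂ := t) (v₁₃ := ρ) ?_ ?_
    (IsPullback.of_hasPullback ρ t)
  · rw [w, pullback.lift_fst, pullback.condition]
    exact h1
  · rw [w, pullback.lift_snd, Category.id_comp]

theorem isPullback_P : IsPullback (w hρ t) (pullback.snd t g ≫ f) (pullback.snd ρ t ≫ t ≫ p)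
    (Spec.map (CommRingCat.ofHom (algebraMap R K))) := by
  have h1 : IsPullback (pullback.fst t g) (pullback.snd t g ≫ f) (t ≫ p)
      (Spec.map (CommRingCat.ofHom (algebraMap R K))) := (IsPullback.of_hasPullback t g).paste_vert h
  have h2 := (isPullback_w h h' hρ t).paste_vert h1
  rwa [Category.id_comp] at h2

theorem isIntegral [IsIntegral T] [Flat t] [Flat (ρ ≫ p)] (hne : Nonempty ↥(pullback t g)) :
    IsIntegral (pullback ρ t) := by
  have hg : IsOpenImmersion g := AdmBase.isOpenImmersion h
  have h1 : IsIntegral (pullback t g) := isIntegral_of_isOpenImmersion (pullback.fst t g)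
  have h2 : Flat (pullback.snd ρ t ≫ t ≫ p) := by
    rw [← Category.assoc, ← pullback.condition, Category.assoc]
    infer_instance
  exact (ModelMap.isIntegral_of_flat R K (pullback.snd ρ t ≫ t ≫ p) (w hρ t) (pullback.snd t g ≫ f)
    (isPullback_P h h' hρ t)).1

end

section

variable (x : X)

theorem nonempty_generic [Flat p] : Nonempty ↥(pullback (X.fromSpecStalk x) g) := by
  obtain ⟨c, hc⟩ := AdmBase.exists_generization h x
  have h1 : g c ∈ Set.range (X.fromSpecStalk x) := by
    rw [Scheme.range_fromSpecStalk]; exact hc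
  obtain ⟨s, hs⟩ := h1
  obtain ⟨z, -, -⟩ := Scheme.Pullback.exists_preimage_pullback (f := X.fromSpecStalk x) (g := g) s c hs
  exact ⟨z⟩

/-- The localization of a modification is integral. -/
theorem isIntegral_stalk [Flat p] [Flat (ρ ≫ p)] (hx : IsDomain (X.presheaf.stalk x)) :
    IsIntegral (pullback ρ (X.fromSpecStalk x)) := by
  have := Groth.Agent.PerfA.StalkPush.flat_fromSpecStalk x
  have h1 : IsIntegral (Spec (X.presheaf.stalk x)) := inferInstance
  exact isIntegral h h' hρ (X.fromSpecStalk x) (nonempty_generic h h' hρ x)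

/-- Vanishing of `H^1` of the localization of a modification at a rational singularity. -/
theorem subsingleton_HH [Flat p] [Flat (ρ ≫ p)] [IsProper ρ] (hx : IsDomain (X.presheaf.stalk x))
    (hZ : Pi1.IsNormalScheme Z) (hrat : Curv2.IsRationalSing (X.presheaf.stalk x)) :
    Subsingleton (Coh.HH (pullback ρ (X.fromSpecStalk x)) (Coh.structureModule _) 1) := by
  have hg : IsOpenImmersion g := AdmBase.isOpenImmersion h
  obtain ⟨z⟩ := nonempty_generic h h' hρ x
  exact hrat (pullback ρ (X.fromSpecStalk x)) (pullback.snd ρ (X.fromSpecStalk x))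
    (inferInstanceAs (IsProper (pullback.snd ρ (X.fromSpecStalk x)))) (isIntegral_stalk h h' hρ x hx)
    (FlatPre.isNormalScheme (pullback.fst ρ (X.fromSpecStalk x)) hZ)
    ⟨(pullback.fst (X.fromSpecStalk x) g).opensRange, ⟨_, ⟨z, rfl⟩⟩,
      isIso_restrict_opensRange (isPullback_w h h' hρ (X.fromSpecStalk x))⟩

end

end Groth.Agent.K382.AdmStalk
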