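import Groth.Agent.Models.K382.AdmStalk
import Groth.Agent.CohqB.LocBaseRed
import Groth.Agent.Surf.K457.BirNormal
import Groth.Agent.S2422
import Groth.Agent.KumFam.K753.PointRes
import Groth.Agent.Fdesc.StructMod
import Groth.Agent.Fga.UnitRestrict
import Groth.Agent.Coh.K415.LerayGen
import Groth.Agent.VarietyA.GlobGen
import Groth.Agent.VarietyB.ExactLoc
import Groth.Agent.CohqB.HLin
import Groth.Agent.S0036

/-!
# `R^1 ρ_* O = 0` for modifications of models with rational singularities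
-/

set_option autoImplicit false
universe u
open CategoryTheory CategoryTheory.Limits AlgebraicGeometry TopologicalSpace IsLocalRing

namespace Groth.Agent.K382.AdmVan

open Groth.Agent.K382 Groth.Agent Groth.Agent.CohqB Groth.Agent.CohqA

/-- A coherent module on a Noetherian scheme with zero stalks at closed points is zero. -/
theorem isZero_of_closed {X : Scheme.{u}} [IsNoetherian X] {Q : X.Modules} (hQ : Coh.IsCoh Q)
    (h : ∀ x : X, IsClosed ({x} : Set X) → Subsingleton (Q.presheaf.stalk x)) : IsZero Q := by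
  rw [VarietyB.ExactLoc.isZero_iff_stalk]
  intro y
  by_contra hy
  have h1 : IsClosed (CohB1.support Q) := VarietyA.GlobGen.isClosed_support Q hQ.2
  obtain ⟨x, hx, hxc⟩ := IsClosed.exists_closed_singleton h1 ⟨y, hy⟩
  exact hx (h x hxc)

section Leray

open Groth.Agent.CohqB Groth.Agent.CohqA Groth.Agent.VarietyB.HHLes Groth.Agent.VarietyB.HHPush

/-- `H^1(Y, f_* M) = H^1(X, M)` if `R^1 f_* M = 0`. -/
theorem exists_equiv_one {X Y : Scheme.{u}} (f : X ⟶ Y) (A : Type u) [CommRing A] [X.Over (Spec (CommRingCat.of A))]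
    [Y.Over (Spec (CommRingCat.of A))] (hf : f ≫ (Y ↘ Spec (CommRingCat.of A)) = X ↘ Spec (CommRingCat.of A))
    [HasInjectiveResolutions X.Modules] (M : X.Modules)
    (hM : IsZero (((Scheme.Modules.pushforward f).rightDerived 1).obj M)) :
    Nonempty (Coh.HH Y ((Scheme.Modules.pushforward f).obj M) 1 ≃ₗ[A] Coh.HH X M 1) := by
  have := enoughInjectives X
  obtain ⟨S, hS, hI, rfl⟩ := SheafH.exists_injective_shortExact M
  have hS' : (S.map (Scheme.Modules.pushforward f)).ShortExact := Cohder.RDAcyc.map_shortExact _ hS hM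
  have hfl : TopCat.Sheaf.IsFlasque (X := X.toTopCat) (Coh.toAb S.X₂) :=
    Ega3B.InjMod.isFlasque_of_injective S.X₂
  have hfl' := isFlasque_push f S.X₂ hfl
  have h1 := cokEquiv A hS 0 (Hn_eq_zero_of_flasque A S.X₂ hfl 0)
  have h2 := cokEquiv A hS' 0 (Hn_eq_zero_of_flasque A _ hfl' 0)
  have hmap : (LinearMap.range (Hmap A ((Scheme.Modules.pushforward f).map S.g) 0)).map
      (zeroEquiv f A hf S.X₃).toLinearMap = LinearMap.range (Hmap A S.g 0) := by
    ext z
    constructor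
    · rintro ⟨y, ⟨x, rfl⟩, rfl⟩
      exact ⟨zeroEquiv f A hf S.X₂ x, (zeroEquiv_naturality f A hf S.g x).symm⟩
    · rintro ⟨x, rfl⟩
      refine ⟨Hmap A ((Scheme.Modules.pushforward f).map S.g) 0
        ((zeroEquiv f A hf S.X₂).symm x), ⟨_, rfl⟩, ?_⟩
      refine (zeroEquiv_naturality f A hf S.g _).trans ?_
      rw [LinearEquiv.apply_symm_apply]
  have e0 : (Hn A Y ((Scheme.Modules.pushforward f).obj S.X₃) 0 ⧸
      LinearMap.range (Hmap A ((Scheme.Modules.pushforward f).map S.g) 0)) ≃ₗ[A]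
      (Hn A X S.X₃ 0 ⧸ LinearMap.range (Hmap A S.g 0)) :=
    Submodule.Quotient.equiv _ _ (zeroEquiv f A hf S.X₃) hmap
  have e1 : Hn A Y ((Scheme.Modules.pushforward f).obj S.X₁) (0 + 1) ≃ₗ[A]
    (Hn A Y ((Scheme.Modules.pushforward f).obj S.X₃) 0 ⧸
      LinearMap.range (Hmap A ((Scheme.Modules.pushforward f).map S.g) 0)) := h2.symm
  exact ⟨(toHH A _ 1).symm.trans ((e1.trans (e0.trans h1)).trans (toHH A S.X₁ 1))⟩

end Leray

variable {R : Type u} [CommRing R] [IsDomain R] [IsDiscreteValuationRing R]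
  {K : Type u} [Field K] [Algebra R K] [IsFractionRing R K]
  {C X Z : Scheme.{u}} {f : C ⟶ Spec (CommRingCat.of K)} {p : X ⟶ Spec (CommRingCat.of R)} {g : C ⟶ X}
  {g' : C ⟶ Z} {ρ : Z ⟶ X}
  (h : IsPullback g f p (Spec.map (CommRingCat.ofHom (algebraMap R K))))
  (h' : IsPullback g' f (ρ ≫ p) (Spec.map (CommRingCat.ofHom (algebraMap R K))))
  (hρ : g' ≫ ρ = g)

include h h' hρ

/-- `O_X = ρ_* O_Z`. -/
theorem isIso_app [Flat p] [Flat (ρ ≫ p)] [IsProper ρ] (hX : Pi1.IsNormalScheme X) (V : X.Opens) :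
    IsIso (ρ.app V) := by
  have hg : IsOpenImmersion g := AdmBase.isOpenImmersion h
  have key : ∀ x : X, IsIso (pullback.snd ρ (X.fromSpecStalk x)).appTop := by
    intro x
    obtain ⟨hd, hic⟩ := hX x
    have h1 := AdmStalk.isIntegral_stalk h h' hρ x hd
    have h2 : IsIntegral (Spec (X.presheaf.stalk x)) := inferInstance
    obtain ⟨z⟩ := AdmStalk.nonempty_generic h h' hρ x
    have h3 := AdmStalk.isIso_restrict_opensRange (AdmStalk.isPullback_w h h' hρ (X.fromSpecStalk x))
    have := Groth.Agent.PerfA.StalkPush.flat_fromSpecStalk x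
    exact K457.BirNormal.isIso_app (FlatPre.isNormalScheme (X.fromSpecStalk x) hX) _
      (pullback.fst (X.fromSpecStalk x) g).opensRange ⟨_, ⟨z, rfl⟩⟩ ⊤
  refine S2422.isIso_app_of_affine ρ (fun V hV => ?_) V
  have h4 := PerfA.StalkPush.bijective_app_of_isAffineOpen ρ key V hV
  exact (ConcreteCategory.isIso_iff_bijective _).2 h4

/-- The stalks of `R^1 ρ_* O` vanish at rational singularities. -/
theorem isZero_stalk [Flat p] [Flat (ρ ≫ p)] [IsProper ρ] (x : X) (hx : IsDomain (X.presheaf.stalk x))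
    (hZ : Pi1.IsNormalScheme Z) (hrat : Curv2.IsRationalSing (X.presheaf.stalk x)) :
    IsZero (TopCat.Presheaf.stalk ((Coh.RpushAb ρ 1).obj (Coh.toAb (Coh.structureModule Z))).obj x) := by
  have h1 := AdmStalk.subsingleton_HH h h' hρ x hx hZ hrat
  refine CohqB.LocBaseRed.isZero_stalk_of_local ρ x (Coh.structureModule Z)
    (Fdesc.StructMod.isCoh_structureModule Z).1 1 _ _ (IsPullback.of_hasPullback ρ (X.fromSpecStalk x)) ?_
  let e := CohqB.HLin.HHequiv (Fga.UnitRestrict.pullbackUnitIso (pullback.fst ρ (X.fromSpecStalk x))) 1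
  exact e.toEquiv.subsingleton

/-- `R^1 ρ_* O = 0`. -/
theorem isZero_Rpush [Flat p] [IsProper p] [Flat (ρ ≫ p)] [IsProper ρ] (hX : Pi1.IsNormalScheme X)
    (hZ : Pi1.IsNormalScheme Z)
    (hrat : ∀ x : X, IsClosed ({x} : Set X) → Curv2.IsRationalSing (X.presheaf.stalk x))
    [HasInjectiveResolutions Z.Modules] : IsZero ((Coh.Rpush ρ 1).obj (Coh.structureModule Z)) := by
  have hln : IsLocallyNoetherian X := LocallyOfFiniteType.isLocallyNoetherian p
  have hcs : CompactSpace X := (quasiCompact_iff_compactSpace p).mp inferInstance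
  have hN : IsNoetherian X := {}
  refine isZero_of_closed (S0036.result ρ _ (Fdesc.StructMod.isCoh_structureModule Z) 1) fun x hx => ?_
  exact K753.PointRes.subsingleton_stalk ρ _ 1 x (isZero_stalk h h' hρ x (hX x).1 hZ (hrat x hx))

theorem isIso_unitToPush [Flat p] [Flat (ρ ≫ p)] [IsProper ρ] (hX : Pi1.IsNormalScheme X) :
    IsIso (Fga.UnitRestrict.unitToPush ρ) :=
  Fga.UnitRestrict.isIso_unitToPush ρ fun U => by
    have := isIso_app h h' hρ hX U
    exact ConcreteCategory.bijective_of_isIso (ρ.app U)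

/-- `H^1(X, O_X) = H^1(Z, O_Z)`. -/
theorem nonempty_equiv [Flat p] [IsProper p] [Flat (ρ ≫ p)] [IsProper ρ] (hX : Pi1.IsNormalScheme X)
    (hZ : Pi1.IsNormalScheme Z)
    (hrat : ∀ x : X, IsClosed ({x} : Set X) → Curv2.IsRationalSing (X.presheaf.stalk x))
    (A : Type u) [CommRing A] [Z.Over (Spec (CommRingCat.of A))] [X.Over (Spec (CommRingCat.of A))]
    (hA : ρ ≫ (X ↘ Spec (CommRingCat.of A)) = Z ↘ Spec (CommRingCat.of A)) :
    Nonempty (Coh.HH X (Coh.structureModule X) 1 ≃ₗ[A] Coh.HH Z (Coh.structureModule Z) 1) := by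
  have := VarietyB.HHPush.enoughInjectives Z
  have : HasInjectiveResolutions Z.Modules := inferInstance
  obtain ⟨e⟩ := exists_equiv_one ρ A hA (Coh.structureModule Z) (isZero_Rpush h h' hρ hX hZ hrat)
  have h1 := isIso_unitToPush h h' hρ hX
  exact ⟨(CohqB.HLin.HHequivA A (asIso (Fga.UnitRestrict.unitToPush ρ)) 1).trans e⟩

end Groth.Agent.K382.AdmVan
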