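import Groth.Agent.Models.K382.FinLoc
import Mathlib.AlgebraicGeometry.Morphisms.ClosedImmersion

/-!
# Branches of a closed subscheme and of its preimage under a finite morphism to a normal scheme

* `sm`: the map on local rings at given points.
* `ker_sm_le_iff`: primes containing the kernel of `O_{W,w} → O_{E,e}` correspond to points of `E`.
* `numBranchesAt_le`.
-/

set_option autoImplicit false
universe u

open CategoryTheory CategoryTheory.Limits AlgebraicGeometry TopologicalSpace IsLocalRing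

namespace Groth.Agent.K382.BranchGeo

section SM

variable {E W : Scheme.{u}} (f : E ⟶ W) (e : E)

/-- The map on local rings at given points. -/
noncomputable def sm (w : W) (h : f e = w) : W.presheaf.stalk w →+* E.presheaf.stalk e :=
  Eq.rec (motive := fun w _ => W.presheaf.stalk w →+* E.presheaf.stalk e) (f.stalkMap e).hom h

theorem sm_rfl : sm f e (f e) rfl = (f.stalkMap e).hom := rfl

theorem sm_surjective [IsClosedImmersion f] (w : W) (h : f e = w) : Function.Surjective (sm f e w h) := by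
  subst h
  exact f.stalkMap_surjective e

theorem fromSpecStalk_comap (w : W) (h : f e = w) (q : PrimeSpectrum (E.presheaf.stalk e)) :
    W.fromSpecStalk w (PrimeSpectrum.comap (sm f e w h) q) = f (E.fromSpecStalk e q) := by
  subst h
  have h1 := Scheme.SpecMap_stalkMap_fromSpecStalk f (x := e)
  have h2 := congrArg (fun g => g.base q) h1
  exact h2

theorem mem_range_fromSpecStalk (w x : W) : x ∈ Set.range (W.fromSpecStalk w) ↔ x ⤳ w := by
  rw [Scheme.range_fromSpecStalk]
  rfl

theorem ker_sm_le_iff [IsClosedImmersion f] (w : W) (h : f e = w) (q : PrimeSpectrum (W.presheaf.stalk w)) :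
    RingHom.ker (sm f e w h) ≤ q.asIdeal ↔ W.fromSpecStalk w q ∈ Set.range f := by
  constructor
  · intro hq
    have h1 : q ∈ Set.range (PrimeSpectrum.comap (sm f e w h)) := by
      rw [_root_.range_comap_of_surjective _ _ (sm_surjective f e w h)]
      exact hq
    obtain ⟨q', rfl⟩ := h1
    exact ⟨_, (fromSpecStalk_comap f e w h q').symm⟩
  · rintro ⟨x, hx⟩
    have h1 : W.fromSpecStalk w q ⤳ w := (mem_range_fromSpecStalk w _).1 ⟨q, rfl⟩
    rw [← hx, ← h] at h1
    have h2 : x ⤳ e := f.isClosedEmbedding.isInducing.specializes_iff.1 h1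
    obtain ⟨q', rfl⟩ := (mem_range_fromSpecStalk e x).2 h2
    rw [← fromSpecStalk_comap f e w h] at hx
    have h3 : PrimeSpectrum.comap (sm f e w h) q' = q :=
      (W.fromSpecStalk w).isEmbedding.injective hx
    rw [← h3]
    intro a ha
    change sm f e w h a ∈ q'.asIdeal
    rw [RingHom.mem_ker.1 ha]
    exact zero_mem _

end SM

variable {W Z : Scheme.{u}} [IsIntegral W] [IsIntegral Z] (ψ : W ⟶ Z) [IsFinite ψ] [IsDominant ψ]

theorem numBranchesAt_le (w : W)
    (hn : IsDomain (Z.presheaf.stalk (ψ w)) ∧ IsIntegrallyClosed (Z.presheaf.stalk (ψ w)))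
    {D : Scheme.{u}} (ιD : D ⟶ Z) [IsClosedImmersion ιD] (d : D) (hd : ιD d = ψ w)
    {E : Scheme.{u}} (ιE : E ⟶ W) [IsClosedImmersion ιE] (e : E) (he : ιE e = w)
    (h1 : ∀ x ∈ Set.range ιE, ψ x ∈ Set.range ιD)
    (h2 : ∀ x : W, x ⤳ w → ψ x ∈ Set.range ιD →
      (∀ z' ∈ Set.range ιD, z' ⤳ ψ x → z' = ψ x) → x ∈ Set.range ιE) :
    Brnch.numBranchesAt D d ≤ Brnch.numBranchesAt E e := by
  obtain ⟨S, _, _, _, _, hS⟩ := Groth.Agent.S0506.result (Z.presheaf.stalk (ψ w))
  obtain ⟨C, _, _, _, _, _, _, _, _, _, hC, hfin⟩ := FinLoc.exists_henselization ψ w S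
  let _ : Algebra (Z.presheaf.stalk (ψ w)) (W.presheaf.stalk w) := (ψ.stalkMap w).hom.toAlgebra
  let _ : Algebra (Z.presheaf.stalk (ψ w)) (D.presheaf.stalk d) := (sm ιD d (ψ w) hd).toAlgebra
  let _ : Algebra (W.presheaf.stalk w) (E.presheaf.stalk e) := (sm ιE e w he).toAlgebra
  have hdom := hn.1
  have hSdom : IsDomain S := ((Groth.Agent.S0515.result (Z.presheaf.stalk (ψ w)) S).1 hn).1
  have hflat : Module.FaithfullyFlat (W.presheaf.stalk w) C := Groth.Agent.S0509.result _ _
  have hinjAC : Function.Injective (algebraMap (Z.presheaf.stalk (ψ w)) C) := by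
    rw [IsScalarTower.algebraMap_eq (Z.presheaf.stalk (ψ w)) (W.presheaf.stalk w) C]
    exact (FaithfulSMul.algebraMap_injective (W.presheaf.stalk w) C).comp
      (Sga7.H756.NormStalk.stalkMap_injective ψ w)
  have hinj := HensFin.injective_of_henselization (Z.presheaf.stalk (ψ w)) S C hinjAC
  have hfa : FaithfulSMul S C := (faithfulSMul_iff_algebraMap_injective S C).2 hinj
  have hsurj : Function.Surjective (PrimeSpectrum.comap (algebraMap S C)) :=
    Algebra.IsIntegral.comap_surjective S C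
  refine BranchLe.numBranches_le (Z.presheaf.stalk (ψ w)) (W.presheaf.stalk w) (D.presheaf.stalk d)
    (E.presheaf.stalk e) S C (sm_surjective ιD d _ hd) (sm_surjective ιE e _ he) hsurj ?_ ?_
  · intro a ha
    change IsNilpotent (sm ιE e w he ((ψ.stalkMap w).hom a))
    rw [nilpotent_iff_mem_prime]
    intro P hP
    -- the point of `P`
    let P' : PrimeSpectrum (E.presheaf.stalk e) := ⟨P, hP⟩
    have h3 : W.fromSpecStalk w (PrimeSpectrum.comap (sm ιE e w he) P') ∈ Set.range ιE :=
      ⟨_, (fromSpecStalk_comap ιE e w he P').symm⟩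
    have h4 := h1 _ h3
    rw [← fromSpecStalk_comap ψ w (ψ w) rfl] at h4
    have h5 := (ker_sm_le_iff ιD d (ψ w) hd _).2 h4
    exact h5 ha
  · intro q hq hmin
    let q' : PrimeSpectrum (W.presheaf.stalk w) := ⟨q, hq⟩
    refine (ker_sm_le_iff ιE e w he q').2 ?_
    have h3 : ψ (W.fromSpecStalk w q') =
        Z.fromSpecStalk (ψ w) (PrimeSpectrum.comap (sm ψ w (ψ w) rfl) q') :=
      (fromSpecStalk_comap ψ w (ψ w) rfl q').symm
    refine h2 _ ((mem_range_fromSpecStalk w _).1 ⟨q', rfl⟩) ?_ ?_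
    · rw [h3]
      exact (ker_sm_le_iff ιD d (ψ w) hd _).1 hmin.1.2
    · intro z' hz' hsp
      have h4 : z' ⤳ ψ w := hsp.trans (by
        rw [h3]
        exact (mem_range_fromSpecStalk (ψ w) _).1 ⟨_, rfl⟩)
      obtain ⟨p, rfl⟩ := (mem_range_fromSpecStalk (ψ w) z').2 h4
      have h5 := (ker_sm_le_iff ιD d (ψ w) hd p).2 hz'
      rw [h3] at hsp ⊢
      have h6 : p ⤳ PrimeSpectrum.comap (sm ψ w (ψ w) rfl) q' :=
        (Z.fromSpecStalk (ψ w)).isEmbedding.isInducing.specializes_iff.1 hsp
      have h7 : p.asIdeal ≤ (PrimeSpectrum.comap (sm ψ w (ψ w) rfl) q').asIdeal :=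
        (PrimeSpectrum.le_iff_specializes _ _).2 h6
      have h8 := hmin.2 ⟨p.2, h5⟩ h7
      congr 1
      exact PrimeSpectrum.ext (le_antisymm h7 h8)

end Groth.Agent.K382.BranchGeo
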