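import Groth.Agent.Models.K382.HensFin
import Groth.Agent.S2801
import Groth.Agent.S9237

/-!
# Numbers of branches under a finite map to a normal ring

`numBranches_le`: `A → B` a map of local rings, `S`, `C` henselizations with `Spec C → Spec S` surjective,
`A → Ā`, `B → B̄` surjective with `Spec B̄ → Spec B → Spec A` mapping into `Spec Ā` and such that a prime of
`B` over a minimal prime of `Ā` belongs to `B̄`. Then `Ā` has at most as many branches as `B̄`.
-/

set_option autoImplicit false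
universe u

open TensorProduct IsLocalRing

namespace Groth.Agent.K382.BranchLe

section Tensor

variable {A A' S : Type u} [CommRing A] [CommRing A'] [Algebra A A'] [CommRing S] [Algebra A S]
  (hA' : Function.Surjective (algebraMap A A'))

include hA'

theorem surjective_includeRight :
    Function.Surjective (Algebra.TensorProduct.includeRight : S →ₐ[A] A' ⊗[A] S) := by
  intro x
  induction x using TensorProduct.induction_on with
  | zero => exact ⟨0, map_zero _⟩
  | tmul a' s =>
    obtain ⟨a, rfl⟩ := hA' a'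
    refine ⟨a • s, ?_⟩
    rw [Algebra.TensorProduct.includeRight_apply, TensorProduct.tmul_smul, TensorProduct.smul_tmul',
      ← Algebra.algebraMap_eq_smul_one]
  | add x y hx hy =>
    obtain ⟨s, hs⟩ := hx
    obtain ⟨t, ht⟩ := hy
    exact ⟨s + t, by rw [map_add, hs, ht]⟩

theorem exists_prime_tensor (P : Ideal S) [P.IsPrime]
    (h : ∀ a : A, algebraMap A A' a = 0 → algebraMap A S a ∈ P) :
    ∃ P' : Ideal (A' ⊗[A] S), P'.IsPrime ∧
      P'.comap (Algebra.TensorProduct.includeRight : S →ₐ[A] A' ⊗[A] S) = P := by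
  let e : (A ⧸ RingHom.ker (Algebra.ofId A A')) ≃ₐ[A] A' := Ideal.quotientKerAlgEquivOfSurjective hA'
  let g : (A ⧸ RingHom.ker (Algebra.ofId A A')) →ₐ[A] S ⧸ P :=
    Ideal.Quotient.liftₐ _ (Algebra.ofId A (S ⧸ P)) (by
      intro a ha
      change algebraMap A (S ⧸ P) a = 0
      rw [IsScalarTower.algebraMap_apply A S (S ⧸ P)]
      exact Ideal.Quotient.eq_zero_iff_mem.2 (h a ha))
  let φ : A' ⊗[A] S →ₐ[A] S ⧸ P := Algebra.TensorProduct.lift (g.comp e.symm.toAlgHom)
    (Ideal.Quotient.mkₐ A P) (fun _ _ => Commute.all _ _)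
  refine ⟨RingHom.ker φ, RingHom.ker_isPrime φ, ?_⟩
  ext s
  rw [Ideal.mem_comap, RingHom.mem_ker, Algebra.TensorProduct.includeRight_apply,
    Algebra.TensorProduct.lift_tmul, map_one, one_mul]
  exact Ideal.Quotient.eq_zero_iff_mem

end Tensor

variable (A B A' B' S C : Type u) [CommRing A] [IsLocalRing A] [CommRing B] [IsLocalRing B] [Algebra A B]
  [CommRing A'] [IsLocalRing A'] [Algebra A A'] (hA' : Function.Surjective (algebraMap A A'))
  [CommRing B'] [IsLocalRing B'] [Algebra B B'] (hB' : Function.Surjective (algebraMap B B'))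
  [CommRing S] [IsLocalRing S] [Algebra A S] [IsLocalHom (algebraMap A S)] [Hensel.IsHenselization A S]
  [CommRing C] [IsLocalRing C] [Algebra B C] [IsLocalHom (algebraMap B C)] [Hensel.IsHenselization B C]
  [Algebra S C] [Algebra A C] [IsScalarTower A B C] [IsScalarTower A S C]
  (hsurj : Function.Surjective (PrimeSpectrum.comap (algebraMap S C)))
  (hI : ∀ a : A, algebraMap A A' a = 0 → IsNilpotent (algebraMap B B' (algebraMap A B a)))
  (hJ : ∀ q : Ideal B, q.IsPrime →
    q.comap (algebraMap A B) ∈ (RingHom.ker (algebraMap A A')).minimalPrimes →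
      RingHom.ker (algebraMap B B') ≤ q)

include hA' hB' hsurj hI hJ

theorem exists_minimalPrime (P : Ideal (A' ⊗[A] S)) (hP : P ∈ minimalPrimes (A' ⊗[A] S)) :
    ∃ Q ∈ minimalPrimes (B' ⊗[B] C),
      (Q.comap (Algebra.TensorProduct.includeRight : C →ₐ[B] B' ⊗[B] C)).comap (algebraMap S C) =
        P.comap (Algebra.TensorProduct.includeRight : S →ₐ[A] A' ⊗[A] S) := by
  have hPp : P.IsPrime := hP.1.1
  have hflat : Module.FaithfullyFlat A S := Groth.Agent.S0509.result A S
  let π : S →ₐ[A] A' ⊗[A] S := Algebra.TensorProduct.includeRight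
  let ρ : C →ₐ[B] B' ⊗[B] C := Algebra.TensorProduct.includeRight
  have hπ : Function.Surjective π := surjective_includeRight hA'
  let P₀ : Ideal S := P.comap π
  have hP₀ : P₀.IsPrime := Ideal.comap_isPrime _ _
  have hIP : ∀ a : A, algebraMap A A' a = 0 → algebraMap A S a ∈ P₀ := by
    intro a ha
    change π (algebraMap A S a) ∈ P
    rw [AlgHom.commutes, IsScalarTower.algebraMap_apply A A' (A' ⊗[A] S), ha, map_zero]
    exact zero_mem _
  -- primes of `S` below `P₀` containing the image of the kernel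
  have hle : ∀ P₁ : Ideal S, P₁.IsPrime → P₁ ≤ P₀ →
      (∀ a : A, algebraMap A A' a = 0 → algebraMap A S a ∈ P₁) → P₁ = P₀ := by
    intro P₁ hP₁ h1 h2
    obtain ⟨P', hP', rfl⟩ := exists_prime_tensor hA' P₁ h2
    have h3 : P' ≤ P := (Ideal.comap_le_comap_iff_of_surjective π hπ P' P).1 h1
    have h4 : P ≤ P' := hP.2 ⟨hP', bot_le⟩ h3
    rw [le_antisymm h3 h4]
  have hmin : P₀.comap (algebraMap A S) ∈ (RingHom.ker (algebraMap A A')).minimalPrimes := by
    refine ⟨⟨Ideal.comap_isPrime _ _, hIP⟩, ?_⟩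
    rintro p₁ ⟨hp₁, hp₁'⟩ hle₁
    have hlo : P₀.LiesOver (P₀.comap (algebraMap A S)) := ⟨rfl⟩
    have hpr : (P₀.comap (algebraMap A S)).IsPrime := Ideal.comap_isPrime _ _
    obtain ⟨P₁, h1, h2, h3⟩ := Ideal.exists_ideal_le_liesOver_of_le (S := S) P₀ hle₁
    have h4 : P₁ = P₀ := hle P₁ h2 h1 fun a ha => by
      have h5 : a ∈ p₁ := hp₁' ha
      rw [h3.over] at h5
      exact h5
    rw [h3.over, h4]
  obtain ⟨Q, hQ⟩ := hsurj ⟨P₀, hP₀⟩
  have hQ' : Q.asIdeal.comap (algebraMap S C) = P₀ := congrArg PrimeSpectrum.asIdeal hQ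
  have hq : (Q.asIdeal.comap (algebraMap B C)).comap (algebraMap A B) = P₀.comap (algebraMap A S) := by
    rw [← hQ', Ideal.comap_comap, Ideal.comap_comap, ← IsScalarTower.algebraMap_eq,
      ← IsScalarTower.algebraMap_eq]
  have hker := hJ (Q.asIdeal.comap (algebraMap B C)) (Ideal.comap_isPrime _ _) (hq ▸ hmin)
  obtain ⟨Q', hQ'p, hQ'c⟩ := exists_prime_tensor hB' Q.asIdeal fun b hb => hker hb
  obtain ⟨Q₁, hQ₁, hQ₁le⟩ := Ideal.exists_minimalPrimes_le (bot_le : ⊥ ≤ Q')
  refine ⟨Q₁, hQ₁, ?_⟩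
  have hQ₁p : Q₁.IsPrime := hQ₁.1.1
  have hQ₁C : (Q₁.comap ρ).IsPrime := Ideal.comap_isPrime _ _
  refine hle _ (Ideal.comap_isPrime _ _) ?_ ?_
  · rw [← hQ', ← hQ'c]
    exact Ideal.comap_mono (Ideal.comap_mono hQ₁le)
  · intro a ha
    rw [Ideal.mem_comap, Ideal.mem_comap, ← IsScalarTower.algebraMap_apply A S C,
      IsScalarTower.algebraMap_apply A B C]
    have h1 : (Algebra.TensorProduct.includeRight : C →ₐ[B] B' ⊗[B] C)
        (algebraMap B C (algebraMap A B a)) =
        algebraMap B' (B' ⊗[B] C) (algebraMap B B' (algebraMap A B a)) := by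
      rw [AlgHom.commutes, ← IsScalarTower.algebraMap_apply B B' (B' ⊗[B] C)]
    change (Algebra.TensorProduct.includeRight : C →ₐ[B] B' ⊗[B] C)
        (algebraMap B C (algebraMap A B a)) ∈ Q₁
    rw [h1]
    obtain ⟨m, hm⟩ := hI a ha
    apply hQ₁p.mem_of_pow_mem m
    rw [← map_pow, hm, map_zero]
    exact zero_mem _

theorem numBranches_le : Brnch.numBranches A' ≤ Brnch.numBranches B' := by
  have hlA : IsLocalHom (algebraMap A A') := IsLocalHom.of_surjective _ hA'
  have hlB : IsLocalHom (algebraMap B B') := IsLocalHom.of_surjective _ hB'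
  have hiA : Algebra.IsIntegral A A' := Algebra.isIntegral_of_surjective hA'
  have hiB : Algebra.IsIntegral B B' := Algebra.isIntegral_of_surjective hB'
  obtain ⟨_, _, hA⟩ := Groth.Agent.S2801.result A A' S
  obtain ⟨_, _, hB⟩ := Groth.Agent.S2801.result B B' C
  rw [← Groth.Agent.S9237.result A' (A' ⊗[A] S), ← Groth.Agent.S9237.result B' (B' ⊗[B] C)]
  choose F hF hFc using exists_minimalPrime A B A' B' S C hA' hB' hsurj hI hJ
  refine ENat.card_le_card_of_injective (f := fun P : minimalPrimes (A' ⊗[A] S) =>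
    (⟨F P.1 P.2, hF P.1 P.2⟩ : minimalPrimes (B' ⊗[B] C))) ?_
  intro P Q hPQ
  have h1 : F P.1 P.2 = F Q.1 Q.2 := congrArg Subtype.val hPQ
  have h2 := hFc P.1 P.2
  rw [h1, hFc Q.1 Q.2] at h2
  exact Subtype.ext (Ideal.comap_injective_of_surjective _ (surjective_includeRight hA') h2.symm)

end Groth.Agent.K382.BranchLe
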