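import Groth.Agent.Etalg.RamApp
import Mathlib.RingTheory.DiscreteValuationRing.Basic
import Mathlib.RingTheory.PrincipalIdealDomainOfPrime
import Mathlib.FieldTheory.IsAlgClosed.Basic
import Mathlib.FieldTheory.IsAlgClosed.AlgebraicClosure
import Mathlib.RingTheory.TensorProduct.Basic
import Mathlib.RingTheory.Flat.TorsionFree
import Mathlib.RingTheory.Ideal.GoingUp
import Mathlib.RingTheory.Localization.Integral

/-!
# Tensor products of discrete valuation rings

`R → B` an extension of discrete valuation rings of ramification index one, `R → R'` a generically finite extension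
of discrete valuation rings, `R` with algebraically closed residue field.  If `B ⊗ R'` is a domain then it is a
discrete valuation ring.
-/

set_option autoImplicit false
universe u

open scoped TensorProduct
open IsLocalRing

namespace Groth.Agent.K382.DvrTensor

section

variable (R : Type u) [CommRing R] [IsDomain R] [IsDiscreteValuationRing R]
  (R' : Type u) [CommRing R'] [IsDomain R'] [Algebra R R']
  (hinj : Function.Injective (algebraMap R R'))

include hinj

theorem flat : Module.Flat R R' := by
  have : FaithfulSMul R R' := (faithfulSMul_iff_algebraMap_injective R R').mpr hinj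
  have : Module.IsTorsionFree R R' := inferInstance
  infer_instance

theorem isAlgebraic [Module.Finite (FractionRing R) (FractionRing R ⊗[R] R')] : Algebra.IsAlgebraic R R' := by
  have h0 : Module.Flat R R' := flat R R' hinj
  have h1 : Algebra.IsAlgebraic (FractionRing R) (FractionRing R ⊗[R] R') := inferInstance
  have h2 : Algebra.IsAlgebraic R (FractionRing R) :=
    IsLocalization.isAlgebraic (FractionRing R) (nonZeroDivisors R)
  have h3 : Algebra.IsAlgebraic R (FractionRing R ⊗[R] R') := Algebra.IsAlgebraic.trans R (FractionRing R) _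
  let ι : R' →ₐ[R] (FractionRing R ⊗[R] R') := Algebra.TensorProduct.includeRight
  have hι : Function.Injective ι :=
    Algebra.TensorProduct.includeRight_injective (IsFractionRing.injective R (FractionRing R))
  exact Algebra.IsAlgebraic.of_injective ι hι

end

section

variable (R : Type u) [CommRing R] [IsDomain R] [IsDiscreteValuationRing R]
  [IsAlgClosed (ResidueField R)]
  (R' : Type u) [CommRing R'] [IsDomain R'] [IsDiscreteValuationRing R'] [Algebra R R']
  (hinj : Function.Injective (algebraMap R R')) [IsLocalHom (algebraMap R R')]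
  [Module.Finite (FractionRing R) (FractionRing R ⊗[R] R')]

include hinj

theorem residue_bijective : Function.Bijective (algebraMap (ResidueField R) (ResidueField R')) := by
  have h1 := isAlgebraic R R' hinj
  have h2 := Etalg.RamApp.isAlgebraic_residueField hinj
  exact IsAlgClosed.algebraMap_bijective_of_isIntegral

/-- `R' = R + 𝔪'`. -/
theorem exists_sub_mem (x : R') : ∃ r : R, x - algebraMap R R' r ∈ maximalIdeal R' := by
  obtain ⟨c, hc⟩ := (residue_bijective R R' hinj).2 (residue R' x)
  obtain ⟨r, rfl⟩ := residue_surjective c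
  refine ⟨r, ?_⟩
  rw [← residue_eq_zero_iff, map_sub, sub_eq_zero]
  exact hc.symm

variable (B : Type u) [CommRing B] [IsDomain B] [IsDiscreteValuationRing B] [Algebra R B]
  (hB : maximalIdeal B = Ideal.map (algebraMap R B) (maximalIdeal R))
  [hdom : IsDomain (B ⊗[R] R')]

include hB

/-- If `B ⊗ R'` is a domain then it is a discrete valuation ring. -/
theorem isDiscreteValuationRing : IsDiscreteValuationRing (B ⊗[R] R') := by
  obtain ⟨ϖ, hϖ⟩ := IsDiscreteValuationRing.exists_irreducible R
  obtain ⟨ϖ', hϖ'⟩ := IsDiscreteValuationRing.exists_irreducible R'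
  have hBirr : Irreducible (algebraMap R B ϖ) := by
    rw [IsDiscreteValuationRing.irreducible_iff_uniformizer, hB, hϖ.maximalIdeal_eq, Ideal.map_span,
      Set.image_singleton]
  have hBinj : Function.Injective (algebraMap R B) := by
    rw [injective_iff_map_eq_zero]
    intro a ha
    by_contra hne
    obtain ⟨n, u, rfl⟩ := IsDiscreteValuationRing.eq_unit_mul_pow_irreducible hne hϖ
    rw [map_mul, map_pow] at ha
    exact mul_ne_zero (u.isUnit.map (algebraMap R B)).ne_zero (pow_ne_zero n hBirr.ne_zero) ha
  have hBloc : IsLocalHom (algebraMap R B) := by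
    refine ⟨fun a ha => ?_⟩
    by_contra hna
    have h1 : a ∈ maximalIdeal R := hna
    have h2 : algebraMap R B a ∈ maximalIdeal B := hB ▸ Ideal.mem_map_of_mem _ h1
    exact h2 ha
  have hflB : Module.Flat R B := flat R B hBinj
  have hflR' : Module.Flat R R' := flat R R' hinj
  have halg := isAlgebraic R R' hinj
  have hfaith : FaithfulSMul R B := (faithfulSMul_iff_algebraMap_injective R B).mpr hBinj
  have halgT : Algebra.IsAlgebraic B (B ⊗[R] R') := inferInstance
  let T := B ⊗[R] R'
  let t : T := (1 : B) ⊗ₜ[R] ϖ'
  -- the uniformizer of `R` is divisible by the one of `R'`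
  obtain ⟨c, hc⟩ : ∃ c : R', algebraMap R R' ϖ = ϖ' * c := by
    have h1 : algebraMap R R' ϖ ∈ maximalIdeal R' := by
      have h2 : ϖ ∈ maximalIdeal R := hϖ.not_isUnit
      exact fun h => h2 (isUnit_of_map_unit (algebraMap R R') _ h)
    rw [hϖ'.maximalIdeal_eq, Ideal.mem_span_singleton] at h1
    exact h1
  have hϖT : algebraMap B T (algebraMap R B ϖ) = t * ((1 : B) ⊗ₜ[R] c) := by
    change (algebraMap R B ϖ) ⊗ₜ[R] (1 : R') = _
    rw [Algebra.TensorProduct.tmul_mul_tmul, mul_one, ← hc, Algebra.algebraMap_eq_smul_one,
      Algebra.algebraMap_eq_smul_one, TensorProduct.smul_tmul]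
  have hBT : Function.Injective (algebraMap B T) :=
    Algebra.TensorProduct.includeLeft_injective (S := R) hinj
  have ht0 : t ≠ 0 := by
    intro h
    rw [h, zero_mul] at hϖT
    exact hBirr.ne_zero (hBT (hϖT.trans (map_zero _).symm))
  -- every nonzero prime contains `t`
  have hmem : ∀ q : Ideal T, q.IsPrime → q ≠ ⊥ → t ∈ q := by
    intro q hq hq0
    obtain ⟨x, hx, hx0⟩ := Submodule.exists_mem_ne_zero_of_ne_bot hq0
    have h1 := Ideal.comap_ne_bot_of_algebraic_mem hx0 hx (Algebra.IsAlgebraic.isAlgebraic (R := B) x)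
    obtain ⟨b, hb, hb0⟩ := Submodule.exists_mem_ne_zero_of_ne_bot h1
    obtain ⟨n, u, rfl⟩ := IsDiscreteValuationRing.eq_unit_mul_pow_irreducible hb0 hBirr
    have h2 : algebraMap B T (algebraMap R B ϖ) ^ n ∈ q := by
      have h3 : algebraMap B T ((u : B) * algebraMap R B ϖ ^ n) ∈ q := hb
      rw [map_mul, map_pow] at h3
      exact (Ideal.unit_mul_mem_iff_mem q (u.isUnit.map (algebraMap B T))).mp h3
    have h3 := hq.mem_of_pow_mem n h2
    rw [hϖT] at h3
    -- `c` is a unit times a power of `ϖ'`
    have hc0 : c ≠ 0 := by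
      rintro rfl
      rw [mul_zero] at hc
      exact hϖ.ne_zero (hinj (hc.trans (map_zero _).symm))
    rcases hq.mem_or_mem h3 with h | h
    · exact h
    · obtain ⟨m, v, rfl⟩ := IsDiscreteValuationRing.eq_unit_mul_pow_irreducible hc0 hϖ'
      have h4 : (1 : B) ⊗ₜ[R] ((v : R') * ϖ' ^ m) =
          (Algebra.TensorProduct.includeRight (R := R) (A := B) (v : R')) * t ^ m := by
        change (Algebra.TensorProduct.includeRight (R := R) (A := B)) ((v : R') * ϖ' ^ m) = _
        rw [map_mul, map_pow]
        rfl
      rw [h4] at h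
      have h5 := (Ideal.unit_mul_mem_iff_mem q
        (v.isUnit.map (Algebra.TensorProduct.includeRight (R := R) (A := B) (B := R')))).mp h
      exact hq.mem_of_pow_mem m h5
  -- a homomorphism to the residue field of `B`
  let e : ResidueField R ≃+* ResidueField R' := RingEquiv.ofBijective _ (residue_bijective R R' hinj)
  let ρ' : R' →ₐ[R] ResidueField B :=
    { toRingHom := (algebraMap (ResidueField R) (ResidueField B)).comp (e.symm.toRingHom.comp (residue R'))
      commutes' := by
        intro r
        have h1 : residue R' (algebraMap R R' r) = e (residue R r) := rfl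
        change algebraMap (ResidueField R) (ResidueField B) (e.symm (residue R' (algebraMap R R' r))) = _
        rw [h1, RingEquiv.symm_apply_apply]
        rfl }
  let ρ : T →ₐ[R] ResidueField B :=
    Algebra.TensorProduct.lift (IsScalarTower.toAlgHom R B (ResidueField B)) ρ' (fun _ _ => Commute.all _ _)
  have hρt : ρ t = 0 := by
    have h1 : ρ' ϖ' = 0 := by
      change algebraMap (ResidueField R) (ResidueField B) (e.symm (residue R' ϖ')) = 0
      have h2 : residue R' ϖ' = 0 := by
        rw [residue_eq_zero_iff]; exact hϖ'.not_isUnit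
      rw [h2, map_zero, map_zero]
    change Algebra.TensorProduct.lift (IsScalarTower.toAlgHom R B (ResidueField B)) ρ' _
      ((1 : B) ⊗ₜ[R] ϖ') = 0
    rw [Algebra.TensorProduct.lift_tmul, h1, mul_zero]
  have hρb : ∀ b : B, ρ (algebraMap B T b) = residue B b := by
    intro b
    change Algebra.TensorProduct.lift (IsScalarTower.toAlgHom R B (ResidueField B)) ρ' _
      (b ⊗ₜ[R] (1 : R')) = _
    rw [Algebra.TensorProduct.lift_tmul, map_one, mul_one]
    rfl
  -- `T = B + t T`
  have hdec : ∀ x : T, ∃ (b : B) (y : T), x = algebraMap B T b + t * y := by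
    intro x
    induction x using TensorProduct.induction_on with
    | zero => exact ⟨0, 0, by simp⟩
    | tmul b r =>
      obtain ⟨s, hs⟩ := exists_sub_mem R R' hinj r
      rw [hϖ'.maximalIdeal_eq, Ideal.mem_span_singleton] at hs
      obtain ⟨d, hd⟩ := hs
      refine ⟨algebraMap R B s * b, b ⊗ₜ[R] d, ?_⟩
      have h1 : r = algebraMap R R' s + ϖ' * d := by rw [← hd]; ring
      rw [h1, TensorProduct.tmul_add]
      congr 1
      · change _ = (algebraMap R B s * b) ⊗ₜ[R] (1 : R')
        rw [← Algebra.smul_def, Algebra.algebraMap_eq_smul_one, TensorProduct.smul_tmul]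
      · change _ = ((1 : B) ⊗ₜ[R] ϖ') * (b ⊗ₜ[R] d)
        rw [Algebra.TensorProduct.tmul_mul_tmul, one_mul]
    | add x y hx hy =>
      obtain ⟨b, z, rfl⟩ := hx
      obtain ⟨b', z', rfl⟩ := hy
      exact ⟨b + b', z + z', by rw [map_add]; ring⟩
  -- the ideal generated by `t` is maximal
  have htmax : (Ideal.span {t} : Ideal T).IsMaximal := by
    have hker : Ideal.span {t} = RingHom.ker ρ := by
      apply le_antisymm
      · rw [Ideal.span_le, Set.singleton_subset_iff]
        exact hρt
      · intro x hx
        obtain ⟨b, y, rfl⟩ := hdec x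
        rw [RingHom.mem_ker, map_add, map_mul, hρt, zero_mul, add_zero] at hx
        rw [hρb, residue_eq_zero_iff, hBirr.maximalIdeal_eq, Ideal.mem_span_singleton] at hx
        obtain ⟨d, rfl⟩ := hx
        rw [map_mul, hϖT, Ideal.mem_span_singleton]
        exact Dvd.intro _ (by ring : t * (((1 : B) ⊗ₜ[R] c) * algebraMap B T d + y) = _)
    rw [hker]
    refine RingHom.ker_isMaximal_of_surjective _ ?_
    intro z
    obtain ⟨b, rfl⟩ := residue_surjective z
    exact ⟨algebraMap B T b, hρb b⟩
  have hprime : ∀ q : Ideal T, q.IsPrime → q ≠ ⊥ → q = Ideal.span {t} := by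
    intro q hq hq0
    refine (htmax.eq_of_le hq.ne_top ?_).symm
    rw [Ideal.span_le, Set.singleton_subset_iff]
    exact hmem q hq hq0
  have hpid : IsPrincipalIdealRing T :=
    IsPrincipalIdealRing.of_prime_ne_bot fun P hP hP0 => hprime P hP hP0 ▸ ⟨⟨t, rfl⟩⟩
  have hne : Ideal.span {t} ≠ (⊥ : Ideal T) := by
    intro h
    exact ht0 (Ideal.span_singleton_eq_bot.mp h)
  have hloc : IsLocalRing T := by
    refine IsLocalRing.of_unique_max_ideal ⟨Ideal.span {t}, htmax, fun M hM => ?_⟩
    refine hprime M hM.isPrime ?_
    rintro rfl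
    exact hne (hM.eq_of_le htmax.ne_top bot_le).symm
  refine { not_a_field' := ?_ }
  rw [← IsLocalRing.eq_maximalIdeal htmax]
  exact hne

end

end Groth.Agent.K382.DvrTensor
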