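import Groth.Agent.Models.K382.BranchLe
import Groth.Agent.Sga7.H756.NormStalk
import Groth.Agent.S0515
import Mathlib.AlgebraicGeometry.Morphisms.Finite
import Mathlib.AlgebraicGeometry.Stalk
import Mathlib.RingTheory.Localization.BaseChange

/-!
# The local ring of a finite scheme as a localization of a finite algebra over the local ring of the base
-/

set_option autoImplicit false
universe u

open CategoryTheory CategoryTheory.Limits AlgebraicGeometry TopologicalSpace TensorProduct IsLocalRing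

namespace Groth.Agent.K382.FinLoc

/-- `B` a localization at a prime of the finite `A₁`-algebra `B₁`, `A` a localization of `A₁`, `A → B` local:
`B` is the localization at a prime of the finite `A`-algebra `A ⊗ B₁`. -/
theorem exists_finite (A₁ B₁ A B : Type u) [CommRing A₁] [CommRing B₁] [CommRing A] [CommRing B]
    [IsLocalRing A] [IsLocalRing B]
    [Algebra A₁ B₁] [Module.Finite A₁ B₁] [Algebra A₁ A] [Algebra B₁ B] [Algebra A B] [Algebra A₁ B]
    [IsScalarTower A₁ A B] [IsScalarTower A₁ B₁ B] [IsLocalHom (algebraMap A B)]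
    (M : Submonoid A₁) [IsLocalization M A] (q₁ : Ideal B₁) [q₁.IsPrime] [IsLocalization.AtPrime B q₁] :
    ∃ (B₀ : Type u) (_ : CommRing B₀) (_ : Algebra A B₀) (_ : Algebra B₀ B) (_ : IsScalarTower A B₀ B)
      (_ : Module.Finite A B₀) (q : Ideal B₀) (_ : q.IsPrime),
      IsLocalization.AtPrime B q ∧ q.comap (algebraMap A B₀) = maximalIdeal A := by
  let B₀ := A ⊗[A₁] B₁
  let φ : B₀ →ₐ[A] B := Algebra.TensorProduct.lift (Algebra.ofId A B) (IsScalarTower.toAlgHom A₁ B₁ B)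
    (fun _ _ => Commute.all _ _)
  let _ : Algebra B₀ B := φ.toRingHom.toAlgebra
  have hφ : ∀ x : B₀, algebraMap B₀ B x = φ x := fun _ => rfl
  have hφ1 : ∀ b : B₁, φ ((1 : A) ⊗ₜ b) = algebraMap B₁ B b := by
    intro b
    rw [Algebra.TensorProduct.lift_tmul, map_one, one_mul]
    rfl
  have htow : IsScalarTower A B₀ B := IsScalarTower.of_algebraMap_eq fun a => (φ.commutes a).symm
  let q : Ideal B₀ := (maximalIdeal B).comap φ
  have hq : q.IsPrime := Ideal.comap_isPrime _ _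
  have hmem : ∀ x : B₀, x ∉ q ↔ IsUnit (φ x) := by
    intro x
    rw [Ideal.mem_comap, mem_maximalIdeal, mem_nonunits_iff, not_not]
  have hsurj : ∀ x : B₀, ∃ (b : B₁) (s : M), s.1 • x = (1 : A) ⊗ₜ[A₁] b := by
    intro x
    have hloc : IsLocalizedModule M (TensorProduct.mk A₁ A B₁ 1) :=
      (isLocalizedModule_iff_isBaseChange M A _).2 (TensorProduct.isBaseChange A₁ B₁ A)
    obtain ⟨⟨b, s⟩, hs⟩ := IsLocalizedModule.surj M (TensorProduct.mk A₁ A B₁ 1) x
    exact ⟨b, s, hs⟩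
  have hunit : ∀ s : M, IsUnit (algebraMap A₁ B₀ s.1) := by
    intro s
    rw [IsScalarTower.algebraMap_apply A₁ A B₀]
    exact (IsLocalization.map_units A s).map _
  refine ⟨B₀, inferInstance, inferInstance, inferInstance, htow, inferInstance, q, hq, ?_, ?_⟩
  · refine ⟨?_, ?_, ?_⟩
    · intro y
      exact (hmem y.1).1 y.2
    · intro b
      obtain ⟨x, y, hxy⟩ := IsLocalization.exists_mk'_eq q₁.primeCompl b
      refine ⟨⟨(1 : A) ⊗ₜ x, ⟨(1 : A) ⊗ₜ y.1, ?_⟩⟩, ?_⟩
      · refine (hmem _).2 ?_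
        rw [hφ1]
        exact IsLocalization.map_units B y
      · change b * φ ((1 : A) ⊗ₜ y.1) = φ ((1 : A) ⊗ₜ x)
        rw [hφ1, hφ1, ← hxy, IsLocalization.mk'_spec]
    · intro x y hxy
      obtain ⟨b, s, hs⟩ := hsurj (x - y)
      have h1 : φ ((1 : A) ⊗ₜ b) = 0 := by
        rw [← hs, ← algebraMap_smul A s.1 (x - y), map_smul, map_sub]
        change _ • (algebraMap B₀ B x - algebraMap B₀ B y) = 0
        rw [hxy, sub_self, smul_zero]
      rw [hφ1] at h1
      obtain ⟨t, ht⟩ := (IsLocalization.map_eq_zero_iff q₁.primeCompl B b).1 h1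
      refine ⟨⟨(1 : A) ⊗ₜ t.1, (hmem _).2 (by rw [hφ1]; exact IsLocalization.map_units B t)⟩, ?_⟩
      rw [← sub_eq_zero, ← mul_sub]
      have h2 : algebraMap A₁ B₀ s.1 * ((1 : A) ⊗ₜ[A₁] t.1 * (x - y)) = 0 := by
        rw [mul_left_comm, ← Algebra.smul_def, hs, Algebra.TensorProduct.tmul_mul_tmul, ht, one_mul,
          TensorProduct.tmul_zero]
      exact ((hunit s).mul_right_eq_zero).1 h2
  · ext a
    rw [Ideal.mem_comap, Ideal.mem_comap, AlgHom.commutes, mem_maximalIdeal, mem_maximalIdeal,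
      mem_nonunits_iff, mem_nonunits_iff, isUnit_map_iff (algebraMap A B)]

variable {W Z : Scheme.{u}} (ψ : W ⟶ Z)

/-- The henselization of the local ring of a finite scheme. -/
theorem exists_henselization [IsFinite ψ] (w : W) (S : Type u) [CommRing S] [IsLocalRing S]
    [Algebra (Z.presheaf.stalk (ψ w)) S] [IsLocalHom (algebraMap (Z.presheaf.stalk (ψ w)) S)]
    [Hensel.IsHenselization (Z.presheaf.stalk (ψ w)) S] :
    letI : Algebra (Z.presheaf.stalk (ψ w)) (W.presheaf.stalk w) := (ψ.stalkMap w).hom.toAlgebra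
    ∃ (C : Type u) (_ : CommRing C) (_ : IsLocalRing C) (_ : Algebra (W.presheaf.stalk w) C)
    (_ : Algebra S C) (_ : Algebra (Z.presheaf.stalk (ψ w)) C)
    (_ : IsScalarTower (Z.presheaf.stalk (ψ w)) (W.presheaf.stalk w) C)
    (_ : IsScalarTower (Z.presheaf.stalk (ψ w)) S C)
    (_ : IsLocalHom (algebraMap (W.presheaf.stalk w) C)) (_ : IsLocalHom (algebraMap S C)),
    Hensel.IsHenselization (W.presheaf.stalk w) C ∧ Module.Finite S C := by
  let _ : Algebra (Z.presheaf.stalk (ψ w)) (W.presheaf.stalk w) := (ψ.stalkMap w).hom.toAlgebra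
  have hlo : IsLocalHom (algebraMap (Z.presheaf.stalk (ψ w)) (W.presheaf.stalk w)) :=
    inferInstanceAs (IsLocalHom (ψ.stalkMap w).hom)
  obtain ⟨_, ⟨U, hU, rfl⟩, hzU, -⟩ :=
    Z.isBasis_affineOpens.exists_subset_of_mem_open (Set.mem_univ (ψ w)) isOpen_univ
  have hU' : IsAffineOpen U := hU
  have hV : IsAffineOpen (ψ ⁻¹ᵁ U) := hU'.preimage ψ
  let _ := Z.presheaf.algebra_section_stalk (⟨ψ w, hzU⟩ : U)
  have h1 := hU'.isLocalization_stalk ⟨ψ w, hzU⟩
  let _ := W.presheaf.algebra_section_stalk (⟨w, hzU⟩ : (ψ ⁻¹ᵁ U : W.Opens))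
  have h2 := hV.isLocalization_stalk ⟨w, hzU⟩
  let _ : Algebra Γ(Z, U) Γ(W, ψ ⁻¹ᵁ U) := (ψ.app U).hom.toAlgebra
  have hfin : Module.Finite Γ(Z, U) Γ(W, ψ ⁻¹ᵁ U) := IsFinite.finite_app ψ U hU'
  let _ : Algebra Γ(Z, U) (W.presheaf.stalk w) :=
    ((ψ.stalkMap w).hom.comp (Z.presheaf.germ U (ψ w) hzU).hom).toAlgebra
  have ht1 : IsScalarTower Γ(Z, U) (Z.presheaf.stalk (ψ w)) (W.presheaf.stalk w) :=
    IsScalarTower.of_algebraMap_eq fun _ => rfl
  have ht2 : IsScalarTower Γ(Z, U) Γ(W, ψ ⁻¹ᵁ U) (W.presheaf.stalk w) := by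
    refine IsScalarTower.of_algebraMap_eq fun a => ?_
    exact ConcreteCategory.congr_hom (ψ.germ_stalkMap U w hzU) a
  obtain ⟨B₀, _, _, _, _, _, q, _, hq, hq'⟩ := exists_finite Γ(Z, U) Γ(W, ψ ⁻¹ᵁ U)
    (Z.presheaf.stalk (ψ w)) (W.presheaf.stalk w) (hU'.primeIdealOf ⟨ψ w, hzU⟩).asIdeal.primeCompl
    (hV.primeIdealOf ⟨w, hzU⟩).asIdeal
  exact HensFin.exists_henselization (Z.presheaf.stalk (ψ w)) B₀ (W.presheaf.stalk w) S q hq'

end Groth.Agent.K382.FinLoc
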