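import Groth.Agent.Flat2B.SmoothGeom
import Groth.Agent.VarietyA.GlobalSections
import Groth.Agent.Sga67.DVRConn
import Groth.Agent.S2431
import Mathlib.AlgebraicGeometry.Geometrically.Connected

/-!
# Geometric connectedness of a proper flat scheme over a discrete valuation ring from its generic fibre

* `appTop_bijective_of_field`: a proper geometrically reduced and geometrically connected scheme over a field has
  only the constants as global functions.
* `isIso_app`, `geometricallyConnected`: for `p : X ⟶ Spec R` proper and flat over a principal ideal domain with
  generic fibre `C` having only constants as global functions, `O_S = p_* O_X` and `p` has geometrically connected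
  fibres.
-/

set_option autoImplicit false
universe u

open CategoryTheory CategoryTheory.Limits AlgebraicGeometry

namespace Groth.Agent.K382.GenConn

/-- A proper geometrically reduced and geometrically connected scheme over a field has only constant global
functions. -/
theorem appTop_bijective_of_field (k : Type u) [Field k] (X : Scheme.{u}) (f : X ⟶ (Spec (CommRingCat.of k)))
    [IsProper f] [GeometricallyReduced f] [GeometricallyConnected f] : Function.Bijective f.appTop := by
  let _ : Algebra k Γ(X, ⊤) := (VarietyA.GlobalSections.gl f).hom.toAlgebra
  have h1 : Module.finrank k Γ(X, ⊤) = 1 := VarietyA.GlobalSections.finrank_global k X f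
  have h2 : Function.Bijective (algebraMap k Γ(X, ⊤)) :=
    Algebra.finrank_eq_one_iff_bijective_algebraMap.mp h1
  let e1 := (Scheme.ΓSpecIso (CommRingCat.of k))
  have h3 : (e1.inv ≫ f.appTop).hom ∘ e1.hom.hom = f.appTop := by
    funext x
    change (e1.hom ≫ e1.inv ≫ f.appTop).hom x = _
    simp
  rw [← h3]
  exact h2.comp e1.commRingCatIsoToRingEquiv.bijective

section

variable {R : Type u} [CommRing R] [IsDomain R] [IsPrincipalIdealRing R] {X C : Scheme.{u}}
  (p : X ⟶ Spec (CommRingCat.of R)) [IsProper p] [Flat p]
  (f : C ⟶ Spec (CommRingCat.of (FractionRing R))) (g : C ⟶ X)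
  (hg : IsPullback g f p (Spec.map (CommRingCat.ofHom (algebraMap R (FractionRing R)))))
  [Nonempty C] (h : Function.Bijective f.appTop)

include hg h

theorem isIso_app (U : (Spec (CommRingCat.of R)).Opens) : IsIso (p.app U) := by
  let e : C ≅ pullback p (Neron.genPt R) := hg.isoPullback
  have he : e.inv ≫ f = pullback.snd p (Neron.genPt R) := hg.isoPullback_inv_snd
  have hne : Nonempty ↥(pullback p (Neron.genPt R)) := ⟨e.hom (Classical.arbitrary C)⟩
  refine Sga67.DVRConn.isIso_app p ?_ U
  rw [← he, Scheme.Hom.comp_appTop]
  have h3 : IsIso f.appTop := by rwa [ConcreteCategory.isIso_iff_bijective]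
  have h4 : IsIso e.inv.appTop := inferInstanceAs (IsIso (e.inv.app ⊤))
  rw [← ConcreteCategory.isIso_iff_bijective]
  exact IsIso.comp_isIso' h3 h4

theorem geometricallyConnected : GeometricallyConnected p := by
  have := (S2431.result p (fun U => isIso_app p f g hg h U)).2
  exact this

end

end Groth.Agent.K382.GenConn
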