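import Groth.Prelude.Def_Coh
import Mathlib.AlgebraicGeometry.AffineScheme
import Mathlib.AlgebraicGeometry.Properties
import Mathlib.AlgebraicGeometry.Pullbacks
import Mathlib.Algebra.Category.Ring.Constructions
import Mathlib.RingTheory.Localization.BaseChange
import Mathlib.RingTheory.TensorProduct.Basic

/-!
# The tensor product of a stalk with a field is a domain if the base change of the scheme is integral

`isDomain_tensor_stalk`: `f : X ⟶ Spec R`, `F` a ring over `R` such that `X ×_R Spec F` is integral, `x` a point of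
`X` and `B` an `R`-algebra identified with the local ring of `X` at `x`.  If `F ⊗_R B` is not the zero ring then it is
a domain.
-/

set_option autoImplicit false
universe u

open CategoryTheory CategoryTheory.Limits AlgebraicGeometry
open scoped TensorProduct

namespace Groth.Agent.K382.StalkDomain

/-- The affine case. -/
theorem isDomain_tensor_affine (R : Type u) [CommRing R] {X : Scheme.{u}} (f : X ⟶ Spec (CommRingCat.of R))
    (F : Type u) [CommRing F] [Algebra R F]
    [IsIntegral (pullback f (Spec.map (CommRingCat.ofHom (algebraMap R F))))]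
    (A : Type u) [CommRing A] [Algebra R A] (i : Spec (CommRingCat.of A) ⟶ X) [IsOpenImmersion i]
    (hi : i ≫ f = Spec.map (CommRingCat.ofHom (algebraMap R A))) [Nontrivial (F ⊗[R] A)] :
    IsDomain (F ⊗[R] A) := by
  let g : Spec (CommRingCat.of F) ⟶ Spec (CommRingCat.of R) := Spec.map (CommRingCat.ofHom (algebraMap R F))
  have h1 : IsPullback (pullback.fst (pullback.fst f g) i) (pullback.snd (pullback.fst f g) i)
      (pullback.fst f g) i := IsPullback.of_hasPullback _ _
  have h2 : IsPullback (pullback.fst f g) (pullback.snd f g) f g := IsPullback.of_hasPullback _ _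
  have h3 : IsPullback (pullback.snd (pullback.fst f g) i)
      (pullback.fst (pullback.fst f g) i ≫ pullback.snd f g) (i ≫ f) g := h1.flip.paste_vert h2
  rw [hi] at h3
  have h4 : IsPullback (Spec.map (CommRingCat.ofHom (R := F) (S := F ⊗[R] A) Algebra.TensorProduct.includeLeftRingHom))
      (Spec.map (CommRingCat.ofHom (R := A) (S := F ⊗[R] A)
        (Algebra.TensorProduct.includeRight (R := R) (A := F) (B := A)).toRingHom))
      (Spec.map (CommRingCat.ofHom (algebraMap R F))) (Spec.map (CommRingCat.ofHom (algebraMap R A))) :=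
    isPullback_SpecMap_of_isPushout _ _ _ _ (CommRingCat.isPushout_tensorProduct R F A)
  let e := h4.flip.isoIsPullback _ _ h3
  have hne : Nonempty (Spec (CommRingCat.of (F ⊗[R] A))) := inferInstance
  have h5 : IsIntegral (Spec (CommRingCat.of (F ⊗[R] A))) :=
    isIntegral_of_isOpenImmersion (e.hom ≫ pullback.fst (pullback.fst f g) i)
  exact (affine_isIntegral_iff _).mp h5

/-- Localization. -/
theorem isDomain_tensor_localization (R : Type u) [CommRing R] (F : Type u) [CommRing F] [Algebra R F]
    (A : Type u) [CommRing A] [Algebra R A] (B : Type u) [CommRing B] [Algebra R B] [Algebra A B]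
    [IsScalarTower R A B] (M : Submonoid A) [IsLocalization M B] [Nontrivial (F ⊗[R] B)]
    [IsDomain (F ⊗[R] A)] : IsDomain (F ⊗[R] B) := by
  let ψ : F ⊗[R] A →ₐ[F] F ⊗[R] B :=
    Algebra.TensorProduct.map (AlgHom.id F F) (IsScalarTower.toAlgHom R A B)
  let _ : Algebra (F ⊗[R] A) (F ⊗[R] B) := ψ.toRingHom.toAlgebra
  have : IsScalarTower F (F ⊗[R] A) (F ⊗[R] B) := IsScalarTower.of_algebraMap_eq fun x => (ψ.commutes x).symm
  have hloc := IsLocalization.tensorProduct_tensorProduct_right R F M B (by
    ext a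
    change ψ ((1 : F) ⊗ₜ[R] a) = (1 : F) ⊗ₜ[R] (algebraMap A B a)
    simp [ψ])
  refine IsLocalization.isDomain_of_le_nonZeroDivisors (R := F ⊗[R] A) (F ⊗[R] B)
    (M := M.map (Algebra.TensorProduct.includeRight (R := R) (A := F))) ?_
  rintro _ ⟨m, hm, rfl⟩
  refine mem_nonZeroDivisors_of_ne_zero ?_
  intro h0
  have h1 : IsUnit (algebraMap (F ⊗[R] A) (F ⊗[R] B)
      (Algebra.TensorProduct.includeRight (R := R) (A := F) m)) :=
    IsLocalization.map_units (F ⊗[R] B) (⟨_, m, hm, rfl⟩ :
      M.map (Algebra.TensorProduct.includeRight (R := R) (A := F)))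
  have h2 : Algebra.TensorProduct.includeRight (R := R) (A := F) m = 0 := h0
  rw [h2, map_zero] at h1
  exact not_isUnit_zero h1

theorem isDomain_tensor_stalk (R : Type u) [CommRing R] {X : Scheme.{u}} (f : X ⟶ Spec (CommRingCat.of R))
    (F : Type u) [CommRing F] [Algebra R F]
    [IsIntegral (pullback f (Spec.map (CommRingCat.ofHom (algebraMap R F))))]
    (x : X) (B : Type u) [CommRing B] [Algebra R B]
    (e : X.presheaf.stalk x ≅ CommRingCat.of B)
    (he : e.hom.hom.comp ((X.presheaf.germ ⊤ x trivial).hom.comp (Coh.toGlobal f)) = algebraMap R B)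
    [Nontrivial (F ⊗[R] B)] : IsDomain (F ⊗[R] B) := by
  obtain ⟨_, ⟨U, hU, rfl⟩, hxU, -⟩ :=
    X.isBasis_affineOpens.exists_subset_of_mem_open (Set.mem_univ x) isOpen_univ
  let A := Γ(X, U)
  let φ : R →+* A := (X.presheaf.map (homOfLE (le_top : U ≤ ⊤)).op).hom.comp (Coh.toGlobal f)
  let _ : Algebra R A := φ.toAlgebra
  have hi : hU.fromSpec ≫ f = Spec.map (CommRingCat.ofHom (algebraMap R A)) := by
    have h1 : CommRingCat.ofHom (algebraMap R A) =
        (Scheme.ΓSpecIso (CommRingCat.of R)).inv ≫ f.appTop ≫ X.presheaf.map (homOfLE (le_top : U ≤ ⊤)).op := rfl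
    have h3 : X.toSpecΓ ≫ Spec.map f.appTop ≫ Spec.map (Scheme.ΓSpecIso (CommRingCat.of R)).inv = f := by
      rw [← Scheme.toSpecΓ_naturality_assoc, toSpecΓ_SpecMap_ΓSpecIso_inv, Category.comp_id]
    rw [h1, Spec.map_comp, Spec.map_comp, Category.assoc, ← hU.fromSpec_toSpecΓ, Category.assoc, h3]
  let _ : Algebra A B := (e.hom.hom.comp (X.presheaf.germ U x hxU).hom).toAlgebra
  have htow : IsScalarTower R A B := by
    refine IsScalarTower.of_algebraMap_eq' ?_
    rw [← he]
    ext r
    change e.hom.hom ((X.presheaf.germ ⊤ x trivial).hom (Coh.toGlobal f r)) =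
      e.hom.hom ((X.presheaf.germ U x hxU).hom ((X.presheaf.map (homOfLE (le_top : U ≤ ⊤)).op).hom
        (Coh.toGlobal f r)))
    congr 1
    exact (TopCat.Presheaf.germ_res_apply X.presheaf (homOfLE (le_top : U ≤ ⊤)) x hxU _).symm
  have hloc : IsLocalization (hU.primeIdealOf ⟨x, hxU⟩).asIdeal.primeCompl B := by
    let _ : Algebra A (X.presheaf.stalk x) := X.presheaf.algebra_section_stalk (⟨x, hxU⟩ : U)
    have h1 : IsLocalization.AtPrime (X.presheaf.stalk x) (hU.primeIdealOf ⟨x, hxU⟩).asIdeal :=
      hU.isLocalization_stalk ⟨x, hxU⟩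
    let e' : X.presheaf.stalk x ≃ₐ[A] B :=
      { e.commRingCatIsoToRingEquiv with commutes' := fun a => rfl }
    exact IsLocalization.isLocalization_of_algEquiv _ e'
  have hnt : Nontrivial (F ⊗[R] A) := by
    let ψ : F ⊗[R] A →ₐ[F] F ⊗[R] B :=
      Algebra.TensorProduct.map (AlgHom.id F F) (IsScalarTower.toAlgHom R A B)
    exact ψ.toRingHom.domain_nontrivial
  have hd := isDomain_tensor_affine R f F A hU.fromSpec hi
  exact isDomain_tensor_localization R F A B (hU.primeIdealOf ⟨x, hxU⟩).asIdeal.primeCompl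

end Groth.Agent.K382.StalkDomain
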