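import Groth.Agent.Models.K382.GenInt
import Groth.Agent.Models.K382.StalkDomain
import Groth.Agent.Models.K382.DvrTensor
import Groth.Agent.S17018
import Mathlib.FieldTheory.LinearDisjoint

/-!
# The local ring at the generic point of a component of the special fibre, tensored with the algebraic closure

See `isField_tensor` and `isDomain_tensor`.
-/

set_option autoImplicit false
universe u

open CategoryTheory CategoryTheory.Limits AlgebraicGeometry
open scoped TensorProduct

namespace Groth.Agent.K382.GenField

/-- For a discrete valuation ring `B` over `R` in which the maximal ideal of `R` generates the maximal ideal: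
`F ⊗ B` is a field if it is a domain, for `F` an algebraic extension of the fraction field. -/
theorem isField_of_isDomain (R : Type u) [CommRing R] [IsDomain R] [IsDiscreteValuationRing R]
    (B : Type u) [CommRing B] [IsDomain B] [IsDiscreteValuationRing B] [Algebra R B]
    (hB : IsLocalRing.maximalIdeal B = Ideal.map (algebraMap R B) (IsLocalRing.maximalIdeal R))
    (F : Type u) [Field F] [Algebra R F] (hF : Function.Injective (algebraMap R F)) [Algebra.IsAlgebraic R F]
    [IsDomain (F ⊗[R] B)] : IsField (F ⊗[R] B) := by
  obtain ⟨ϖ, hϖ⟩ := IsDiscreteValuationRing.exists_irreducible R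
  have hBirr : Irreducible (algebraMap R B ϖ) := by
    rw [IsDiscreteValuationRing.irreducible_iff_uniformizer, hB, hϖ.maximalIdeal_eq, Ideal.map_span,
      Set.image_singleton]
  have hBinj : Function.Injective (algebraMap R B) := by
    rw [injective_iff_map_eq_zero]
    intro a ha
    by_contra hne
    obtain ⟨n, u, rfl⟩ := IsDiscreteValuationRing.eq_unit_mul_pow_irreducible hne hϖ
    rw [map_mul, map_pow] at ha
    exact mul_ne_zero (u.isUnit.map (algebraMap R B)).ne_zero (pow_ne_zero n hBirr.ne_zero) ha
  have hfaith : FaithfulSMul R B := (faithfulSMul_iff_algebraMap_injective R B).mpr hBinj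
  have hflB : Module.Flat R B := DvrTensor.flat R B hBinj
  let ι : B →+* F ⊗[R] B := (Algebra.TensorProduct.includeRight (R := R) (A := F) (B := B)).toRingHom
  let _ : Algebra B (F ⊗[R] B) := Algebra.TensorProduct.rightAlgebra
  have halg : Algebra.IsAlgebraic B (F ⊗[R] B) := by
    have h1 : Algebra.IsAlgebraic B (B ⊗[R] F) := inferInstance
    have hc : ∀ b : B, Algebra.TensorProduct.comm R B F (algebraMap B (B ⊗[R] F) b) =
        algebraMap B (F ⊗[R] B) b := by
      intro b
      change Algebra.TensorProduct.comm R B F (b ⊗ₜ[R] (1 : F)) = (1 : F) ⊗ₜ[R] b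
      simp
    let e : B ⊗[R] F ≃ₐ[B] F ⊗[R] B :=
      { Algebra.TensorProduct.comm R B F with commutes' := hc }
    exact Algebra.IsAlgebraic.of_injective e.symm.toAlgHom e.symm.injective
  refine ⟨⟨0, 1, zero_ne_one⟩, mul_comm, ?_⟩
  intro x hx
  -- the ideal of `x` meets `B` in a nonzero ideal
  have h1 := Ideal.comap_ne_bot_of_algebraic_mem (I := Ideal.span {x}) hx (Ideal.mem_span_singleton_self x)
    (Algebra.IsAlgebraic.isAlgebraic (R := B) x)
  obtain ⟨b, hb, hb0⟩ := Submodule.exists_mem_ne_zero_of_ne_bot h1
  obtain ⟨n, u, rfl⟩ := IsDiscreteValuationRing.eq_unit_mul_pow_irreducible hb0 hBirr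
  have h2 : IsUnit (algebraMap B (F ⊗[R] B) ((u : B) * algebraMap R B ϖ ^ n)) := by
    rw [map_mul, map_pow]
    refine (u.isUnit.map _).mul (IsUnit.pow n ?_)
    have h3 : algebraMap B (F ⊗[R] B) (algebraMap R B ϖ) = (algebraMap R F ϖ) ⊗ₜ[R] (1 : B) := by
      change (1 : F) ⊗ₜ[R] (algebraMap R B ϖ) = _
      rw [Algebra.algebraMap_eq_smul_one, Algebra.algebraMap_eq_smul_one, TensorProduct.smul_tmul]
    rw [h3]
    have h4 : IsUnit (algebraMap R F ϖ) := by
      rw [isUnit_iff_ne_zero]
      exact fun h => hϖ.ne_zero (hF (h.trans (map_zero _).symm))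
    exact h4.map (Algebra.TensorProduct.includeLeft (R := R) (S := R) (A := F) (B := B))
  have h3 : algebraMap B (F ⊗[R] B) ((u : B) * algebraMap R B ϖ ^ n) ∈ Ideal.span {x} := hb
  have h4 := Ideal.eq_top_of_isUnit_mem _ h3 h2
  have h5 : (1 : F ⊗[R] B) ∈ Ideal.span {x} := h4 ▸ Submodule.mem_top
  rw [Ideal.mem_span_singleton] at h5
  obtain ⟨y, hy⟩ := h5
  exact ⟨y, hy.symm⟩

variable
    (R : Type u) [CommRing R] [IsDomain R] [IsDiscreteValuationRing R]
    [IsAlgClosed (IsLocalRing.ResidueField R)]
    (X : Scheme.{u}) (f : X ⟶ Spec (CommRingCat.of R)) [IsProper f] [Flat f]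
    (XK : Scheme.{u}) (gK : XK ⟶ X) (fK : XK ⟶ Spec (CommRingCat.of (FractionRing R)))
    (hK : IsPullback gK fK f (Spec.map (CommRingCat.ofHom (algebraMap R (FractionRing R)))))
    [Smooth fK]
    (Xs : Scheme.{u}) (gs : Xs ⟶ X) (fs : Xs ⟶ Spec (CommRingCat.of (IsLocalRing.ResidueField R)))
    (hs : IsPullback gs fs f (Spec.map (CommRingCat.ofHom (IsLocalRing.residue R))))
    [ConnectedSpace Xs] [IsReduced Xs]
    (x : X)
    (B : Type u) [CommRing B] [IsDomain B] [IsDiscreteValuationRing B] [Algebra R B]
    (e : X.presheaf.stalk x ≅ CommRingCat.of B)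
    (he : e.hom.hom.comp ((X.presheaf.germ ⊤ x trivial).hom.comp (Coh.toGlobal f)) =
      algebraMap R B)
    (hB : IsLocalRing.maximalIdeal B = Ideal.map (algebraMap R B) (IsLocalRing.maximalIdeal R))

include hK hs e he hB

theorem isDomain_tensor (F : Type u) [Field F] [Algebra R F] [Algebra (FractionRing R) F]
    [IsScalarTower R (FractionRing R) F] : IsDomain (F ⊗[R] B) := by
  have hgc : GeometricallyConnected f := GenInt.geometricallyConnected f hs
  have hint := GenInt.isIntegral_baseChange f (FractionRing R) gK fK hK F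
  obtain ⟨ϖ, hϖ⟩ := IsDiscreteValuationRing.exists_irreducible R
  have hBirr : Irreducible (algebraMap R B ϖ) := by
    rw [IsDiscreteValuationRing.irreducible_iff_uniformizer, hB, hϖ.maximalIdeal_eq, Ideal.map_span,
      Set.image_singleton]
  have hBinj : Function.Injective (algebraMap R B) := by
    rw [injective_iff_map_eq_zero]
    intro a ha
    by_contra hne
    obtain ⟨n, u, rfl⟩ := IsDiscreteValuationRing.eq_unit_mul_pow_irreducible hne hϖ
    rw [map_mul, map_pow] at ha
    exact mul_ne_zero (u.isUnit.map (algebraMap R B)).ne_zero (pow_ne_zero n hBirr.ne_zero) ha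
  have hflB : Module.Flat R B := DvrTensor.flat R B hBinj
  have hF : Function.Injective (algebraMap R F) := by
    rw [IsScalarTower.algebraMap_eq R (FractionRing R) F]
    exact (algebraMap (FractionRing R) F).injective.comp (IsFractionRing.injective R (FractionRing R))
  have hnt : Nontrivial (F ⊗[R] B) :=
    (Algebra.TensorProduct.includeRight_injective (A := F) (B := B) hF).nontrivial
  exact StalkDomain.isDomain_tensor_stalk R f F x B e he

theorem isField_tensor : IsField (AlgebraicClosure (FractionRing R) ⊗[R] B) := by
  have hd := isDomain_tensor R X f XK gK fK hK Xs gs fs hs x B e he hB (AlgebraicClosure (FractionRing R))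
  have hF : Function.Injective (algebraMap R (AlgebraicClosure (FractionRing R))) := by
    rw [IsScalarTower.algebraMap_eq R (FractionRing R) (AlgebraicClosure (FractionRing R))]
    exact (algebraMap (FractionRing R) _).injective.comp (IsFractionRing.injective R (FractionRing R))
  have h2 : Algebra.IsAlgebraic R (FractionRing R) :=
    IsLocalization.isAlgebraic (FractionRing R) (nonZeroDivisors R)
  have h3 : Algebra.IsAlgebraic R (AlgebraicClosure (FractionRing R)) :=
    Algebra.IsAlgebraic.trans R (FractionRing R) _
  exact isField_of_isDomain R B hB (AlgebraicClosure (FractionRing R)) hF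

theorem isDiscreteValuationRing_tensor
    (R' : Type u) [CommRing R'] [IsDomain R'] [IsDiscreteValuationRing R'] [Algebra R R']
    (hinj : Function.Injective (algebraMap R R')) [IsLocalHom (algebraMap R R')]
    [Module.Finite (FractionRing R) (FractionRing R ⊗[R] R')] :
    ∃ _ : IsDomain (B ⊗[R] R'), IsDiscreteValuationRing (B ⊗[R] R') := by
  have halg := DvrTensor.isAlgebraic R R' hinj
  have hfs : FaithfulSMul R R' := (faithfulSMul_iff_algebraMap_injective R R').mpr hinj
  let F := AlgebraicClosure (FractionRing R)
  have hd : IsDomain (F ⊗[R] B) := isDomain_tensor R X f XK gK fK hK Xs gs fs hs x B e he hB F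
  have hF : Function.Injective (algebraMap R F) := by
    rw [IsScalarTower.algebraMap_eq R (FractionRing R) F]
    exact (algebraMap (FractionRing R) _).injective.comp (IsFractionRing.injective R (FractionRing R))
  have hFf : FaithfulSMul R F := (faithfulSMul_iff_algebraMap_injective R F).mpr hF
  let j : R' →ₐ[R] F := IsAlgClosed.lift
  have hj : Function.Injective j := by
    rw [injective_iff_map_eq_zero]
    intro a ha
    by_contra hne
    have h1 := Ideal.comap_ne_bot_of_algebraic_mem (I := RingHom.ker j) hne ha
      (Algebra.IsAlgebraic.isAlgebraic (R := R) a)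
    obtain ⟨b, hb, hb0⟩ := Submodule.exists_mem_ne_zero_of_ne_bot h1
    have h2 : j (algebraMap R R' b) = 0 := hb
    rw [j.commutes] at h2
    exact hb0 (hF (h2.trans (map_zero _).symm))
  obtain ⟨ϖ, hϖ⟩ := IsDiscreteValuationRing.exists_irreducible R
  have hBirr : Irreducible (algebraMap R B ϖ) := by
    rw [IsDiscreteValuationRing.irreducible_iff_uniformizer, hB, hϖ.maximalIdeal_eq, Ideal.map_span,
      Set.image_singleton]
  have hBinj : Function.Injective (algebraMap R B) := by
    rw [injective_iff_map_eq_zero]
    intro a ha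
    by_contra hne
    obtain ⟨n, u, rfl⟩ := IsDiscreteValuationRing.eq_unit_mul_pow_irreducible hne hϖ
    rw [map_mul, map_pow] at ha
    exact mul_ne_zero (u.isUnit.map (algebraMap R B)).ne_zero (pow_ne_zero n hBirr.ne_zero) ha
  have hflB : Module.Flat R B := DvrTensor.flat R B hBinj
  have hmap : Function.Injective (Algebra.TensorProduct.map j (AlgHom.id R B)) := by
    change Function.Injective (TensorProduct.map j.toLinearMap (LinearMap.id (R := R) (M := B)))
    exact Module.Flat.rTensor_preserves_injective_linearMap (M := B) j.toLinearMap hj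
  have hdom : IsDomain (B ⊗[R] R') := by
    have h1 : Function.Injective ((Algebra.TensorProduct.map j (AlgHom.id R B)).comp
        (Algebra.TensorProduct.comm R B R').toAlgHom) :=
      hmap.comp (Algebra.TensorProduct.comm R B R').injective
    exact h1.isDomain ((Algebra.TensorProduct.map j (AlgHom.id R B)).comp
        (Algebra.TensorProduct.comm R B R').toAlgHom).toRingHom
  exact ⟨hdom, DvrTensor.isDiscreteValuationRing R R' hinj B hB⟩

end Groth.Agent.K382.GenField
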