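import Groth.Agent.Models.K382.GenConn
import Groth.Agent.Sga7.H543.SpecFib
import Groth.Agent.S1297
import Groth.Agent.VarietyA.RegSmoothSch
import Groth.Agent.Ega1.GenPts
import Groth.Agent.S2821

/-!
# Proper flat families with connected and reduced special fibre over a discrete valuation ring

`f : X ⟶ Spec R` proper and flat over a discrete valuation ring `R` with algebraically closed residue field, with
connected and reduced special fibre:
* `exists_mul_eq`: a global function vanishing on the special fibre is divisible by the uniformizer;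
* `appTop_bijective`: the global functions on `X` are `R`;
* `geometricallyConnected`: `f` has geometrically connected fibres;
* `isIntegral_baseChange`: if the generic fibre is smooth then its base change to every field extension of the
  fraction field is integral.
-/

set_option autoImplicit false
universe u

open CategoryTheory CategoryTheory.Limits AlgebraicGeometry TopologicalSpace Opposite

namespace Groth.Agent.K382.GenInt

open Groth.Agent.Sga7.H543.SpecFib

section

variable {R : Type u} [CommRing R] [IsDomain R] [IsDiscreteValuationRing R]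
  {X : Scheme.{u}} (p : X ⟶ Spec (CommRingCat.of R)) [Flat p]

lemma eq_of_mul_eq {ϖ : R} (hϖ : ϖ ≠ 0) {V : X.Opens} (b b' : Γ(X, V))
    (h : b * X.presheaf.map (homOfLE (le_top : V ≤ ⊤)).op (fn p ϖ) =
      b' * X.presheaf.map (homOfLE (le_top : V ≤ ⊤)).op (fn p ϖ)) : b = b' := by
  apply TopCat.Presheaf.section_ext X.sheaf
  intro x hx
  have h1 := congrArg (X.presheaf.germ V x hx) h
  rw [map_mul, map_mul, TopCat.Presheaf.germ_res_apply] at h1
  have h2 := germ_fn_mem_nonZeroDivisors p hϖ x
  exact (mul_cancel_right_mem_nonZeroDivisors h2).mp h1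

/-- A global function vanishing on the special fibre is divisible by the uniformizer. -/
theorem exists_mul_eq {Z : Scheme.{u}} {j : Z ⟶ X}
    {q : Z ⟶ Spec (CommRingCat.of (IsLocalRing.ResidueField R))}
    (hj : IsPullback j q p (Spec.map (CommRingCat.ofHom (IsLocalRing.residue R))))
    {ϖ : R} (hϖ : Irreducible ϖ) (a : Γ(X, ⊤)) (ha : j.appTop a = 0) :
    ∃ b : Γ(X, ⊤), a = b * fn p ϖ := by
  have hci := isClosedImmersion_of_isPullback hj
  -- local solutions
  have hloc : ∀ U : X.affineOpens, ∃ b : Γ(X, U.1),
      X.presheaf.map (homOfLE (le_top : U.1 ≤ ⊤)).op a =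
        b * X.presheaf.map (homOfLE (le_top : U.1 ≤ ⊤)).op (fn p ϖ) := by
    intro U
    have h1 := ker_ideal hj hϖ.maximalIdeal_eq U
    rw [Scheme.Hom.ker_apply] at h1
    have h2 : X.presheaf.map (homOfLE (le_top : U.1 ≤ ⊤)).op a ∈ RingHom.ker (j.app U.1).hom := by
      rw [RingHom.mem_ker]
      have h3 := j.naturality (homOfLE (le_top : U.1 ≤ ⊤)).op
      have h4 := congr(($h3).hom a)
      change (j.app U.1).hom ((X.presheaf.map (homOfLE (le_top : U.1 ≤ ⊤)).op).hom a) =
        (Z.presheaf.map _).hom ((j.app ⊤).hom a) at h4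
      have h5 : (j.app ⊤).hom a = 0 := ha
      exact h4.trans (by rw [h5, map_zero])
    rw [h1, Ideal.mem_span_singleton'] at h2
    obtain ⟨b, hb⟩ := h2
    exact ⟨b, hb.symm⟩
  choose b hb using hloc
  have hcov : (⊤ : X.Opens) ≤ ⨆ U : X.affineOpens, U.1 := by
    intro x _
    obtain ⟨_, ⟨U, hU, rfl⟩, hxU, -⟩ := X.isBasis_affineOpens.exists_subset_of_mem_open
      (Set.mem_univ x) isOpen_univ
    exact Opens.mem_iSup.mpr ⟨⟨U, hU⟩, hxU⟩
  have hcomp : TopCat.Presheaf.IsCompatible X.sheaf.1 (fun U : X.affineOpens => U.1) b := by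
    intro U V
    apply eq_of_mul_eq p hϖ.ne_zero
    have e1 := congrArg (X.presheaf.map (Opens.infLELeft U.1 V.1).op) (hb U)
    have e2 := congrArg (X.presheaf.map (Opens.infLERight U.1 V.1).op) (hb V)
    rw [map_mul] at e1 e2
    simp only [← ConcreteCategory.comp_apply, ← Functor.map_comp] at e1 e2
    exact e1.symm.trans e2
  obtain ⟨s, hs⟩ : ∃ s : Γ(X, ⊤), ∀ U : X.affineOpens,
      X.presheaf.map (homOfLE (le_top : U.1 ≤ ⊤)).op s = b U := by
    obtain ⟨s, hs, -⟩ := X.sheaf.existsUnique_gluing' (fun U : X.affineOpens => U.1) ⊤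
      (fun U => homOfLE le_top) hcov b hcomp
    exact ⟨s, hs⟩
  refine ⟨s, ?_⟩
  apply X.sheaf.eq_of_locally_eq' (fun U : X.affineOpens => U.1) ⊤ (fun U => homOfLE le_top) hcov
  intro U
  have h3 := hs U
  change X.presheaf.map (homOfLE (le_top : U.1 ≤ ⊤)).op a =
    X.presheaf.map (homOfLE (le_top : U.1 ≤ ⊤)).op (s * fn p ϖ)
  rw [map_mul, hb U, h3]

end

section

variable {R : Type u} [CommRing R] [IsDomain R] [IsDiscreteValuationRing R]
  [IsAlgClosed (IsLocalRing.ResidueField R)]
  {X : Scheme.{u}} (p : X ⟶ Spec (CommRingCat.of R)) [IsProper p] [Flat p]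
  {Xs : Scheme.{u}} {gs : Xs ⟶ X} {fs : Xs ⟶ Spec (CommRingCat.of (IsLocalRing.ResidueField R))}
  (hs : IsPullback gs fs p (Spec.map (CommRingCat.ofHom (IsLocalRing.residue R))))
  [ConnectedSpace Xs] [IsReduced Xs]

include hs

/-- The global functions on the special fibre are the constants. -/
theorem appTop_surjective_special : Function.Surjective fs.appTop := by
  have hp : IsProper fs := MorphismProperty.of_isPullback hs ‹_›
  let k := IsLocalRing.ResidueField R
  let alg : Algebra k Γ(Xs, ⊤) := (VarietyA.GlobalSections.gl fs).hom.toAlgebra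
  have hint : Algebra.IsIntegral k Γ(Xs, ⊤) := by
    refine ⟨fun x => ?_⟩
    have h1 : fs.appTop.hom.IsIntegral := isIntegral_appTop_of_universallyClosed fs
    have h2 : (VarietyA.GlobalSections.gl fs).hom.IsIntegral := by
      change (fs.appTop.hom.comp (Scheme.ΓSpecIso (CommRingCat.of k)).inv.hom).IsIntegral
      refine RingHom.IsIntegral.trans _ _ ?_ h1
      exact RingHom.isIntegral_of_surjective _
        (ConcreteCategory.bijective_of_isIso (Scheme.ΓSpecIso (CommRingCat.of k)).inv).2
    exact h2 x
  have hne : Nonempty (⊤ : Xs.Opens) := ⟨⟨Classical.arbitrary Xs, trivial⟩⟩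
  have : Nontrivial Γ(Xs, ⊤) := Scheme.component_nontrivial Xs ⊤
  have h3 := VarietyA.GlobalSections.algebraMap_bijective_of_connected (K := k) (R := Γ(Xs, ⊤))
    (fun e he => VarietyA.GlobalSections.idem_of_connected Xs e he)
  intro y
  obtain ⟨c, hc⟩ := h3.2 y
  exact ⟨(Scheme.ΓSpecIso (CommRingCat.of k)).inv.hom c, hc⟩

/-- The global functions on `X` are the constants. -/
theorem appTop_bijective : Function.Bijective p.appTop := by
  obtain ⟨ϖ, hϖ⟩ := IsDiscreteValuationRing.exists_irreducible R
  let φ : R →+* Γ(X, ⊤) := p.appTop.hom.comp (Scheme.ΓSpecIso (CommRingCat.of R)).inv.hom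
  have hx : Nonempty X := ⟨gs (Classical.arbitrary Xs)⟩
  have hinj : Function.Injective φ := by
    rw [injective_iff_map_eq_zero]
    intro a ha
    by_contra hne
    have h1 := germ_fn_mem_nonZeroDivisors p hne (Classical.arbitrary X)
    have h2 : fn p a = 0 := ha
    rw [h2, map_zero] at h1
    exact (zero_notMem_nonZeroDivisors) h1
  have hfin : φ.Finite := S1297.finite_toGlobal R X p
  have hsurj : Function.Surjective φ := by
    let _ : Algebra R Γ(X, ⊤) := φ.toAlgebra
    have : Module.Finite R Γ(X, ⊤) := hfin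
    have h1 : LinearMap.range (Algebra.linearMap R Γ(X, ⊤)) = ⊤ := by
      refine top_le_iff.mp (Submodule.le_of_le_smul_of_le_jacobson_bot (I := IsLocalRing.maximalIdeal R)
        (Module.Finite.fg_top (R := R) (M := Γ(X, ⊤)))
        (IsLocalRing.jacobson_eq_maximalIdeal ⊥ bot_ne_top).ge ?_)
      intro a _
      obtain ⟨c, hc⟩ := appTop_surjective_special p hs (gs.appTop a)
      obtain ⟨r, hr⟩ := IsLocalRing.residue_surjective
        ((Scheme.ΓSpecIso (CommRingCat.of (IsLocalRing.ResidueField R))).hom.hom c)
      have h2 : gs.appTop (φ r) = gs.appTop a := by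
        rw [← hc]
        have h3 : (Scheme.ΓSpecIso (CommRingCat.of R)).inv ≫ p.appTop ≫ gs.appTop =
            CommRingCat.ofHom (IsLocalRing.residue R) ≫
              (Scheme.ΓSpecIso (CommRingCat.of (IsLocalRing.ResidueField R))).inv ≫ fs.appTop := by
          rw [← Scheme.Hom.comp_appTop, hs.w, Scheme.Hom.comp_appTop,
            ← Scheme.ΓSpecIso_inv_naturality_assoc]
        have h4 := congr(($h3).hom r)
        have h5 : c = (Scheme.ΓSpecIso (CommRingCat.of (IsLocalRing.ResidueField R))).inv.hom
            (IsLocalRing.residue R r) := by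
          rw [hr]
          exact ((Scheme.ΓSpecIso (CommRingCat.of
            (IsLocalRing.ResidueField R))).hom_inv_id_apply c).symm
        rw [h5]
        exact h4
      obtain ⟨b, hb⟩ := exists_mul_eq p hs hϖ (a - φ r) (by rw [map_sub, h2, sub_self])
      have h6 : a = φ r + ϖ • b := by
        rw [Algebra.smul_def, mul_comm]
        change a = φ r + b * fn p ϖ
        rw [← hb]; ring
      rw [h6]
      refine Submodule.add_mem_sup ⟨r, rfl⟩ (Submodule.smul_mem_smul ?_ trivial)
      rw [hϖ.maximalIdeal_eq]
      exact Ideal.mem_span_singleton_self ϖ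
    intro y
    have : y ∈ LinearMap.range (Algebra.linearMap R Γ(X, ⊤)) := h1 ▸ Submodule.mem_top
    obtain ⟨r, hr⟩ := this
    exact ⟨r, hr⟩
  have h7 : φ ∘ (Scheme.ΓSpecIso (CommRingCat.of R)).hom.hom = p.appTop := by
    funext x
    change ((Scheme.ΓSpecIso (CommRingCat.of R)).hom ≫ (Scheme.ΓSpecIso (CommRingCat.of R)).inv ≫
      p.appTop).hom x = _
    simp
  rw [← h7]
  exact Function.Bijective.comp ⟨hinj, hsurj⟩
    (Scheme.ΓSpecIso (CommRingCat.of R)).commRingCatIsoToRingEquiv.bijective

/-- The fibres are geometrically connected. -/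
theorem geometricallyConnected : GeometricallyConnected p := by
  have h1 : IsIso p.appTop := by
    rw [ConcreteCategory.isIso_iff_bijective]
    exact appTop_bijective p hs
  have hc : CompactSpace X := (quasiCompact_iff_compactSpace p).mp inferInstance
  have hq : QuasiSeparatedSpace X := (quasiSeparated_iff_quasiSeparatedSpace p).mp inferInstance
  refine (S2431.result p (fun U => ?_)).2
  obtain ⟨r, hr⟩ := Sga67.DVRConn.exists_eq_basicOpen (R := R) U
  rw [hr]
  exact Sga67.DVRConn.isIso_app_basicOpen p h1 r

end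

/-- A smooth connected scheme over a field is integral. -/
theorem isIntegral_of_smooth {k : Type u} [Field k] {X : Scheme.{u}} (f : X ⟶ Spec (CommRingCat.of k))
    [Smooth f] [ConnectedSpace X] : IsIntegral X := by
  have := LocallyOfFiniteType.isLocallyNoetherian f
  refine (Groth.Agent.Ega1.GenPts.isIntegral_iff X).2 ⟨inferInstance, fun x => ?_⟩
  have : IsRegularLocalRing (X.presheaf.stalk x) := by
    apply Groth.Agent.VarietyA.RegSmoothSch.isRegularLocalRing_stalk_of_mem_smoothLocus f
    rw [Scheme.Hom.smoothLocus_eq_top]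
    trivial
  exact (Groth.Agent.S2821.result (X.presheaf.stalk x)).1

/-- A geometrically connected scheme over a domain with smooth generic fibre: its base change to every extension
of the fraction field is integral. -/
theorem isIntegral_baseChange {R : Type u} [CommRing R] {X XK : Scheme.{u}}
    (p : X ⟶ Spec (CommRingCat.of R)) [GeometricallyConnected p]
    (K : Type u) [Field K] [Algebra R K] (gK : XK ⟶ X) (fK : XK ⟶ Spec (CommRingCat.of K))
    (hK : IsPullback gK fK p (Spec.map (CommRingCat.ofHom (algebraMap R K)))) [Smooth fK]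
    (F : Type u) [Field F] [Algebra R F] [Algebra K F] [IsScalarTower R K F] :
    IsIntegral (pullback p (Spec.map (CommRingCat.ofHom (algebraMap R F)))) := by
  let i : Spec (CommRingCat.of F) ⟶ Spec (CommRingCat.of K) := Spec.map (CommRingCat.ofHom (algebraMap K F))
  have h1 : IsPullback (pullback.fst fK i) (pullback.snd fK i) fK i := IsPullback.of_hasPullback _ _
  have h2 : IsPullback (pullback.fst fK i ≫ gK) (pullback.snd fK i) p
      (i ≫ Spec.map (CommRingCat.ofHom (algebraMap R K))) := h1.paste_horiz hK
  have h3 : i ≫ Spec.map (CommRingCat.ofHom (algebraMap R K)) = Spec.map (CommRingCat.ofHom (algebraMap R F)) := by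
    rw [← Spec.map_comp, ← CommRingCat.ofHom_comp, ← IsScalarTower.algebraMap_eq]
  rw [h3] at h2
  have h4 : ConnectedSpace ↥(pullback fK i) :=
    GeometricallyConnected.geometrically_connectedSpace (f := p) (K := F) _ _ _ h2
  have h5 : IsIntegral (pullback fK i) := isIntegral_of_smooth (pullback.snd fK i)
  have h6 : Nonempty ↥(pullback p (Spec.map (CommRingCat.ofHom (algebraMap R F)))) :=
    ⟨h2.isoPullback.hom (Classical.arbitrary _)⟩
  exact isIntegral_of_isOpenImmersion h2.isoPullback.inv

end Groth.Agent.K382.GenInt
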