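import Groth.Agent.CohqB.LocBaseVan
import Groth.Agent.CurvesC.CurveNum
import Groth.Agent.CurvesC.DualDeg
import Groth.Agent.Lift.K695.GrFlat

/-!
# `H^1(O)` of closed subschemes of schemes proper over a local ring with small closed fibre
-/

set_option autoImplicit false
universe u
open CategoryTheory CategoryTheory.Limits AlgebraicGeometry

namespace Groth.Agent.K382.H1Closed

open Groth.Agent.CohqB.HSeqMod

/-- `X` proper over a Noetherian local ring with closed fibre of dimension at most one and `H^1(X, O_X) = 0`: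
then `H^1(Z, O_Z) = 0` for every closed subscheme `Z`. -/
theorem subsingleton {A : Type u} [CommRing A] [IsNoetherianRing A] [IsLocalRing A] {X : Scheme.{u}}
    (f : X ⟶ Spec (CommRingCat.of A)) [IsProper f]
    (hd : topologicalKrullDim ↥(f ⁻¹' {IsLocalRing.closedPoint A}) ≤ 1)
    (h : Subsingleton (Coh.HH X (Coh.structureModule X) 1)) {Z : Scheme.{u}} (i : Z ⟶ X) [IsClosedImmersion i] :
    Subsingleton (Coh.HH Z (Coh.structureModule Z) 1) := by
  have h1 : IsLocallyNoetherian X := LocallyOfFiniteType.isLocallyNoetherian f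
  have hS := Groth.Agent.CurvesC.DualDeg.shortExact_ideal i.ker
  have h2 : Subsingleton (Coh.HH X (ClSub.idealMod i.ker) 2) :=
    Groth.Agent.CohqB.LocBaseVan.subsingleton_HH f 1 (by exact_mod_cast hd) _
      (Groth.Agent.CurvesC.DualDeg.isCoh_idealMod i.ker) 2 (by norm_num)
  have h3 : Function.Surjective (hmap (ClSub.toSubscheme i.ker) 1) := by
    intro y
    exact exact₃ hS 1 y (Subsingleton.elim _ _)
  have h4 : Subsingleton (Coh.HH X (ClSub.quotMod i.ker) 1) := h3.subsingleton
  obtain ⟨e⟩ := K695.GrFlat.nonempty_quotMod_iso i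
  have h5 : Subsingleton (Coh.HH X ((Scheme.Modules.pushforward i).obj (Coh.structureModule Z)) 1) :=
    Groth.Agent.CohqA.DirectSum.subsingleton_of_iso e 1 h4
  exact (Groth.Agent.CurvesC.CurveNum.hhPush i (Coh.structureModule Z) 1).toEquiv.subsingleton

end Groth.Agent.K382.H1Closed
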