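import Groth.Agent.S0506
import Groth.Agent.S0507
import Groth.Agent.S0508
import Groth.Agent.S0509
import Groth.Agent.Hensel.LocalSplit
import Groth.Agent.Hensel.Lazard
import Groth.Agent.Lefpen.H708.Trdeg
import Groth.Agent.UnramB.IntHensel
import Mathlib.RingTheory.Etale.Basic
import Mathlib.RingTheory.Ideal.GoingUp

/-!
# Henselization of a local ring of a finite algebra

`A` local with henselization `S`, `B₀` a finite `A`-algebra, `B` its localization at a prime `q` over `𝔪_A`.
* `exists_henselization`: a henselization `C` of `B` which is finite over `S`.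
* `injective`: `S → C` is injective if `A` is a domain, `S` is a domain and `B₀` is a domain containing `A`.
-/

set_option autoImplicit false
universe u

open TensorProduct IsLocalRing

namespace Groth.Agent.K382.HensFin

section Cong

variable {A B₀ S : Type u} [CommRing A] [IsLocalRing A] [CommRing B₀] [Algebra A B₀]
  [CommRing S] [IsLocalRing S] [Algebra A S] [IsLocalHom (algebraMap A S)] [Hensel.IsHenselization A S]

/-- Elements of `S ⊗ B₀` are congruent to elements of `B₀` modulo `𝔪_S`. -/
theorem exists_congr (x : S ⊗[A] B₀) : ∃ b : B₀,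
    x - (1 : S) ⊗ₜ[A] b ∈ (maximalIdeal S).map (algebraMap S (S ⊗[A] B₀)) := by
  induction x using TensorProduct.induction_on with
  | zero => exact ⟨0, by simp⟩
  | tmul s b =>
    obtain ⟨r, hr⟩ := (Groth.Agent.S0508.result A S).surjective (residue S s)
    obtain ⟨a, rfl⟩ := residue_surjective r
    rw [ResidueField.map_residue, ← sub_eq_zero, ← map_sub, residue_eq_zero_iff] at hr
    refine ⟨a • b, ?_⟩
    have h1 : s ⊗ₜ[A] b - (1 : S) ⊗ₜ[A] (a • b) =
        algebraMap S (S ⊗[A] B₀) (-(algebraMap A S a - s)) * ((1 : S) ⊗ₜ[A] b) := by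
      rw [TensorProduct.tmul_smul, TensorProduct.smul_tmul', Algebra.TensorProduct.algebraMap_apply,
        Algebra.TensorProduct.tmul_mul_tmul, one_mul, mul_one, neg_sub, Algebra.algebraMap_self,
        RingHom.id_apply, TensorProduct.sub_tmul, Algebra.algebraMap_eq_smul_one]
    rw [h1]
    exact Ideal.mul_mem_right _ _ (Ideal.mem_map_of_mem _ (neg_mem hr))
  | add x y hx hy =>
    obtain ⟨b, hb⟩ := hx
    obtain ⟨c, hc⟩ := hy
    refine ⟨b + c, ?_⟩
    rw [TensorProduct.tmul_add, add_sub_add_comm]
    exact add_mem hb hc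

/-- A prime of `S ⊗ B₀` over `𝔪_S` is determined by its contraction to `B₀`. -/
theorem prime_unique (P Q : Ideal (S ⊗[A] B₀)) (hP : maximalIdeal S ≤ P.comap (algebraMap S (S ⊗[A] B₀)))
    (hQ : maximalIdeal S ≤ Q.comap (algebraMap S (S ⊗[A] B₀)))
    (h : ∀ b : B₀, (1 : S) ⊗ₜ[A] b ∈ P ↔ (1 : S) ⊗ₜ[A] b ∈ Q) : P = Q := by
  ext x
  obtain ⟨b, hb⟩ := exists_congr x
  have h1 : x - (1 : S) ⊗ₜ[A] b ∈ P := Ideal.map_le_iff_le_comap.2 hP hb
  have h2 : x - (1 : S) ⊗ₜ[A] b ∈ Q := Ideal.map_le_iff_le_comap.2 hQ hb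
  rw [← sub_add_cancel x ((1 : S) ⊗ₜ[A] b), Ideal.add_mem_iff_right _ h1, Ideal.add_mem_iff_right _ h2, h]

end Cong

/-- A local ring at a maximal ideal of a finite algebra over a Henselian local ring is a quotient. -/
theorem surjective_atPrime {S C₀ : Type u} [CommRing S] [HenselianLocalRing S] [CommRing C₀] [Algebra S C₀]
    [Module.Finite S C₀] (n : Ideal C₀) [n.IsMaximal] :
    Function.Surjective (algebraMap C₀ (Localization.AtPrime n)) := by
  obtain ⟨e, he, hen, hem⟩ := Hensel.LocalSplit.exists_isIdempotentElem_of_isMaximal S n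
  have he' : (1 - e) ∈ n := by
    have h1 : e * (1 - e) ∈ n := by
      have : e * (1 - e) = 0 := by rw [mul_sub, mul_one, he.eq, sub_self]
      rw [this]
      exact zero_mem _
    exact (Ideal.IsPrime.mem_or_mem inferInstance h1).resolve_left hen
  have hmap1 : algebraMap C₀ (Localization.AtPrime n) (1 - e) = 0 := by
    have hu : IsUnit (algebraMap C₀ (Localization.AtPrime n) e) :=
      IsLocalization.map_units _ (⟨e, hen⟩ : n.primeCompl)
    have h1 : algebraMap C₀ (Localization.AtPrime n) e *
        algebraMap C₀ (Localization.AtPrime n) (1 - e) = 0 := by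
      rw [← map_mul, mul_sub, mul_one, he.eq, sub_self, map_zero]
    exact (hu.mul_right_eq_zero).1 h1
  intro y
  obtain ⟨c, s, rfl⟩ := IsLocalization.exists_mk'_eq n.primeCompl y
  have hu : IsUnit ((s : C₀) * e + (1 - e)) := by
    by_contra hcon
    obtain ⟨M, hM, hxM⟩ := exists_max_ideal_of_mem_nonunits hcon
    by_cases hMn : M = n
    · subst hMn
      have h1 := (Ideal.add_mem_iff_left M he').1 hxM
      rcases Ideal.IsPrime.mem_or_mem inferInstance h1 with h2 | h2
      · exact s.2 h2
      · exact hen h2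
    · have h1 := hem M hM hMn
      have h2 : (1 - e) ∈ M := (Ideal.add_mem_iff_right M (M.mul_mem_left _ h1)).1 hxM
      apply hM.ne_top
      rw [Ideal.eq_top_iff_one]
      have := M.add_mem h1 h2
      rwa [add_sub_cancel] at this
  obtain ⟨u, hu⟩ := hu
  refine ⟨c * (↑u⁻¹ * e), ?_⟩
  rw [eq_comm, IsLocalization.mk'_eq_iff_eq_mul, ← map_mul]
  have h3 : c * (↑u⁻¹ * e) * s = c * (↑u⁻¹ * ((s : C₀) * e + (1 - e))) - c * (↑u⁻¹ * (1 - e)) := by ring
  rw [h3, ← hu, Units.inv_mul, mul_one, map_sub, map_mul _ c (↑u⁻¹ * (1 - e)), map_mul _ _ (1 - e), hmap1]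
  simp

section Main

variable (A B₀ B S : Type u) [CommRing A] [IsLocalRing A] [CommRing B₀] [Algebra A B₀] [Module.Finite A B₀]
  (q : Ideal B₀) [q.IsPrime] (hq : q.comap (algebraMap A B₀) = maximalIdeal A)
  [CommRing B] [IsLocalRing B] [Algebra B₀ B] [Algebra A B] [IsScalarTower A B₀ B]
  [IsLocalization.AtPrime B q]
  [CommRing S] [IsLocalRing S] [Algebra A S] [IsLocalHom (algebraMap A S)] [Hensel.IsHenselization A S]

include hq in
omit [Module.Finite A B₀] [IsLocalRing B] in
theorem isLocalHom_of_atPrime : IsLocalHom (algebraMap A B) := by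
  constructor
  intro a ha
  by_contra h
  have h1 : a ∈ maximalIdeal A := h
  rw [← hq, Ideal.mem_comap] at h1
  rw [IsScalarTower.algebraMap_apply A B₀ B, IsLocalization.AtPrime.isUnit_to_map_iff B q] at ha
  exact ha h1

include hq in
/-- The henselization of `B`, finite over the henselization of `A`. -/
theorem exists_henselization : ∃ (C : Type u) (_ : CommRing C) (_ : IsLocalRing C) (_ : Algebra B C)
    (_ : Algebra S C) (_ : Algebra A C) (_ : IsScalarTower A B C) (_ : IsScalarTower A S C)
    (_ : IsLocalHom (algebraMap B C)) (_ : IsLocalHom (algebraMap S C)),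
    Hensel.IsHenselization B C ∧ Module.Finite S C := by
  have hloc := isLocalHom_of_atPrime A B₀ B q hq
  let C₀ := S ⊗[A] B₀
  have hS : HenselianLocalRing S := Hensel.IsHenselization.henselian (R := A)
  -- the universal maps out of `C₀`
  have key : ∀ (T : Type u) [CommRing T] [HenselianLocalRing T] (f : B →+* T) (_ : IsLocalHom f),
      ∃ (φ : C₀ →+* T), φ.comp (algebraMap A C₀) = f.comp (algebraMap A B) ∧
        (∀ b : B₀, φ ((1 : S) ⊗ₜ b) = f (algebraMap B₀ B b)) ∧
        (∀ φ' : C₀ →+* T, (∀ b : B₀, φ' ((1 : S) ⊗ₜ b) = f (algebraMap B₀ B b)) → φ' = φ) ∧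
        maximalIdeal S ≤ ((maximalIdeal T).comap φ).comap (algebraMap S C₀) ∧
        ∀ b : B₀, (1 : S) ⊗ₜ[A] b ∈ (maximalIdeal T).comap φ ↔ b ∈ q := by
    intro T _ _ f hf
    have hfA : IsLocalHom (f.comp (algebraMap A B)) := inferInstance
    obtain ⟨g, hg, hguniq⟩ := Hensel.IsHenselization.universal (R := A) (S := S) T
      (f.comp (algebraMap A B)) hfA
    let _ : Algebra A T := (f.comp (algebraMap A B)).toAlgebra
    let g' : S →ₐ[A] T := ⟨g, fun a => RingHom.congr_fun hg a⟩
    let f' : B₀ →ₐ[A] T := ⟨f.comp (algebraMap B₀ B), fun a => by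
      change f (algebraMap B₀ B (algebraMap A B₀ a)) = f (algebraMap A B a)
      rw [← IsScalarTower.algebraMap_apply]⟩
    let φ : C₀ →ₐ[A] T := Algebra.TensorProduct.lift g' f' (fun _ _ => Commute.all _ _)
    have hφ1 : ∀ b : B₀, φ ((1 : S) ⊗ₜ b) = f (algebraMap B₀ B b) := by
      intro b
      rw [Algebra.TensorProduct.lift_tmul, map_one, one_mul]
      rfl
    have hφ2 : ∀ s : S, φ (s ⊗ₜ (1 : B₀)) = g s := by
      intro s
      rw [Algebra.TensorProduct.lift_tmul, map_one, mul_one]
      rfl
    refine ⟨φ.toRingHom, ?_, hφ1, ?_, ?_, ?_⟩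
    · ext a
      exact φ.commutes a
    · intro φ' h'
      have h1 : φ'.comp (algebraMap S C₀) = g := by
        apply hguniq
        ext a
        change φ' (algebraMap S C₀ (algebraMap A S a)) = f (algebraMap A B a)
        rw [IsScalarTower.algebraMap_apply A B₀ B, ← h']
        congr 1
        rw [Algebra.TensorProduct.algebraMap_apply, Algebra.algebraMap_self, RingHom.id_apply,
          Algebra.algebraMap_eq_smul_one, ← TensorProduct.smul_tmul', ← TensorProduct.tmul_smul,
          ← Algebra.algebraMap_eq_smul_one]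
      refine RingHom.ext fun x => ?_
      change φ' x = φ x
      induction x using TensorProduct.induction_on with
      | zero => rw [map_zero, map_zero]
      | tmul s b =>
        have h2 : s ⊗ₜ[A] b = (algebraMap S C₀ s) * ((1 : S) ⊗ₜ b) := by
          rw [Algebra.TensorProduct.algebraMap_apply, Algebra.TensorProduct.tmul_mul_tmul, one_mul,
            mul_one, Algebra.algebraMap_self, RingHom.id_apply]
        rw [h2, map_mul, map_mul, h', hφ1]
        congr 1
        rw [← RingHom.comp_apply, h1]
        exact (hφ2 s).symm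
      | add x y hx hy => rw [map_add, map_add, hx, hy]
    · intro s hs
      rw [Ideal.mem_comap, Ideal.mem_comap]
      have h1 : φ (algebraMap S C₀ s) = g s := hφ2 s
      change φ (algebraMap S C₀ s) ∈ maximalIdeal T
      rw [h1]
      rw [← Groth.Agent.S0507.result A S] at hs
      have h2 : (maximalIdeal A).map (algebraMap A S) ≤ (maximalIdeal T).comap g := by
        rw [Ideal.map_le_iff_le_comap]
        intro a ha
        rw [Ideal.mem_comap, Ideal.mem_comap]
        have h3 : g (algebraMap A S a) = f (algebraMap A B a) := RingHom.congr_fun hg a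
        rw [h3]
        have h4 : ¬ IsUnit (f.comp (algebraMap A B) a) := fun hu => ha (hfA.map_nonunit a hu)
        exact h4
      exact h2 hs
    · intro b
      rw [Ideal.mem_comap]
      change φ ((1 : S) ⊗ₜ b) ∈ maximalIdeal T ↔ _
      rw [hφ1, mem_maximalIdeal, mem_nonunits_iff, not_iff_comm]
      refine Iff.trans (IsLocalization.AtPrime.isUnit_to_map_iff B q b).symm ?_
      exact ⟨fun h => h.map f, fun h => hf.map_nonunit _ h⟩
  -- the prime
  have hHres : HenselianLocalRing (ResidueField B) := inferInstance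
  obtain ⟨φ₀, -, hφ₀1, -, hφ₀m, hφ₀q⟩ := key (ResidueField B) (residue B) inferInstance
  let n : Ideal C₀ := (maximalIdeal (ResidueField B)).comap φ₀
  have hn : n.IsPrime := Ideal.comap_isPrime _ _
  have hnS : n.comap (algebraMap S C₀) = maximalIdeal S := by
    apply le_antisymm
    · exact IsLocalRing.le_maximalIdeal (Ideal.IsPrime.ne_top (Ideal.comap_isPrime _ _))
    · exact hφ₀m
  have hnmax : n.IsMaximal := by
    apply Ideal.isMaximal_of_isIntegral_of_isMaximal_comap (R := S) n
    rw [hnS]
    infer_instance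
  have hsurj := surjective_atPrime (S := S) n
  let C := Localization.AtPrime n
  have huniq : ∀ (T : Type u) [CommRing T] [HenselianLocalRing T] (f : B →+* T) (_ : IsLocalHom f)
      (φ : C₀ →+* T), maximalIdeal S ≤ ((maximalIdeal T).comap φ).comap (algebraMap S C₀) →
      (∀ b : B₀, (1 : S) ⊗ₜ[A] b ∈ (maximalIdeal T).comap φ ↔ b ∈ q) → (maximalIdeal T).comap φ = n := by
    intro T _ _ f hf φ h1 h2
    exact prime_unique _ _ h1 hφ₀m fun b => (h2 b).trans (hφ₀q b).symm
  -- the algebra structures
  let _ : Algebra B₀ C₀ := Algebra.TensorProduct.rightAlgebra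
  have hBu : ∀ y : q.primeCompl, IsUnit ((algebraMap C₀ C).comp (algebraMap B₀ C₀) y) := by
    intro y
    rw [RingHom.comp_apply]
    refine (IsLocalization.AtPrime.isUnit_to_map_iff C n _).2 ?_
    intro h
    exact y.2 ((hφ₀q y.1).1 h)
  let β : B →+* C := IsLocalization.lift (M := q.primeCompl) hBu
  have hβ : ∀ b : B₀, β (algebraMap B₀ B b) = algebraMap C₀ C ((1 : S) ⊗ₜ b) := fun b =>
    IsLocalization.lift_eq hBu b
  let _ : Algebra B C := β.toAlgebra
  have hABC : IsScalarTower A B C := by
    refine IsScalarTower.of_algebraMap_eq fun a => ?_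
    change algebraMap A C a = β (algebraMap A B a)
    rw [IsScalarTower.algebraMap_apply A B₀ B, hβ, IsScalarTower.algebraMap_apply A C₀ C]
    congr 1
    exact (Algebra.TensorProduct.includeRight : B₀ →ₐ[A] C₀).commutes a |>.symm
  have hmC : ∀ x : C₀, algebraMap C₀ C x ∈ maximalIdeal C ↔ x ∈ n := fun x => by
    rw [← not_iff_not, mem_maximalIdeal, mem_nonunits_iff, not_not,
      IsLocalization.AtPrime.isUnit_to_map_iff C n]
    rfl
  have hlocB : IsLocalHom (algebraMap B C) := by
    constructor
    intro b hb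
    obtain ⟨x, y, rfl⟩ := IsLocalization.exists_mk'_eq q.primeCompl b
    rw [IsLocalization.AtPrime.isUnit_mk'_iff B q]
    have h1 : IsUnit (β (algebraMap B₀ B x)) := by
      have h2 : algebraMap B₀ B x = IsLocalization.mk' B x y * algebraMap B₀ B y :=
        (IsLocalization.mk'_spec B x y).symm
      rw [h2, map_mul]
      refine hb.mul ?_
      rw [hβ]
      exact hBu y
    rw [hβ, IsLocalization.AtPrime.isUnit_to_map_iff C n] at h1
    intro hx
    exact h1 ((hφ₀q x).2 hx)
  have hlocS : IsLocalHom (algebraMap S C) := by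
    constructor
    intro s hs
    by_contra h
    have h1 : s ∈ maximalIdeal S := h
    rw [← hnS, Ideal.mem_comap] at h1
    rw [IsScalarTower.algebraMap_apply S C₀ C, IsLocalization.AtPrime.isUnit_to_map_iff C n] at hs
    exact hs h1
  have hfin : Module.Finite S C :=
    Module.Finite.of_surjective (IsScalarTower.toAlgHom S C₀ C).toLinearMap hsurj
  refine ⟨C, inferInstance, inferInstance, inferInstance, inferInstance, inferInstance, hABC,
    inferInstance, hlocB, hlocS, ⟨?_, ?_⟩, hfin⟩
  · exact Groth.Agent.UnramB.IntHensel.henselianLocalRing_of_isIntegral S C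
  · intro T _ _ f hf
    obtain ⟨φ, -, hφ1, hφ2, hφ3, hφ4⟩ := key T f hf
    have hT := huniq T f hf φ hφ3 hφ4
    have hu : ∀ y : n.primeCompl, IsUnit (φ y) := by
      intro y
      by_contra hcon
      have h1 : y.1 ∈ (maximalIdeal T).comap φ := hcon
      rw [hT] at h1
      exact y.2 h1
    let ψ : C →+* T := IsLocalization.lift (M := n.primeCompl) hu
    have hψ : ψ.comp (algebraMap C₀ C) = φ := IsLocalization.lift_comp hu
    refine ⟨ψ, ?_, ?_⟩
    · apply IsLocalization.ringHom_ext q.primeCompl
      ext b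
      change ψ (β (algebraMap B₀ B b)) = f (algebraMap B₀ B b)
      rw [hβ, ← hφ1, ← hψ]
      rfl
    · intro ψ' hψ'
      apply IsLocalization.ringHom_ext n.primeCompl
      rw [hψ]
      apply hφ2
      intro b
      rw [← hψ']
      change ψ' (algebraMap C₀ C ((1 : S) ⊗ₜ b)) = ψ' (β (algebraMap B₀ B b))
      rw [hβ]

end Main

section Inj

theorem isAlgebraic (A S : Type u) [CommRing A] [IsDomain A] [IsLocalRing A] [CommRing S] [IsLocalRing S]
    [Algebra A S] [IsLocalHom (algebraMap A S)] [Hensel.IsHenselization A S] (s : S) :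
    IsAlgebraic A s := by
  obtain ⟨E, _, _, _, χ, hχ⟩ := Hensel.Lazard.exists_etale_of_isHenselization (R := A) (S := S) {s}
  obtain ⟨e, rfl⟩ := hχ (Finset.mem_coe.2 (Finset.mem_singleton_self s))
  have h := Lefpen.H708.Trdeg.isAlgebraic_of_etale A E
  exact (h.isAlgebraic e).algHom χ

/-- A map from the henselization of a domain, injective on the domain, is injective. -/
theorem injective_of_henselization (A S C : Type u) [CommRing A] [IsDomain A] [IsLocalRing A] [CommRing S]
    [IsLocalRing S] [IsDomain S] [Algebra A S] [IsLocalHom (algebraMap A S)] [Hensel.IsHenselization A S]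
    [CommRing C] [Algebra A C] [Algebra S C] [IsScalarTower A S C]
    (h : Function.Injective (algebraMap A C)) : Function.Injective (algebraMap S C) := by
  rw [injective_iff_map_eq_zero]
  intro s hs
  by_contra hs0
  obtain ⟨a, ha, t, ht⟩ := (isAlgebraic A S s).exists_nonzero_dvd (mem_nonZeroDivisors_of_ne_zero hs0)
  apply ha
  apply h
  rw [map_zero, IsScalarTower.algebraMap_apply A S C, ht, map_mul, hs, zero_mul]

end Inj

end Groth.Agent.K382.HensFin
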