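import Groth.Agent.Models.NodeRing
import Groth.Agent.SemiFact.K793.Basic

/-!
# Open maps to `Spec D[u,v]/(uv - a)` and the branches of a node

`D` is a discrete valuation ring with uniformizer `t`. If `h : X ⟶ Spec D[u,v]/(uv - a)` is an open map and `h x` is
the origin of the special fibre, then the ideal of the special fibre of `X` at `x` is not prime.
-/

set_option autoImplicit false
universe u
open CategoryTheory CategoryTheory.Limits AlgebraicGeometry IsLocalRing

namespace Groth.Agent.K382.NodeCore

open Groth.Agent.Models.NodeRing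

variable {D : Type u} [CommRing D] [IsDomain D] [IsDiscreteValuationRing D]

/-- a relation `x = t c` between germs of global sections spreads out; at points of the neighbourhood where `t` is a
nonunit `x` is a nonunit. -/
theorem exists_nbhd {B : Type u} [CommRing B] {X : Scheme.{u}} (h : X ⟶ Spec (CommRingCat.of B)) (x : X)
    (b t : B) (hb : DualGr.stalkHom h x b ∈ Ideal.span {DualGr.stalkHom h x t}) :
    ∃ N : X.Opens, x ∈ N ∧ ∀ n ∈ N, t ∈ (h n).asIdeal → b ∈ (h n).asIdeal := by
  obtain ⟨c, hc⟩ := Ideal.mem_span_singleton'.1 hb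
  obtain ⟨V, hxV, c', rfl⟩ := X.presheaf.exists_germ_eq c
  rw [← K793.Basic.germ_sec h V x hxV, ← K793.Basic.germ_sec h V x hxV, ← map_mul] at hc
  obtain ⟨N, hN, i, j, hij⟩ := X.presheaf.germ_eq x hxV hxV _ _ hc
  refine ⟨N, hN, fun n hn ht => ?_⟩
  by_contra hcon
  rw [← K793.Basic.isUnit_stalkHom_iff] at hcon
  have h1 := congr(X.presheaf.germ N n hn $hij)
  rw [X.presheaf.germ_res_apply, X.presheaf.germ_res_apply, map_mul, K793.Basic.germ_sec,
    K793.Basic.germ_sec] at h1
  rw [← h1] at hcon
  have h2 := isUnit_of_mul_isUnit_right hcon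
  rw [K793.Basic.isUnit_stalkHom_iff] at h2
  exact h2 ht

theorem core (t : D) (ht : Irreducible t) (a : D) {X : Scheme.{u}} (h : X ⟶ Spec (CommRingCat.of (W D a)))
    (hopen : IsOpenMap h) (x : X) (hu : uu D a ∈ (h x).asIdeal) (hv : vv D a ∈ (h x).asIdeal)
    (htx : algebraMap D (W D a) t ∈ (h x).asIdeal)
    (hprime : (Ideal.span {DualGr.stalkHom h x (algebraMap D _ t)}).IsPrime) : False := by
  have hmax : maximalIdeal D = Ideal.span {t} := ht.maximalIdeal_eq
  have hta : t ∣ a := by
    rw [← Ideal.mem_span_singleton, ← hmax]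
    have hpr : ((h x).asIdeal.comap (algebraMap D (W D a))).IsPrime := (h x).isPrime.comap _
    refine (IsLocalRing.le_maximalIdeal hpr.ne_top) ?_
    change algebraMap D (W D a) a ∈ (h x).asIdeal
    rw [← uu_mul_vv]
    exact Ideal.mul_mem_left _ _ hv
  have hra : IsLocalRing.residue D a = 0 := by
    rw [IsLocalRing.residue_eq_zero_iff, hmax, Ideal.mem_span_singleton]; exact hta
  have hrt : IsLocalRing.residue D t = 0 := by
    rw [IsLocalRing.residue_eq_zero_iff, hmax]; exact Ideal.mem_span_singleton_self t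
  have hprod : DualGr.stalkHom h x (uu D a) * DualGr.stalkHom h x (vv D a) ∈
      Ideal.span {DualGr.stalkHom h x (algebraMap D _ t)} := by
    rw [← map_mul, uu_mul_vv]
    obtain ⟨c, hc⟩ := hta
    have h0 : algebraMap D (W D a) a = algebraMap D (W D a) t * algebraMap D (W D a) c := by
      rw [← map_mul, ← hc]
    rw [h0, map_mul]
    exact Ideal.mul_mem_right _ _ (Ideal.mem_span_singleton_self _)
  -- the two primes
  have key : ∀ (ψ : W D a →+* Polynomial (ResidueField D)) (b : W D a),
      (∀ d, ψ (algebraMap D _ d) = Polynomial.C (residue D d)) →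
      Polynomial.eval 0 (ψ (uu D a)) = 0 → Polynomial.eval 0 (ψ (vv D a)) = 0 → ψ b ≠ 0 →
      DualGr.stalkHom h x b ∈ Ideal.span {DualGr.stalkHom h x (algebraMap D _ t)} → False := by
    intro ψ b hψ h1 h2 h3 h4
    obtain ⟨N, hxN, hN⟩ := exists_nbhd h x b (algebraMap D _ t) h4
    let z : Spec (CommRingCat.of (W D a)) := ⟨RingHom.ker ψ, RingHom.ker_isPrime ψ⟩
    have hz : z ∈ h '' (N : Set X) := by
      have hspec : z ⤳ h x := by
        refine (PrimeSpectrum.le_iff_specializes (R := W D a) _ _).1 ?_
        change RingHom.ker ψ ≤ (h x).asIdeal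
        have hp1 := (h x).isPrime
        have hp2 : (RingHom.ker ((Polynomial.evalRingHom (0 : ResidueField D)).comp ψ)).IsPrime :=
          RingHom.ker_isPrime _
        rw [eq_span_of_mem D t ht (h x).asIdeal hu hv htx,
          ← eq_span_of_mem D t ht (RingHom.ker ((Polynomial.evalRingHom (0 : ResidueField D)).comp ψ))]
        · intro w hw
          rw [RingHom.mem_ker] at hw ⊢
          rw [RingHom.comp_apply, hw, map_zero]
        · rw [RingHom.mem_ker, RingHom.comp_apply]; exact h1
        · rw [RingHom.mem_ker, RingHom.comp_apply]; exact h2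
        · rw [RingHom.mem_ker, RingHom.comp_apply, hψ, hrt]; simp
      exact hspec.mem_open (hopen _ N.isOpen) ⟨x, hxN, rfl⟩
    obtain ⟨n, hn, hnz⟩ := hz
    have h5 := hN n hn (by
      rw [hnz]
      change algebraMap D _ t ∈ RingHom.ker ψ
      rw [RingHom.mem_ker, hψ, hrt, map_zero])
    rw [hnz] at h5
    exact h3 h5
  rcases hprime.mem_or_mem hprod with h1 | h1
  · refine key (lift (Polynomial.C.comp (residue D)) Polynomial.X 0 (by
      rw [RingHom.comp_apply, hra, map_zero, mul_zero])) (uu D a) ?_ ?_ ?_ ?_ h1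
    · intro d; rw [lift_algebraMap]; rfl
    · rw [lift_uu]; simp
    · rw [lift_vv]; simp
    · rw [lift_uu]; exact Polynomial.X_ne_zero
  · refine key (lift (Polynomial.C.comp (residue D)) 0 Polynomial.X (by
      rw [RingHom.comp_apply, hra, map_zero, zero_mul])) (vv D a) ?_ ?_ ?_ ?_ h1
    · intro d; rw [lift_algebraMap]; rfl
    · rw [lift_uu]; simp
    · rw [lift_vv]; simp
    · rw [lift_vv]; exact Polynomial.X_ne_zero

end Groth.Agent.K382.NodeCore
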