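import Groth.Agent.Models.K382.NodeCore
import Groth.Agent.Models.NodeNodal
import Groth.Agent.SemiFact.K793.Chart
import Groth.Agent.S3700
import Groth.Agent.S0115

/-!
# Universally open maps to nodal families over a discrete valuation ring
-/

set_option autoImplicit false
universe u
open CategoryTheory CategoryTheory.Limits AlgebraicGeometry IsLocalRing

namespace Groth.Agent.K382.NodeOpen

open Groth.Agent.Models.NodeRing Groth.Agent.Models.NodeBlow

/-- Smoothness at a point descends along étale maps. -/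
theorem mem_smoothLocus_of_etale {U Y S : Scheme.{u}} (e : U ⟶ Y) [Etale e] (q : Y ⟶ S)
    [LocallyOfFinitePresentation q] (u : U) (V : U.Opens) (hu : u ∈ V) (h : Smooth (V.ι ≫ e ≫ q)) :
    e u ∈ q.smoothLocus := by
  let O : Y.Opens := ⟨e '' (V : Set U), e.isOpenMap _ V.isOpen⟩
  have hr : Set.range (V.ι ≫ e) ⊆ Set.range O.ι := by
    rintro _ ⟨v, rfl⟩
    rw [Scheme.Opens.range_ι]
    exact ⟨v.1, v.2, rfl⟩
  let e' : (V : Scheme.{u}) ⟶ (O : Scheme.{u}) := IsOpenImmersion.lift O.ι (V.ι ≫ e) hr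
  have he' : e' ≫ O.ι = V.ι ≫ e := IsOpenImmersion.lift_fac _ _ _
  have h1 : Etale (e' ≫ O.ι) := by rw [he']; infer_instance
  have h2 : Etale e' := Etale.of_comp e' O.ι
  have h3 : Surjective e' := by
    constructor
    rintro ⟨_, v, hv, rfl⟩
    refine ⟨⟨v, hv⟩, ?_⟩
    apply O.ι.isOpenEmbedding.injective
    rw [← Scheme.Hom.comp_apply, he']
    rfl
  have h4 : Smooth (e' ≫ O.ι ≫ q) := by
    rw [← Category.assoc, he', Category.assoc]; exact h
  have h5 : Smooth (O.ι ≫ q) := Groth.Agent.S0115.result e' (O.ι ≫ q)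
  have h6 : O.ι ⁻¹ᵁ q.smoothLocus = ⊤ := by
    rw [Scheme.Hom.preimage_smoothLocus_eq, Scheme.Hom.smoothLocus_eq_top]
  have h7 : (⟨e u, u, hu, rfl⟩ : O) ∈ O.ι ⁻¹ᵁ q.smoothLocus := by rw [h6]; trivial
  exact h7

section Chart

variable {R : Type u} [CommRing R] {ϖ : R} {Y : Scheme.{u}} {q : Y ⟶ Spec (CommRingCat.of R)} {y : Y}
  (C : K793.Chart.NChart R ϖ q y)

theorem mem_smoothLocus_of_chart [LocallyOfFinitePresentation q]
    (V : (Spec (CommRingCat.of (W C.D C.a))).Opens) (hV : C.g C.y ∈ V)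
    (hs : Smooth (V.ι ≫ str C.D C.a)) : y ∈ q.smoothLocus := by
  rw [← C.hy]
  refine mem_smoothLocus_of_etale C.e q C.y (C.g ⁻¹ᵁ V) hV ?_
  have h1 : (C.g ⁻¹ᵁ V).ι ≫ C.e ≫ q = (C.g ∣_ V) ≫ (V.ι ≫ str C.D C.a) ≫
      Spec.map (CommRingCat.ofHom (algebraMap R C.D)) := by
    rw [← C.w]
    simp only [← Category.assoc]
    rw [morphismRestrict_ι]
  have h2 : Etale (Spec.map (CommRingCat.ofHom (algebraMap R C.D))) := by
    rw [HasRingHomProperty.Spec_iff (P := @Etale)]
    exact RingHom.etale_algebraMap.2 inferInstance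
  rw [h1]
  infer_instance

theorem uu_mem [LocallyOfFinitePresentation q] (h : y ∉ q.smoothLocus) : uu C.D C.a ∈ (C.g C.y).asIdeal := by
  by_contra hu
  obtain ⟨V, hV, hs⟩ := Groth.Agent.Models.NodeNodal.exists_smooth_uu C.D C.a (C.g C.y) hu
  exact h (mem_smoothLocus_of_chart C V hV hs)

theorem vv_mem [LocallyOfFinitePresentation q] (h : y ∉ q.smoothLocus) : vv C.D C.a ∈ (C.g C.y).asIdeal := by
  by_contra hu
  obtain ⟨V, hV, hs⟩ := Groth.Agent.Models.NodeNodal.exists_smooth_vv C.D C.a (C.g C.y) hu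
  exact h (mem_smoothLocus_of_chart C V hV hs)

end Chart

theorem stalkHom_comp {A B : Type u} [CommRing A] [CommRing B] (ψ : A →+* B) {X : Scheme.{u}}
    (h : X ⟶ Spec (CommRingCat.of B)) (x : X) (a : A) :
    DualGr.stalkHom (h ≫ Spec.map (CommRingCat.ofHom ψ)) x a = DualGr.stalkHom h x (ψ a) := by
  have h1 : Coh.toGlobal (h ≫ Spec.map (CommRingCat.ofHom ψ)) a = Coh.toGlobal h (ψ a) := by
    have h2 := congr($(Scheme.ΓSpecIso_inv_naturality (CommRingCat.ofHom ψ)) a)
    change ((h ≫ Spec.map (CommRingCat.ofHom ψ)).appTop) ((Scheme.ΓSpecIso (CommRingCat.of A)).inv a) =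
      h.appTop ((Scheme.ΓSpecIso (CommRingCat.of B)).inv (ψ a))
    rw [Scheme.Hom.comp_appTop]
    exact congrArg h.appTop h2.symm
  exact congrArg (X.presheaf.germ ⊤ x trivial) h1

/-- the ideal of the special fibre is prime at smooth points. -/
theorem isPrime_of_mem_smoothLocus {R : Type u} [CommRing R] [IsDomain R] [IsDiscreteValuationRing R] {ϖ : R}
    (hϖ : Irreducible ϖ) {X : Scheme.{u}} (p : X ⟶ Spec (CommRingCat.of R)) [LocallyOfFinitePresentation p]
    (x : X) (hx : p x = (closedPoint R : PrimeSpectrum R)) (hs : x ∈ p.smoothLocus) :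
    (Ideal.span {DualGr.stalkHom p x ϖ}).IsPrime := by
  rw [← K793.Basic.fibIdeal_eq_span p x hϖ hx]
  have h1 : IsRegularLocalRing (CInt.fiberStalk p x) := Groth.Agent.S3700.isRegularLocalRing_fiberStalk p x hs
  have h2 : IsDomain ((p.fiber (p x)).presheaf.stalk (p.asFiber x)) := by
    have h1' : IsRegularLocalRing ((p.fiber (p x)).presheaf.stalk (p.asFiber x)) := h1
    exact Groth.Agent.CalgA.RegBasic.isDomain _
  have h3 : (Groth.Agent.CycB.FiberStalk.fibIdeal p (p.fiberι (p x) (p.asFiber x))).IsPrime := by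
    rw [← Groth.Agent.CycB.FiberStalk.ker_stalkMap_fiberι]
    exact RingHom.ker_isPrime _
  rwa [p.fiberι_asFiber] at h3

/-- Let `φ : X ⟶ Y` be a universally open morphism over a discrete valuation ring with `Y` a nodal family. Then `X` is
not smooth at the points of the special fibre over the nodes of `Y`. -/
theorem notMem_smoothLocus {R : Type u} [CommRing R] [IsDomain R] [IsDiscreteValuationRing R] {ϖ : R}
    (hϖ : Irreducible ϖ) {X Y : Scheme.{u}} (p : X ⟶ Spec (CommRingCat.of R)) [LocallyOfFinitePresentation p]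
    (q : Y ⟶ Spec (CommRingCat.of R)) (hq : Curv2.IsNodalFamily q) [LocallyOfFinitePresentation q]
    (φ : X ⟶ Y) (hφ : φ ≫ q = p) [UniversallyOpen φ] (x : X)
    (hx : p x = (closedPoint R : PrimeSpectrum R)) (hy : φ x ∉ q.smoothLocus) : x ∉ p.smoothLocus := by
  intro hxs
  have hqx : q (φ x) = (closedPoint R : PrimeSpectrum R) := by
    rw [← hx, ← hφ]; rfl
  obtain ⟨C⟩ := K793.Chart.exists_nchart hϖ q hq (φ x) hqx
  obtain ⟨x', h1, h2⟩ := Scheme.Pullback.exists_preimage_pullback (f := φ) (g := C.e) x C.y C.hy.symm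
  let h := pullback.snd φ C.e ≫ C.g
  have hw : pullback.fst φ C.e ≫ p = (h ≫ Spec.map (CommRingCat.ofHom (algebraMap C.D (W C.D C.a)))) ≫
      Spec.map (CommRingCat.ofHom (algebraMap R C.D)) := by
    rw [← hφ, ← Category.assoc, pullback.condition, Category.assoc, ← C.w]
    simp only [Category.assoc, h]
  have hhx : h x' = C.g C.y := by
    change C.g (pullback.snd φ C.e x') = _
    rw [h2]
  have ht : algebraMap C.D (W C.D C.a) C.t ∈ (C.g C.y).asIdeal := by
    rw [C.t_mem_iff hϖ, C.hy]; exact hqx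
  refine NodeCore.core C.t C.irr C.a h ?_ x' ?_ ?_ ?_ ?_
  · have h3 : UniversallyOpen h := by infer_instance
    exact h.isOpenMap
  · rw [hhx]; exact uu_mem C hy
  · rw [hhx]; exact vv_mem C hy
  · rw [hhx]; exact ht
  · rw [← stalkHom_comp, ← stalkHom_comp, ← hw]
    have h4 : LocallyOfFinitePresentation (pullback.fst φ C.e) := by infer_instance
    refine isPrime_of_mem_smoothLocus hϖ (pullback.fst φ C.e ≫ p) x' ?_ ?_
    · rw [Scheme.Hom.comp_apply, h1]; exact hx
    · rw [Scheme.Hom.mem_smoothLocus, Scheme.Hom.stalkMap_comp]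
      have h5 : (pullback.fst φ C.e) x' ∈ p.smoothLocus := by rw [h1]; exact hxs
      have h6 : x' ∈ (pullback.fst φ C.e).smoothLocus := by
        rw [Scheme.Hom.smoothLocus_eq_top]; trivial
      exact RingHom.FormallySmooth.comp (Scheme.Hom.mem_smoothLocus.1 h5) (Scheme.Hom.mem_smoothLocus.1 h6)

end Groth.Agent.K382.NodeOpen
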