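import Groth.Agent.Models.K382.PtDeg
import Groth.Agent.Models.H56.RedFib
import Groth.Agent.Models.H65.PicDeg
import Groth.Agent.Models.H45.RedProd
import Groth.Agent.VarietyB.DimTop
import Groth.Agent.S2878

/-!
# Invertible modules of degree one on one component of the closed fibre and zero on the others

`X → Spec R` proper flat with `X` regular, `R` a Henselian discrete valuation ring with algebraically closed residue field.
* `exists_point`: a closed point of `Γ_i` in its smooth locus which lies on no other component.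
* `bijective_stalkMap_comp`: there `Γ_i → (X_k)_red` is a local isomorphism.
* `exists_invertible`: the invertible module.
-/

set_option autoImplicit false
universe u

open CategoryTheory CategoryTheory.Limits AlgebraicGeometry Opposite TopologicalSpace

namespace Groth.Agent.K382.PicOne

open Groth.Agent.Models.H56.RedFib Groth.Agent.Divis.CartierBasic Groth.Agent.Divis.CartierStalk

variable {R : Type u} [CommRing R] [IsDomain R] [IsDiscreteValuationRing R]
  {X : Scheme.{u}} (p : X ⟶ Spec (CommRingCat.of R))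
  {n : ℕ} {Γ : Fin n → ArSurf.VertComp R (Over.mk p)}

/-- The local ring of a curve at a closed point of its smooth locus is a discrete valuation ring. -/
theorem isDVR_of_smooth {k : Type u} [Field k] {Z : Scheme.{u}} [IsIntegral Z]
    (f : Z ⟶ Spec (CommRingCat.of k)) [LocallyOfFinitePresentation f]
    (hdim : topologicalKrullDim Z = 1) (x : Z) (hx : IsClosed ({x} : Set Z)) (h : x ∈ f.smoothLocus) :
    IsDiscreteValuationRing (Z.presheaf.stalk x) := by
  let _ : Z.Over (Spec (CommRingCat.of k)) := ⟨f⟩
  have : LocallyOfFinitePresentation (Z ↘ (Spec (CommRingCat.of k))) := ‹LocallyOfFinitePresentation f›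
  have h1 : IsRegularLocalRing (Z.presheaf.stalk x) :=
    Groth.Agent.VarietyA.RegSmoothSch.isRegularLocalRing_stalk_of_mem_smoothLocus f x h
  have h2 := Groth.Agent.VarietyA.SmoothReg.ringKrullDim_stalk_le Z x
  have h3 := Groth.Agent.VarietyA.SmoothReg.not_isField_stalk_of_isClosed Z x hx
    (by rw [hdim]; exact zero_lt_one)
  rw [hdim] at h2
  have h4 : ringKrullDim (Z.presheaf.stalk x) = 1 := by
    apply le_antisymm h2
    by_contra h5
    apply h3
    have h6 : Ring.KrullDimLE 0 (Z.presheaf.stalk x) := by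
      rw [Ring.krullDimLE_iff]
      generalize ringKrullDim (Z.presheaf.stalk x) = d at h5
      induction d using WithBot.recBotCoe with
      | bot => exact bot_le
      | coe d =>
        have h7 : d < 1 := by
          rw [not_le] at h5
          exact_mod_cast h5
        rw [Order.lt_one_iff] at h7
        rw [h7]
        exact le_rfl
    exact Ring.KrullDimLE.isField_of_isDomain
  exact Groth.Agent.VarietyA.SmoothReg.isDiscreteValuationRing_of_isRegularLocalRing _ h4

theorem genericPoint_notMem (hΓ : Models.IsComponentList R (Over.mk p) Γ) {i j : Fin n} (hij : i ≠ j) :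
    (Γ i).ι (genericPoint (Γ i).curve.left) ∉ Set.range (Γ j).ι := by
  intro h
  apply hij
  have hcl : IsClosed (Set.range (Γ j).ι) := (Γ j).ι.isClosedEmbedding.isClosed_range
  have h1 : Set.range (Γ i).ι ⊆ Set.range (Γ j).ι := by
    rintro _ ⟨z, rfl⟩
    exact ((genericPoint_specializes z).map (Γ i).ι.continuous).mem_closed hcl h
  have hi : Set.range (Γ i).ι ∈ Models.fibreComponents R (Over.mk p) := hΓ.2 ▸ ⟨i, rfl⟩
  have hj : Set.range (Γ j).ι ∈ Models.fibreComponents R (Over.mk p) := hΓ.2 ▸ ⟨j, rfl⟩
  exact hΓ.1 (Set.Subset.antisymm h1 (hi.2 hj.1 h1))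

/-- A closed point of `Γ_i` in its smooth locus which lies on no other component. -/
theorem exists_point [IsProper p] [PerfectField (IsLocalRing.ResidueField R)]
    (hΓ : Models.IsComponentList R (Over.mk p) Γ) (i : Fin n)
    [LocallyOfFinitePresentation (Γ i).curve.hom] :
    ∃ y : (Γ i).curve.left, IsClosed ({y} : Set (Γ i).curve.left) ∧ y ∈ (Γ i).curve.hom.smoothLocus ∧
      ∀ j, i ≠ j → (Γ i).ι y ∉ Set.range (Γ j).ι := by
  let U : Set (Γ i).curve.left := (Γ i).curve.hom.smoothLocus ∩
    ⋂ j : {j // i ≠ j}, ((Γ i).ι ⁻¹' (Set.range (Γ j.1).ι))ᶜ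
  have hU : IsOpen U := by
    refine (Γ i).curve.hom.smoothLocus.isOpen.inter (isOpen_iInter_of_finite fun j => ?_)
    exact ((Γ j.1).ι.isClosedEmbedding.isClosed_range.preimage (Γ i).ι.continuous).isOpen_compl
  have hne : U.Nonempty := by
    refine ⟨genericPoint (Γ i).curve.left, ?_, ?_⟩
    · have h1 := Scheme.Hom.dense_smoothLocus_of_perfectField (Γ i).curve.hom
      obtain ⟨z, hz⟩ := h1.nonempty
      exact (genericPoint_specializes z).mem_open (Γ i).curve.hom.smoothLocus.isOpen hz
    · rw [Set.mem_iInter]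
      intro j
      exact genericPoint_notMem p hΓ j.2
  have hJ : JacobsonSpace (Γ i).curve.left := LocallyOfFiniteType.jacobsonSpace (Γ i).curve.hom
  obtain ⟨y, hy, hyc⟩ := nonempty_inter_closedPoints hne hU.isLocallyClosed
  refine ⟨y, hyc, hy.1, fun j hj => ?_⟩
  have := Set.mem_iInter.mp hy.2 ⟨j, hj⟩
  exact this

/-- Away from the other components `Γ_i → (X_k)_red` is an isomorphism on local rings. -/
theorem bijective_stalkMap_comp [Flat p] [LocallyOfFiniteType p] (hreg : Models.IsRegularScheme X)
    (hΓ : Models.IsComponentList R (Over.mk p) Γ) (i : Fin n) (y : (Γ i).curve.left)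
    (hy : ∀ j, i ≠ j → (Γ i).ι y ∉ Set.range (Γ j).ι) :
    Function.Bijective ((comp p (Γ i)).stalkMap y).hom := by
  classical
  refine ⟨?_, (comp p (Γ i)).stalkMap_surjective y⟩
  rw [injective_iff_map_eq_zero]
  intro a ha
  obtain ⟨b, rfl⟩ := (incl p).stalkMap_surjective (comp p (Γ i) y) a
  have h1 : ((comp p (Γ i) ≫ incl p).stalkMap y).hom b = 0 := by
    rw [Scheme.Hom.stalkMap_comp]
    exact ha
  have hcl : IsClosedImmersion (comp p (Γ i) ≫ incl p) := inferInstance
  have h2 : b ∈ stalkIdeal (comp p (Γ i) ≫ incl p).ker ((comp p (Γ i) ≫ incl p) y) := by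
    rw [← ker_stalkMap]
    exact h1
  have hpt : (comp p (Γ i) ≫ incl p) y = (Γ i).ι y := by
    rw [comp_incl]
  have h3 : stalkIdeal (comp p (Γ i) ≫ incl p).ker ((comp p (Γ i) ≫ incl p) y) =
      stalkIdeal (Models.redFibreIdeal R (Over.mk p)) ((comp p (Γ i) ≫ incl p) y) := by
    have hN : Flat (Over.mk p).hom := inferInstanceAs (Flat p)
    have hL : LocallyOfFiniteType (Over.mk p).hom := inferInstanceAs (LocallyOfFiniteType p)
    rw [← Models.H45.RedProd.prod_ker_eq (X := Over.mk p) hreg hΓ,
      Models.H36.FibreFact.stalkIdeal_prod, ← Finset.mul_prod_erase _ _ (Finset.mem_univ i)]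
    have h4 : ∏ j ∈ Finset.univ.erase i, stalkIdeal (Γ j).ι.ker ((comp p (Γ i) ≫ incl p) y) = 1 := by
      refine Finset.prod_eq_one fun j hj => ?_
      rw [Ideal.one_eq_top]
      refine (notMem_support_iff_stalkIdeal_eq_top _ _).1 ?_
      rw [Dix.VertGeom.mem_support_ker_iff, hpt]
      exact hy j (Finset.ne_of_mem_erase hj).symm
    rw [h4, mul_one, comp_incl]
  rw [h3] at h2
  have h5 : b ∈ RingHom.ker ((incl p).stalkMap (comp p (Γ i) y)).hom := by
    rw [ker_stalkMap_subschemeι]
    exact h2
  exact h5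

theorem dim_le [IsProper p] (hΓ : Models.IsComponentList R (Over.mk p) Γ) :
    topologicalKrullDim (p.fiber (IsLocalRing.closedPoint R)) ≤ 1 := by
  have h1 : topologicalKrullDim (Y p) ≤ 1 := by
    rw [VarietyB.DimTop.topologicalKrullDim_eq_iSup_irreducibleComponents]
    refine iSup_le fun Z => ?_
    obtain ⟨T, hT⟩ := Z
    rw [← range_comp_eq p hΓ] at hT
    obtain ⟨i, rfl⟩ := hT
    have h2 := (comp p (Γ i)).isClosedEmbedding.isEmbedding
    have h3 := IsHomeomorph.topologicalKrullDim_eq _ h2.toHomeomorph.isHomeomorph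
    exact (h3.symm.trans (Γ i).dim_eq).le
  -- the fibre is homeomorphic to `Y`
  have h2 : Set.range (incl p) = p ⁻¹' {IsLocalRing.closedPoint R} := range_incl p
  have e1 := (incl p).isClosedEmbedding.isEmbedding.toHomeomorph
  have e2 := p.fiberHomeo (IsLocalRing.closedPoint R)
  have h3 : topologicalKrullDim (p.fiber (IsLocalRing.closedPoint R)) =
      topologicalKrullDim (p ⁻¹' {IsLocalRing.closedPoint R}) :=
    IsHomeomorph.topologicalKrullDim_eq _ e2.isHomeomorph
  have h4 : topologicalKrullDim (Y p) = topologicalKrullDim (Set.range (incl p)) :=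
    IsHomeomorph.topologicalKrullDim_eq _ e1.isHomeomorph
  rw [h3, ← h2, ← h4]
  exact h1

/-- An invertible module of degree one on `Γ_i` and zero on the other components. -/
theorem exists_invertible [HenselianLocalRing R] [IsAlgClosed (IsLocalRing.ResidueField R)]
    [IsProper p] [Flat p] (hreg : Models.IsRegularScheme X)
    (hΓ : Models.IsComponentList R (Over.mk p) Γ) (i : Fin n) :
    ∃ M : X.Modules, PicF.IsInvertible M ∧
      ∀ j : Fin n, ArSurf.inter R (Over.mk p) M (Γ j) = if j = i then 1 else 0 := by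
  classical
  have hpr : IsProper (Over.mk p).hom := inferInstanceAs (IsProper p)
  have hstr := isProper_str p
  have hcp : ∀ j, IsProper (Γ j).curve.hom := fun j =>
    Models.H65.PicDeg.isProper_curve (X := Over.mk p) (Γ j)
  have hlfp : ∀ j, LocallyOfFinitePresentation (Γ j).curve.hom := fun j => inferInstance
  obtain ⟨y, hyc, hys, hyj⟩ := exists_point p hΓ i
  let s : Spec (CommRingCat.of (IsLocalRing.ResidueField R)) ⟶ (Γ i).curve.left :=
    pointOfClosedPoint (Γ i).curve.hom y hyc
  have hs : s ≫ (Γ i).curve.hom = 𝟙 _ := pointOfClosedPoint_comp _ _ _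
  have hsc : IsClosedImmersion s := by
    have : IsClosedImmersion (s ≫ (Γ i).curve.hom) := by rw [hs]; infer_instance
    exact IsClosedImmersion.of_comp s (Γ i).curve.hom
  have hN : IsLocallyNoetherian (Y p) := LocallyOfFiniteType.isLocallyNoetherian (str p)
  let c := comp p (Γ i)
  -- the local ring of `Y` at the point
  have hbij := bijective_stalkMap_comp p hreg hΓ i y hyj
  have hdom : IsDomain ((Y p).presheaf.stalk (c y)) :=
    (RingEquiv.ofBijective _ hbij).toMulEquiv.isDomain _
  have hdvr0 : IsDiscreteValuationRing ((Γ i).curve.left.presheaf.stalk y) :=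
    isDVR_of_smooth (Γ i).curve.hom (Γ i).dim_eq y hyc hys
  have hdvr : IsDiscreteValuationRing ((Y p).presheaf.stalk (c y)) :=
    IsDiscreteValuationRing.RingEquivClass.isDiscreteValuationRing (RingEquiv.ofBijective _ hbij).symm
  have hsy : (s ≫ c) (IsLocalRing.closedPoint _) = c y := by
    rw [Scheme.Hom.comp_apply]
    congr 1
    exact pointOfClosedPoint_apply _ _ _ _
  have hD : BlowUp.IsEffCartierIdeal (s ≫ c).ker := PtDeg.isEff_ker (s ≫ c) (c y) hsy
  obtain ⟨N, hN, ⟨e⟩⟩ := Grpsch.PicGrp.exists_inverse (Dix.IdealModCartier.isInvertible_idealMod hD)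
  have hinv : ClSub.IsInverseOf N (ClSub.idealMod (s ≫ c).ker) := ⟨Ega2.Tens.swap _ _ ≪≫ e⟩
  have hlfp' : LocallyOfFinitePresentation (incl p ≫ p) := inferInstance
  obtain ⟨M, hM, ⟨e'⟩⟩ := Groth.Agent.S2878.result R p (dim_le p hΓ) (incl p) (range_incl p) N hN
  refine ⟨M, hM, fun j => ?_⟩
  rw [Models.H65.PicDeg.inter_eq (X := Over.mk p)]
  have e2 : (Scheme.Modules.pullback (Γ j).ι).obj M ≅
      (Scheme.Modules.pullback (comp p (Γ j))).obj N :=
    (Scheme.Modules.pullbackCongr (comp_incl p (Γ j)).symm).app M ≪≫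
      (Scheme.Modules.pullbackComp (comp p (Γ j)) (incl p)).symm.app M ≪≫
      (Scheme.Modules.pullback (comp p (Γ j))).mapIso e'
  have := Models.H65.PicDeg.isProper_curve (X := Over.mk p) (Γ j)
  rw [Dix.InterNum.deg_congr _ _ (Γ j).dim_eq e2]
  have hsupp : ∀ z, z ∈ (s ≫ c).ker.support → z = c y := by
    intro z hz
    rw [Dix.VertGeom.mem_support_ker_iff] at hz
    obtain ⟨w, rfl⟩ := hz
    rw [← hsy]
    congr 1
    exact Subsingleton.elim _ _
  split_ifs with hji
  · subst hji
    refine PtDeg.deg_eq_one (Γ j).dim_eq (comp p (Γ j)) s hs hD ?_ hinv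
    intro h
    have h1 : genericPoint (Γ j).curve.left = y :=
      (comp p (Γ j)).isClosedEmbedding.injective (hsupp _ h)
    rw [← h1] at hyc
    have h2 : ∀ z : (Γ j).curve.left, z = genericPoint (Γ j).curve.left := fun z =>
      (genericPoint_specializes z).mem_closed hyc rfl
    have h3 : Subsingleton (Γ j).curve.left := ⟨fun a b => (h2 a).trans (h2 b).symm⟩
    have h4 : topologicalKrullDim (Γ j).curve.left ≤ 0 := by
      have h5 : DiscreteTopology (Γ j).curve.left := inferInstance
      exact topologicalKrullDim_zero_of_discreteTopology _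
    rw [(Γ j).dim_eq] at h4
    exact absurd h4 (not_le.2 zero_lt_one)
  · refine PtDeg.deg_eq_zero (Γ j).dim_eq (comp p (Γ j)) hD ?_ hinv
    intro z hz
    apply hyj j (Ne.symm hji)
    refine ⟨z, ?_⟩
    have h1 := congrArg (incl p) (hsupp _ hz)
    rw [← Scheme.Hom.comp_apply, comp_incl, ← Scheme.Hom.comp_apply, comp_incl] at h1
    exact h1

end Groth.Agent.K382.PicOne
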