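import Groth.Agent.Dix.InterSurf
import Groth.Agent.Divis.CartierStalk
import Groth.Agent.S1556
import Mathlib.AlgebraicGeometry.AlgClosed.Basic

/-!
# The effective divisor of a rational point on a curve

* `deg_pullback`: degree of the pullback of `O(D)` along a map from a curve whose generic point does not
  go to the support of `D`.
* `isEff_ker`: a rational point whose local ring is a discrete valuation ring is an effective Cartier divisor.
* `deg_eq_one`, `deg_eq_zero`: the degree of `O(y)` on the component through `y` and on the others.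
-/

set_option autoImplicit false
universe u

open CategoryTheory CategoryTheory.Limits AlgebraicGeometry Opposite TopologicalSpace

namespace Groth.Agent.K382.PtDeg

open Groth.Agent.Dix.InterSurf Groth.Agent.Dix.InterNum Groth.Agent.Dix.IdealModCartier
  Groth.Agent.Divis.CartierBasic Groth.Agent.Divis.CartierStalk

variable {k : Type u} [Field k] {Y Z : Scheme.{u}}

/-- The local rings of the spectrum of a field are fields. -/
theorem isField_stalk_spec {A : Type u} [Field A] (z : Spec (CommRingCat.of A)) :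
    IsField ((Spec (CommRingCat.of A)).presheaf.stalk z) := by
  have hf : IsField Γ(Spec (CommRingCat.of A), ⊤) :=
    MulEquiv.isField (Field.toIsField A)
      (Scheme.ΓSpecIso (CommRingCat.of A)).commRingCatIsoToRingEquiv.toMulEquiv
  let := (Spec (CommRingCat.of A)).presheaf.algebra_section_stalk
    (⟨z, trivial⟩ : (⊤ : (Spec (CommRingCat.of A)).Opens))
  have hloc := (isAffineOpen_top (Spec (CommRingCat.of A))).isLocalization_stalk ⟨z, trivial⟩
  have h := IsField.localization_map_bijective (Rₘ := (Spec (CommRingCat.of A)).presheaf.stalk z)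
    (M := ((isAffineOpen_top (Spec (CommRingCat.of A))).primeIdealOf ⟨z, trivial⟩).asIdeal.primeCompl)
    (fun h0 => h0 (Ideal.zero_mem _)) hf
  exact MulEquiv.isField hf (RingEquiv.ofBijective _ h).symm.toMulEquiv

section Deg

variable [Z.Over (Spec (CommRingCat.of k))] [IsIntegral Z] [IsProper (Z ↘ (Spec (CommRingCat.of k)))]

theorem deg_pullback (hdim : topologicalKrullDim Z = 1) (c : Z ⟶ Y) {D : Y.IdealSheafData}
    (hD : BlowUp.IsEffCartierIdeal D) (h : c (genericPoint Z) ∉ D.support) {L : Y.Modules}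
    (hL : ClSub.IsInverseOf L (ClSub.idealMod D)) :
    Curv2.deg k Z ((Scheme.Modules.pullback c).obj L) 1 =
      (h0 ((D.comap c).subschemeι ≫ (Z ↘ (Spec (CommRingCat.of k)))) : ℤ) := by
  have hD' := isEff_comap_of_generic c hD h
  obtain ⟨e⟩ := pullback_idealMod c hD hD'
  have h1 := isInverseOf_congr (isInverseOf_pullback c hL) e
  rw [deg_of_effCartier k Z hdim _ hD' _ h1, finrank_quotMod]

theorem deg_eq_one (hdim : topologicalKrullDim Z = 1) (c : Z ⟶ Y) [IsClosedImmersion c]
    (s : Spec (CommRingCat.of k) ⟶ Z) (hs : s ≫ (Z ↘ (Spec (CommRingCat.of k))) = 𝟙 _)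
    [IsClosedImmersion s]
    (hD : BlowUp.IsEffCartierIdeal (s ≫ c).ker) (h : c (genericPoint Z) ∉ (s ≫ c).ker.support)
    {L : Y.Modules} (hL : ClSub.IsInverseOf L (ClSub.idealMod (s ≫ c).ker)) :
    Curv2.deg k Z ((Scheme.Modules.pullback c).obj L) 1 = 1 := by
  rw [deg_pullback hdim c hD h hL]
  have h1 : (((s ≫ c).ker.comap c).subschemeι ≫ c).ker = (s ≫ c).ker := by
    change ((s ≫ c).ker.comap c).map c = _
    rw [map_comap_of_closed]
    exact sup_eq_right.2 (Scheme.Hom.le_ker_comp s c)
  obtain ⟨e, he⟩ := exists_iso_of_ker_eq _ _ h1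
  have he' : e.hom ≫ s = ((s ≫ c).ker.comap c).subschemeι := by
    rw [← cancel_mono c, Category.assoc, he]
  have h2 : h0 (((s ≫ c).ker.comap c).subschemeι ≫ (Z ↘ (Spec (CommRingCat.of k)))) =
      h0 (𝟙 (Spec (CommRingCat.of k))) := by
    refine h0_congr _ _ e ?_
    rw [← he', Category.assoc, hs]
  rw [h2]
  have h3 : h0 (𝟙 (Spec (CommRingCat.of k))) = 1 := by
    let m1 : Module k Γ(Spec (CommRingCat.of k), ⊤) :=
      Module.compHom Γ(Spec (CommRingCat.of k), ⊤) (glo (𝟙 (Spec (CommRingCat.of k))))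
    have hglo : (glo (𝟙 (Spec (CommRingCat.of k))) : k → Γ(Spec (CommRingCat.of k), ⊤)) =
        (Scheme.ΓSpecIso (CommRingCat.of k)).inv.hom := by
      ext t
      change (𝟙 (Spec (CommRingCat.of k)) : Spec (CommRingCat.of k) ⟶ _).appTop.hom
        ((Scheme.ΓSpecIso (CommRingCat.of k)).inv.hom t) = _
      simp
    let E : k ≃+ Γ(Spec (CommRingCat.of k), ⊤) :=
      (Scheme.ΓSpecIso (CommRingCat.of k)).symm.commRingCatIsoToRingEquiv.toAddEquiv
    let E' : k ≃ₗ[k] Γ(Spec (CommRingCat.of k), ⊤) :=
      { E with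
        map_smul' := by
          intro a b
          change (Scheme.ΓSpecIso (CommRingCat.of k)).inv.hom (a * b) =
            glo (𝟙 (Spec (CommRingCat.of k))) a * (Scheme.ΓSpecIso (CommRingCat.of k)).inv.hom b
          rw [hglo, map_mul] }
    change Module.finrank k Γ(Spec (CommRingCat.of k), ⊤) = 1
    rw [← E'.finrank_eq, Module.finrank_self]
  rw [h3]
  rfl

theorem deg_eq_zero (hdim : topologicalKrullDim Z = 1) (c : Z ⟶ Y) {D : Y.IdealSheafData}
    (hD : BlowUp.IsEffCartierIdeal D) (h : ∀ z, c z ∉ D.support)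
    {L : Y.Modules} (hL : ClSub.IsInverseOf L (ClSub.idealMod D)) :
    Curv2.deg k Z ((Scheme.Modules.pullback c).obj L) 1 = 0 := by
  rw [deg_pullback hdim c hD (h _) hL]
  have h1 : IsEmpty (D.comap c).subscheme := by
    refine ⟨fun z => ?_⟩
    have h2 : (D.comap c).subschemeι z ∈ Set.range (D.comap c).subschemeι := ⟨z, rfl⟩
    rw [Scheme.IdealSheafData.range_subschemeι, Scheme.IdealSheafData.support_comap] at h2
    exact h _ h2
  have h2 : Subsingleton Γ((D.comap c).subscheme, ⊤) := by
    have hb : (⊤ : (D.comap c).subscheme.Opens) = ⊥ := by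
      ext x
      exact h1.elim x
    rw [hb]
    infer_instance
  have h3 : h0 ((D.comap c).subschemeι ≫ (Z ↘ (Spec (CommRingCat.of k)))) = 0 := by
    let m1 : Module k Γ((D.comap c).subscheme, ⊤) :=
      Module.compHom Γ((D.comap c).subscheme, ⊤)
        (glo ((D.comap c).subschemeι ≫ (Z ↘ (Spec (CommRingCat.of k)))))
    change Module.finrank k Γ((D.comap c).subscheme, ⊤) = 0
    exact Module.finrank_zero_of_subsingleton
  rw [h3]
  rfl

end Deg

theorem isEff_ker [IsLocallyNoetherian Y] (t : Spec (CommRingCat.of k) ⟶ Y) [IsClosedImmersion t]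
    (y : Y) (hy : t (IsLocalRing.closedPoint k) = y) [IsDomain (Y.presheaf.stalk y)]
    [IsDiscreteValuationRing (Y.presheaf.stalk y)] : BlowUp.IsEffCartierIdeal t.ker := by
  subst hy
  apply isEffCartierIdeal_of_stalkIdeal
  intro x hx
  have hx' : x ∈ Set.range t := (Dix.VertGeom.mem_support_ker_iff t x).1 hx
  obtain ⟨z, rfl⟩ := hx'
  obtain rfl : z = IsLocalRing.closedPoint k := Subsingleton.elim _ _
  obtain ⟨ϖ, hϖ⟩ := IsDiscreteValuationRing.exists_irreducible (Y.presheaf.stalk (t (IsLocalRing.closedPoint k)))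
  refine ⟨ϖ, mem_nonZeroDivisors_of_ne_zero hϖ.ne_zero, ?_⟩
  rw [← ker_stalkMap, ← hϖ.maximalIdeal_eq]
  have hF : IsField ((Spec (CommRingCat.of k)).presheaf.stalk (IsLocalRing.closedPoint k)) :=
    isField_stalk_spec _
  have h5 : (RingHom.ker (t.stalkMap (IsLocalRing.closedPoint k)).hom).IsMaximal := by
    let _ := hF.toField
    exact RingHom.ker_isMaximal_of_surjective _ (t.stalkMap_surjective _)
  exact IsLocalRing.eq_maximalIdeal h5

end Groth.Agent.K382.PtDeg
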